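import Cfsg.Agent.Lib.TwoTransOdd.Wide
import Cfsg.Agent.Lib.WalterUse.Engine
import Cfsg.Agent.Lib.DicksonFull.Subgroups
import Cfsg.Agent.Lib.SCNonCyclic.Psl
import Cfsg.Agent.Lib.SmallOrder
import Cfsg.Agent.Lib.Bender.GoodAll
import Cfsg.Agent.Lib.TwoByTwo
import Cfsg.Agent.S1169

/-!
A 2-central involution fixing several points does not have the plain structure: the involutions of a Sylow subgroup
would form a strongly closed abelian subgroup, so the group would have a strongly embedded subgroup (then the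
centraliser has a normal Sylow subgroup) or abelian Sylow subgroups (L₂, Ree type, or the order of Janko's group,
none of which acts this way).

Blueprint: `blueprint/S3120.md`, B.
-/

set_option autoImplicit false
set_option linter.unusedSectionVars false
set_option linter.style.haveILetI false

universe u v

namespace CfsgLib.TwoTransOdd

open MulAction
open CfsgLib.Bender.TwoClosed (IsInv)
open CfsgLib.Bender.Assembly (orderOf_two isInv_of_orderOf)
open CfsgLib.CoreKill (inCent inCent_comm isInv_sub)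

variable {M : Type u} [Group M] [Finite M] {Ω : Type v} [Finite Ω] [MulAction M Ω]

local notation "PSL₂[" K "]" => Matrix.ProjectiveSpecialLinearGroup (Fin 2) K

theorem z2_cases : ∀ z : Multiplicative (ZMod 2), z = 1 ∨ z = Multiplicative.ofAdd 1 := by decide

theorem j1_degree {n : ℕ} (h1 : n * (n - 1) ∣ 29260) (h2 : 1 < n) (h3 : ¬ 7 ∣ n) (h4 : n ∣ 7315) :
    n = 5 ∨ n = 11 := by
  have key : ∀ m ∈ Finset.range 200, m * (m - 1) ∣ 29260 → 1 < m → ¬ 7 ∣ m → m ∣ 7315 → m = 5 ∨ m = 11 := by decide +kernel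
  refine key n (Finset.mem_range.mpr ?_) h1 h2 h3 h4
  by_contra hn
  have := Nat.le_of_dvd (by norm_num) h1
  have : 199 * 199 ≤ n * (n - 1) := Nat.mul_le_mul (by omega) (by omega)
  omega

namespace Act

variable (h : Act M Ω)
include h

/-- All stabilisers contain equally many involutions. -/
theorem incidences {f : ℕ} (hf : ∀ v : M, IsInv v → Nat.card {c : Ω // v • c = c} = f) (a : Ω) :
    Nat.card Ω * Nat.card {v : M // IsInv v ∧ v • a = a} = Nat.card {v : M // IsInv v} * f := by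
  classical
  haveI := Fintype.ofFinite M
  haveI := Fintype.ofFinite Ω
  have key : ∀ c : Ω, Nat.card {v : M // IsInv v ∧ v • c = c} = Nat.card {v : M // IsInv v ∧ v • a = a} := fun c => by
    obtain ⟨m, rfl⟩ := h.trans a c
    refine (Nat.card_congr (Equiv.subtypeEquiv (MulAut.conj m).toEquiv fun v => ?_)).symm
    show _ ↔ IsInv (m * v * m⁻¹) ∧ (m * v * m⁻¹) • m • a = m • a
    refine and_congr ⟨fun hv => hv.conj m, fun hv => ?_⟩ ⟨fun e => fix_conj rfl e, fun e => ?_⟩
    · have := hv.conj m⁻¹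
      rwa [show m⁻¹ * (m * v * m⁻¹) * m⁻¹⁻¹ = v by group] at this
    · rwa [mul_smul, mul_smul, inv_smul_smul, smul_left_cancel_iff] at e
  have h1 : Nat.card (Σ c : Ω, {v : M // IsInv v ∧ v • c = c}) =
      Nat.card Ω * Nat.card {v : M // IsInv v ∧ v • a = a} := by
    rw [Nat.card_sigma, Finset.sum_congr rfl fun c _ => key c, Finset.sum_const, Finset.card_univ, smul_eq_mul,
      Nat.card_eq_fintype_card (α := Ω)]
  have h2 : Nat.card (Σ v : {v : M // IsInv v}, {c : Ω // v.1 • c = c}) = Nat.card {v : M // IsInv v} * f := by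
    rw [Nat.card_sigma, Finset.sum_congr rfl fun v _ => hf v.1 v.2, Finset.sum_const, Finset.card_univ, smul_eq_mul,
      ← Nat.card_eq_fintype_card]
  rw [← h1, ← h2]
  exact Nat.card_congr {
    toFun := fun x => ⟨⟨x.2.1, x.2.2.1⟩, ⟨x.1, x.2.2.2⟩⟩
    invFun := fun x => ⟨x.2.1, ⟨x.1.1, x.1.2, x.2.2⟩⟩
    left_inv := fun _ => rfl
    right_inv := fun _ => rfl }

variable {t : M} (ht : IsInv t) {a : Ω} (hta : t • a = a) (hw : Wide2 Ω t)
include ht hta hw

/-- No strongly embedded subgroup. -/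
theorem no_se {H : Subgroup M} (hse : Cfsg.IsStronglyEmbedded H) : False := by
  haveI := h.simple
  haveI := Fact.mk Nat.prime_two
  have h4 := CfsgLib.Bender.hasFour_of_simple hse
  haveI := CfsgLib.Bender.faithful (CfsgLib.Bender.normalCore_eq_bot hse)
  have hone := CfsgLib.Bender.Assembly.oneFix hse h4
  obtain ⟨c, hc, huniq⟩ := hone.one_fix t ht
  obtain ⟨s, Q, hS, -⟩ := CfsgLib.Bender.Assembly.goodAll M (M ⧸ H) hone c
  obtain ⟨hQ2, -, -⟩ := CfsgLib.SuzukiRankOne.concl hS h4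
  have hst : ∀ x : ↥(cen t), (x : M) • c = c := fun x => huniq _ (by
    show t • (x : M) • c = (x : M) • c
    rw [← mul_smul, ← (mem_cen.mp x.2).eq, mul_smul, hc])
  haveI : (Q.subgroupOf (stabilizer M c)).Normal := ⟨fun x hx g => RankOne.conj_Q hS g.2 hx⟩
  have hidx : Odd (Q.subgroupOf (stabilizer M c)).index := by
    have e := (Q.subgroupOf (stabilizer M c)).card_mul_index
    rw [Nat.card_congr (Subgroup.subgroupOfEquivOfLe hS.le).toEquiv, RankOne.card_stab hS] at e
    rw [Nat.eq_of_mul_eq_mul_left Nat.card_pos e]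
    exact hS.odd_card
  have hmem : ∀ (x : ↥(stabilizer M c)) (k : ℕ), x ^ 2 ^ k = 1 → (x : M) ∈ Q := fun x k hk => by
    obtain ⟨j, hj⟩ := exists_pow_eq_self_of_coprime (x := x) (n := (Q.subgroupOf (stabilizer M c)).index)
      ((Nat.Coprime.pow_left k (Nat.coprime_two_left.mpr hidx)).symm.coprime_dvd_right (orderOf_dvd_of_pow_eq_one hk))
    have h1 : x ∈ Q.subgroupOf (stabilizer M c) := hj ▸ Subgroup.pow_mem _ (Subgroup.pow_index_mem _ x) j
    exact h1
  obtain ⟨P⟩ : Nonempty (Sylow 2 ↥(cen t)) := inferInstance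
  have hle : (P : Subgroup ↥(cen t)) ≤ Q.subgroupOf (cen t) := fun x hx => by
    obtain ⟨k, hk⟩ := P.isPGroup' ⟨x, hx⟩
    refine hmem ⟨(x : M), hst x⟩ k (Subtype.ext ?_)
    show (x : M) ^ 2 ^ k = 1
    exact congrArg (fun z : ↥(P : Subgroup ↥(cen t)) => ((z : ↥(cen t)) : M)) hk
  have hPQ := P.is_maximal' (hQ2.comap_subtype) hle
  refine h.not_normal_sylow ht hta hw (P := P) ?_
  rw [← hPQ]
  exact ⟨fun x hx g => RankOne.conj_Q hS (hst g) hx⟩

variable (h3 : ¬ Cfsg.PRankLE 2 2 M)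
include h3

/-- Not a two-dimensional linear group. -/
theorem psl_case {F : Type} [Field F] [Fintype F] (e : M ≃* PSL₂[F])
    (hq : (∃ n, Fintype.card F = 2 ^ n) ∨ Fintype.card F % 8 = 3 ∨ Fintype.card F % 8 = 5) : False := by
  haveI := h.simple
  haveI := Fact.mk Nat.prime_two
  have hcard := DicksonFull.card_psl (F := F)
  rw [← Nat.card_congr e.toEquiv] at hcard
  rcases hq with ⟨n, hn⟩ | hq
  · have hn0 : n ≠ 0 := fun e => by
      rw [e, pow_zero] at hn
      exact (Fintype.one_lt_card (α := F)).ne' hn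
    haveI := CfsgLib.Bender.charP_two_of_card hn hn0
    have hu : orderOf (e t) = 2 := by rw [MulEquiv.orderOf_eq]; exact orderOf_two ht
    have hC : Nat.card ↥(cen t) = 2 ^ n := by
      rw [← hn, ← DicksonFull.card_cent 2 hu]
      exact Nat.card_congr (Equiv.subtypeEquiv e.toEquiv fun x => by
        show x ∈ cen t ↔ e x ∈ DicksonFull.cent (e t)
        rw [mem_cen, DicksonFull.mem_cent]
        exact ⟨fun hx => hx.map e, fun hx => e.injective (by rw [map_mul, map_mul]; exact hx.eq)⟩)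
    obtain ⟨P⟩ : Nonempty (Sylow 2 ↥(cen t)) := inferInstance
    refine h.not_normal_sylow ht hta hw (P := P) ?_
    rw [← P.is_maximal' (Q := ⊤) ((IsPGroup.of_card hC).to_subgroup ⊤) le_top]
    infer_instance
  · obtain ⟨B, hB, hB8, -⟩ := CoreGen.exists_eight_around h.noncomm h3 (orderOf_two ht)
    obtain ⟨k, hk⟩ := IsPGroup.iff_card.mp (Signalizer.isPGroup_ea hB)
    have hd : 2 ^ 3 ∣ Nat.card M := by
      refine dvd_trans (Nat.pow_dvd_pow 2 ?_) (hk ▸ Subgroup.card_subgroup_dvd_card B)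
      exact (Nat.pow_le_pow_iff_right (a := 2) (by norm_num)).mp (by omega)
    obtain ⟨j, hj⟩ := hd
    rw [show Nat.gcd 2 (Fintype.card F - 1) = 2 from Nat.gcd_eq_left (by omega), hj] at hcard
    obtain ⟨r, hr | hr⟩ : ∃ r, Fintype.card F = 8 * r + 3 ∨ Fintype.card F = 8 * r + 5 :=
      ⟨Fintype.card F / 8, by omega⟩
    · rw [hr, show (8 * r + 3) ^ 2 - 1 = 8 * ((2 * r + 1) * (4 * r + 1)) by
        have : (8 * r + 3) ^ 2 = 8 * ((2 * r + 1) * (4 * r + 1)) + 1 := by ring
        omega] at hcard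
      have h1 : Odd ((8 * r + 3) * ((2 * r + 1) * (4 * r + 1))) :=
        (Nat.odd_iff.mpr (by omega)).mul ((Nat.odd_iff.mpr (by omega)).mul (Nat.odd_iff.mpr (by omega)))
      exact Nat.not_even_iff_odd.mpr h1 ⟨j, by linarith⟩
    · rw [hr, show (8 * r + 5) ^ 2 - 1 = 8 * ((2 * r + 1) * (4 * r + 3)) by
        have : (8 * r + 5) ^ 2 = 8 * ((2 * r + 1) * (4 * r + 3)) + 1 := by ring
        omega] at hcard
      have h1 : Odd ((8 * r + 5) * ((2 * r + 1) * (4 * r + 3))) :=
        (Nat.odd_iff.mpr (by omega)).mul ((Nat.odd_iff.mpr (by omega)).mul (Nat.odd_iff.mpr (by omega)))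
      exact Nat.not_even_iff_odd.mpr h1 ⟨j, by linarith⟩

omit h3

/-- With the centraliser of Ree type only five fixed points and `q = 5` remain. -/
theorem shape_five (he8 : ∀ T : Sylow 2 M, Walter.E8 (T : Subgroup M)) {F : Type} [Field F] [Fintype F]
    (hF : Fintype.card F = 5 ∨ ∃ m, 1 ≤ m ∧ Fintype.card F = 3 ^ (2 * m + 1))
    (e : ↥(cen t) ≃* Multiplicative (ZMod 2) × PSL₂[F]) :
    Nat.card ↥(cen t) = 120 ∧ Nat.card {c : Ω // t • c = c} = 5 := by
  classical
  haveI := h.simple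
  haveI := Fact.mk Nat.prime_two
  set q := Fintype.card F with hqdef
  have hqf : q = 5 ∨ (27 ≤ q ∧ q % 8 = 3 ∧ q % 3 = 0) := by
    rcases hF with h5 | ⟨m, hm, hq⟩
    · exact Or.inl h5
    right
    have h9 : 9 ^ m % 8 = 1 := by rw [Nat.pow_mod]; norm_num
    have h3 : q = 3 * 9 ^ m := by rw [hq, pow_succ, pow_mul]; ring
    have := Nat.pow_le_pow_right (show 9 > 0 by norm_num) hm
    omega
  have hodd : Odd q := Nat.odd_iff.mpr (by omega)
  have h2 : (2 : F) ≠ 0 := SL2Orders.two_ne_zero_of_odd hodd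
  haveI : IsSimpleGroup PSL₂[F] :=
    Matrix.ProjectiveSpecialLinearGroup.rank_two_simple (by rw [Nat.card_eq_fintype_card]; omega)
  have hL : 2 * Nat.card PSL₂[F] = q * (q ^ 2 - 1) := by
    rw [← DicksonFull.card_psl (F := F), show Nat.gcd 2 (q - 1) = 2 from Nat.gcd_eq_left (by omega)]
  have hinv : ∀ {y : PSL₂[F]}, y ≠ 1 → y * y = 1 → orderOf y = 2 := fun h1 h2 => orderOf_two ⟨h1, h2⟩
  set π : ↥(cen t) →* PSL₂[F] := (MonoidHom.snd _ _).comp e.toMonoidHom with hπ
  have hsurj : Function.Surjective π := fun y => ⟨e.symm (1, y), by simp [hπ]⟩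
  have hX : Nat.card ↥(cen t) = 2 * Nat.card PSL₂[F] := by
    rw [Nat.card_congr e.toEquiv, Nat.card_prod, Nat.card_eq_fintype_card (α := Multiplicative (ZMod 2)),
      Fintype.card_multiplicative, ZMod.card]
  have h8X : 8 ∣ Nat.card ↥(cen t) := by
    obtain ⟨c, hc⟩ : 8 ∣ q ^ 2 - 1 := by
      obtain ⟨k, hk⟩ := hodd
      obtain ⟨l, hl⟩ := Nat.even_mul_succ_self k
      exact ⟨l, by rw [hk, show (2 * k + 1) ^ 2 = 4 * (k * (k + 1)) + 1 by ring, hl]; omega⟩
    exact ⟨q * c, by rw [hX, hL, hc]; ring⟩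
  have hπt : π (inCent t) = 1 := by
    by_contra hne
    have hsq : π (inCent t) * π (inCent t) = 1 := by
      rw [← map_mul, (isInv_sub.mpr ht : IsInv (inCent t)).2, map_one]
    have htop : Subgroup.centralizer ({π (inCent t)} : Set PSL₂[F]) = ⊤ := top_le_iff.mp fun y _ => by
      obtain ⟨x, rfl⟩ := hsurj y
      exact Subgroup.mem_centralizer_singleton_iff.mpr ((inCent_comm x).map π).eq
    have hc := SCNonCyclic.card_cent_invol hodd (hinv hne hsq)
    rw [htop, Subgroup.card_top] at hc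
    have hbig : 4 * (q + 1) ≤ q * (q ^ 2 - 1) := by
      have h5 : 5 ≤ q := by omega
      have : q ^ 2 - 1 = (q + 1) * (q - 1) := by rw [← one_pow 2, Nat.sq_sub_sq, one_pow]
      rw [this, show q * ((q + 1) * (q - 1)) = q * (q - 1) * (q + 1) by ring]
      exact Nat.mul_le_mul_right _ (le_trans (by omega) (Nat.le_mul_of_pos_right q (show 0 < q - 1 by omega)))
    omega
  have het1 : (e (inCent t)).2 = 1 := hπt
  have hker : ∀ x : ↥(cen t), π x = 1 → x = 1 ∨ x = inCent t := by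
    intro x hx
    have h01 := z2_cases
    have hz : (e (inCent t)).1 = Multiplicative.ofAdd 1 := (h01 _).resolve_left fun e1 =>
      (isInv_sub.mpr ht : IsInv (inCent t)).1 (e.injective ((Prod.ext e1 het1).trans (map_one e).symm))
    have hx2 : (e x).2 = 1 := hx
    rcases h01 (e x).1 with e1 | e1
    · exact Or.inl (e.injective ((Prod.ext e1 hx2).trans (map_one e).symm))
    · exact Or.inr (e.injective (Prod.ext (e1.trans hz.symm) (hx2.trans het1.symm)))
  -- the image of the stabiliser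
  obtain ⟨P, hP⟩ := h.sylow_exists ht hta
  have h0 := h.pt0 ht hta hw hP
  have htH : inCent t ∈ cenA t a := hta
  set K := (cenA t a).map π with hK
  have hmemK : ∀ x : ↥(cen t), π x ∈ K → x ∈ cenA t a := by
    rintro x ⟨y, hy, hyx⟩
    rcases hker (y⁻¹ * x) (by rw [map_mul, map_inv, hyx, inv_mul_cancel]) with e1 | e1
    · rwa [inv_mul_eq_one.mp e1] at hy
    · rw [inv_mul_eq_iff_eq_mul.mp e1]; exact mul_mem hy htH
  have hcomap : K.comap π = cenA t a :=
    le_antisymm (fun x hx => hmemK x hx) fun x hx => Subgroup.mem_map_of_mem π hx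
  have hKidx : K.index = (cenA t a).index := by rw [← hcomap, Subgroup.index_comap_of_surjective _ hsurj]
  have hKtop : K ≠ ⊤ := fun e1 => h.cenA_ne_top ht hta hw (by rw [← hcomap, e1, Subgroup.comap_top])
  have hP8 : 8 ≤ Nat.card (P : Subgroup ↥(cen t)) := by
    rw [P.card_eq_multiplicity]
    exact Nat.le_of_dvd (by positivity) (by
      rw [show 8 = 2 ^ 3 from rfl] at h8X ⊢
      exact Nat.pow_dvd_pow 2 ((Nat.prime_two.pow_dvd_iff_le_factorization Nat.card_pos.ne').mp h8X))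
  have hPsq : ∀ x ∈ (P : Subgroup ↥(cen t)), x * x = 1 := fun x hx => by
    obtain ⟨T, hT⟩ := (P.isPGroup'.map (cen t).subtype).exists_le_sylow
    exact Subtype.ext ((he8 T).2 _ (hT ⟨x, hx, rfl⟩))
  obtain ⟨v, hv, hv1, hvt⟩ : ∃ v ∈ (P : Subgroup ↥(cen t)), v ≠ 1 ∧ v ≠ inCent t := by
    by_contra hno
    push Not at hno
    have : Nat.card (P : Subgroup ↥(cen t)) ≤ 2 := by
      refine le_of_le_of_eq (Nat.card_le_card_of_injective (fun x : ↥(P : Subgroup ↥(cen t)) => decide (x.1 = 1))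
        fun x y exy => Subtype.ext ?_) (by simp)
      by_cases hx : x.1 = 1 <;> by_cases hy : y.1 = 1 <;> simp [hx, hy] at exy ⊢
      exact Subtype.ext ((hno _ x.2 hx).trans (hno _ y.2 hy).symm)
    omega
  obtain ⟨v', hv', hv'1, hv't, hv'v, hv'vt⟩ : ∃ v' ∈ (P : Subgroup ↥(cen t)),
      v' ≠ 1 ∧ v' ≠ inCent t ∧ v' ≠ v ∧ v' ≠ v * inCent t := by
    by_contra hno
    push Not at hno
    have : Nat.card (P : Subgroup ↥(cen t)) ≤ 4 := by
      let g : Bool × Bool → ↥(cen t) := fun z => (if z.1 then v else 1) * if z.2 then inCent t else 1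
      have hg : ∀ x : ↥(P : Subgroup ↥(cen t)), ∃ z, g z = x.1 := fun x => by
        by_cases h1 : x.1 = 1
        · exact ⟨(false, false), by simp [g, h1]⟩
        by_cases h2 : x.1 = inCent t
        · exact ⟨(false, true), by simp [g, h2]⟩
        by_cases h3 : x.1 = v
        · exact ⟨(true, false), by simp [g, h3]⟩
        exact ⟨(true, true), by simp [g, hno _ x.2 h1 h2 h3]⟩
      choose z hz using hg
      refine le_of_le_of_eq (Nat.card_le_card_of_injective z fun x y exy => Subtype.ext ?_) (by simp)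
      rw [← hz x, ← hz y, exy]
    omega
  have hvi : ∀ {x : ↥(cen t)}, x ∈ (P : Subgroup ↥(cen t)) → x ≠ 1 → x ≠ inCent t →
      π x ≠ 1 ∧ π x * π x = 1 := fun {x} hx h1 h2 =>
    ⟨fun e1 => (hker x e1).elim h1 h2, by rw [← map_mul, hPsq x hx, map_one]⟩
  obtain ⟨hw1, hw2⟩ := hvi hv hv1 hvt
  obtain ⟨hw1', hw2'⟩ := hvi hv' hv'1 hv't
  have hne : π v' ≠ π v := fun e1 => by
    rcases hker (v⁻¹ * v') (by rw [map_mul, map_inv, e1, inv_mul_cancel]) with e2 | e2
    · exact hv'v (inv_mul_eq_one.mp e2).symm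
    · exact hv'vt (inv_mul_eq_iff_eq_mul.mp e2)
  have hKfix : ∀ y : PSL₂[F], y * π v * y⁻¹ ∈ K → y ∈ K := fun y hy => by
    obtain ⟨x, rfl⟩ := hsurj y
    rw [← map_inv, ← map_mul, ← map_mul] at hy
    exact Subgroup.mem_map_of_mem π (h0.fix v (hP hv) ⟨hv1, hPsq v hv⟩ hvt x (hmemK _ hy))
  set C := Subgroup.centralizer ({π v} : Set PSL₂[F]) with hC
  have hCK : C ≤ K := fun y hy => hKfix y (by
    rw [(Subgroup.mem_centralizer_singleton_iff.mp hy), mul_inv_cancel_right]
    exact Subgroup.mem_map_of_mem π (hP hv))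
  have hcomm : π v' * π v = π v * π v' := by
    have h1 : v' * v = v * v' := by
      have e1 := hPsq _ (mul_mem hv' hv)
      have h2 : v'⁻¹ = v' := inv_eq_of_mul_eq_one_right (hPsq v' hv')
      have h3 : v⁻¹ = v := inv_eq_of_mul_eq_one_right (hPsq v hv)
      rw [eq_inv_of_mul_eq_one_left e1, _root_.mul_inv_rev, h2, h3]
    rw [← map_mul, ← map_mul, h1]
  have hlt : C < K := by
    refine lt_of_le_of_ne hCK fun eCK => ?_
    obtain ⟨x, hx⟩ := QuotientGroup.mk'_surjective _ (π v)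
    obtain ⟨x', hx'⟩ := QuotientGroup.mk'_surjective _ (π v')
    obtain ⟨g, hg⟩ := isConj_iff.mp (PSL2Klein.isConj_trace_zero h2
      ((PSL2Klein.invol_iff h2).mp (by rw [hx]; exact ⟨hw1, hw2⟩))
      ((PSL2Klein.invol_iff h2).mp (by rw [hx']; exact ⟨hw1', hw2'⟩)))
    have hg' : PSL2.mk g * π v * (PSL2.mk g)⁻¹ = π v' := by rw [← hx, ← hx', ← map_inv, ← map_mul, ← map_mul, hg]
    have hgC : PSL2.mk g ∈ C := eCK.symm ▸ hKfix _ (hg'.symm ▸ Subgroup.mem_map_of_mem π (hP hv'))
    rw [Subgroup.mem_centralizer_singleton_iff.mp hgC, mul_inv_cancel_right] at hg'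
    exact hne hg'.symm
  have hCcard : Nat.card C = q - 1 ∨ Nat.card C = q + 1 := SCNonCyclic.card_cent_invol hodd (hinv hw1 hw2)
  have hC4 : 4 ∣ Nat.card C := by
    have hV : ∃ V : Subgroup PSL₂[F], V ≤ C ∧ Nat.card V = 4 := by
      obtain ⟨E, hE, hE4, -⟩ : ∃ E : Subgroup PSL₂[F], E ≤ C ∧ Nat.card E = 4 ∧ π v ∈ E :=
        ⟨PSL2Klein.four (π v) (π v') hw2 hw2' hcomm.symm, by
          rintro y hy
          refine Subgroup.mem_centralizer_singleton_iff.mpr ?_
          rcases hy with rfl | rfl | rfl | rfl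
          · rw [one_mul, mul_one]
          · rfl
          · exact hcomm
          · rw [mul_assoc, hcomm, ← mul_assoc],
          (PSL2Klein.four_klein hw2 hw2' hcomm.symm hw1 hw1' hne.symm).card_four, Or.inr (Or.inl rfl)⟩
      exact ⟨E, hE, hE4⟩
    obtain ⟨V, hV, hV4⟩ := hV
    exact hV4 ▸ Subgroup.card_dvd_of_le hV
  obtain ⟨d, hd⟩ : Nat.card C ∣ Nat.card K := Subgroup.card_dvd_of_le hCK
  have hd2 : 2 ≤ d := by
    rcases Nat.lt_or_ge d 2 with hlt' | hge
    · interval_cases d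
      · rw [mul_zero] at hd; exact absurd hd Nat.card_pos.ne'
      · exact absurd (Subgroup.eq_of_le_of_card_ge hCK (by omega)) hlt.ne
    · exact hge
  rcases hqf with h5 | ⟨h27, h83, h30⟩
  · -- five fixed points
    have hC' : Nat.card C = 4 := by rcases hCcard with e1 | e1 <;> omega
    have h60 : Nat.card PSL₂[F] = 60 := by rw [h5, show 5 * (5 ^ 2 - 1) = 2 * 60 by norm_num] at hL; omega
    refine ⟨by rw [hX, h60], ?_⟩
    rw [← h.index_cenA ht hta, ← hKidx]
    have hmul := K.card_mul_index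
    rw [h60, hd, hC'] at hmul
    have hfac := CfsgLib.SmallOrder.card_dvd_factorial_index hKtop
    rw [h60] at hfac
    have hidx1 : K.index ≠ 1 := fun e1 => hKtop (Subgroup.index_eq_one.mp e1)
    have hdvd : K.index ∣ 15 := ⟨d, by linarith⟩
    have hle := Nat.le_of_dvd (by norm_num) hdvd
    generalize K.index = i at hfac hidx1 hdvd hmul hle ⊢
    interval_cases i <;> first | omega | exact absurd hdvd (by decide) | exact absurd hfac (by decide)
  -- no large subgroup contains an involution centraliser properly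
  exfalso
  have hC' : Nat.card C = q + 1 := by rcases hCcard with e1 | e1 <;> omega
  have hKbig : 2 * (q + 1) ≤ Nat.card K := by rw [hd, hC', mul_comm]; exact Nat.mul_le_mul_left _ hd2
  haveI := Fact.mk Nat.prime_three
  obtain ⟨m, -, hqm⟩ := hF.resolve_left (by omega)
  haveI : CharP F 3 := charP_of_card_eq_prime_pow hqm
  have hKC : q + 1 ∣ Nat.card K := ⟨d, by rw [hd, hC']⟩
  have hg : Nat.gcd 2 (q - 1) = 2 := Nat.gcd_eq_left (by omega)
  rcases DicksonFull.proper_cases 3 hKtop with ⟨k, hk, hkK⟩ | ⟨⟨eK⟩⟩ | ⟨⟨eK⟩⟩ | ⟨⟨eK⟩⟩ | ⟨u, hu, hKu⟩ |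
    ⟨Q, r, K', _, _, -, hQ, hr, hQr, hle, -, -⟩
  · have hk2 : k ≤ (q + 1) / 2 := by
      rcases hk with hk | hk <;> rw [hg] at hk <;>
        exact (Nat.le_of_dvd (by omega) hk).trans (by omega)
    rcases hkK with ⟨-, hkc⟩ | ⟨⟨eK⟩⟩
    · omega
    · rw [Nat.card_congr eK.toEquiv, DihedralGroup.nat_card] at hKbig
      omega
  · rw [Nat.card_congr eK.toEquiv, nat_card_alternatingGroup, Nat.card_fin] at hKbig
    norm_num [Nat.factorial] at hKbig
    omega
  · rw [Nat.card_congr eK.toEquiv, Nat.card_perm, Nat.card_fin] at hKbig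
    norm_num [Nat.factorial] at hKbig
    omega
  · rw [Nat.card_congr eK.toEquiv, nat_card_alternatingGroup, Nat.card_fin] at hKbig hKC
    norm_num [Nat.factorial] at hKbig hKC
    have : q ≤ 29 := by omega
    interval_cases q <;> omega
  · have hb := DicksonFull.card_bor (p := 3) hu
    rw [hg] at hb
    obtain ⟨l, hl⟩ : q + 1 ∣ Nat.card (DicksonFull.bor u) := hKC.trans (Subgroup.card_dvd_of_le hKu)
    obtain ⟨r, hr⟩ : ∃ r, q = 8 * r + 3 := ⟨q / 8, by omega⟩
    have : Odd ((8 * r + 3) * (4 * r + 1)) := (Nat.odd_iff.mpr (by omega)).mul (Nat.odd_iff.mpr (by omega))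
    refine Nat.not_even_iff_odd.mpr this ⟨(4 * r + 2) * l, ?_⟩
    rw [← hqdef, hr, hl, hr, show 8 * r + 3 - 1 = 2 * (4 * r + 1) by omega] at hb
    linarith
  · have hQ2 : Q * (Q ^ 2 - 1) < Q ^ 3 := by
      have h9 : 1 ≤ Q ^ 2 := Nat.one_le_pow _ _ (by omega)
      calc Q * (Q ^ 2 - 1) < Q * Q ^ 2 := Nat.mul_lt_mul_of_pos_left (by omega) (by omega)
        _ = Q ^ 3 := by ring
    rcases eq_or_lt_of_le hr with rfl | hr3
    · have hsq : Q ^ 2 % 8 = (Q % 8) ^ 2 % 8 := by rw [Nat.pow_mod]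
      have : Q % 8 < 8 := Nat.mod_lt _ (by norm_num)
      rw [hQr, ← hqdef, h83] at hsq
      interval_cases Q % 8 <;> omega
    · have := Nat.pow_le_pow_right (show Q > 0 by omega) (show 3 ≤ r by omega)
      rw [hQr] at this
      omega

omit hta hw
include h3

/-- Abelian Sylow subgroups do not occur with an involution fixing several points. -/
theorem abelian_case (S : Sylow 2 M) (hS : IsMulCommutative (S : Subgroup M)) {b : Ω} (hab : a ≠ b)
    (hta : t • a = a) (htb : t • b = b) : False := by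
  classical
  haveI := h.simple
  haveI := Fact.mk Nat.prime_two
  have hw : Wide2 Ω t := ⟨a, b, hab, hta, htb⟩
  rcases WalterUse.orderClass h.noncomm S hS with ⟨n, -, F, _, _, hF, ⟨e⟩⟩ | ⟨F, _, _, hF, ⟨e⟩⟩ | hord
  · exact h.psl_case ht hta hw h3 e (Or.inl ⟨n, hF⟩)
  · exact h.psl_case ht hta hw h3 e (Or.inr hF)
  have h8 : Nat.card (S : Subgroup M) = 8 := by
    rw [S.card_eq_multiplicity]
    suffices hv : (Nat.card M).factorization 2 = 3 by rw [hv]; norm_num
    obtain ⟨c, hc, hodd⟩ : ∃ c, Nat.card M = 2 ^ 3 * c ∧ Odd c := by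
      rcases hord with ⟨-, m, -, hc⟩ | ⟨-, hc⟩
      · have hq : (3 ^ (2 * m + 1)) % 8 = 3 := by
          rw [pow_succ, pow_mul, Nat.mul_mod, Nat.pow_mod]; norm_num
        set q := 3 ^ (2 * m + 1)
        obtain ⟨k, hk⟩ : ∃ k, q = 8 * k + 3 := ⟨q / 8, by omega⟩
        refine ⟨(8 * k + 3) ^ 3 * (128 * k ^ 3 + 144 * k ^ 2 + 54 * k + 7) * (4 * k + 1), ?_, ?_⟩
        · rw [hc, hk, show 8 * k + 3 - 1 = 8 * k + 2 by omega]; ring
        · rw [Nat.odd_iff]
          simp [Nat.mul_mod, Nat.add_mod, Nat.pow_mod]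
      · exact ⟨21945, hc, by decide⟩
    rw [hc, Nat.factorization_mul (by norm_num) hodd.pos.ne', Finsupp.add_apply,
      Nat.factorization_eq_zero_of_not_dvd (fun h => Nat.not_even_iff_odd.mpr hodd (even_iff_two_dvd.mpr h)),
      add_zero, Nat.prime_two.factorization_pow, Finsupp.single_eq_same]
  have he8 := WalterUse.e8_of_abelian h.noncomm S hS h8
  by_cases hsol : ∀ x : M, orderOf x = 2 → Group.IsSolvable ↥(Subgroup.centralizer ({x} : Set M))
  · rcases Cfsg.Agent.S3188.result S hS hsol with hs | ⟨F, _, _, hF, N, hN, ⟨e⟩, -⟩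
    · exact h.noncomm ⟨⟨IsSimpleGroup.comm_iff_isSolvable.mpr hs⟩⟩
    let e0 : M ⧸ Cfsg.oddCore M ≃* M := (QuotientGroup.quotientMulEquivOfEq
      (CoreKill.oddCore_eq_bot_of_simple h.noncomm)).trans QuotientGroup.quotientBot
    haveI : Nontrivial (M ⧸ Cfsg.oddCore M) := e0.toEquiv.nontrivial
    haveI : IsSimpleGroup (M ⧸ Cfsg.oddCore M) := IsSimpleGroup.isSimpleGroup_of_surjective e0.symm.toMonoidHom
      e0.symm.surjective
    have hNt : N = ⊤ := by
      refine (IsSimpleGroup.eq_bot_or_eq_top_of_normal N hN).resolve_left fun hb => ?_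
      subst hb
      obtain ⟨x, y, hxy⟩ := JankoThompson.psl_two_nonabelian (F := F)
      exact hxy (e.symm.injective (Subsingleton.elim _ _))
    subst hNt
    refine h.psl_case ht hta hw h3 (e0.symm.trans (Subgroup.topEquiv.symm.trans e)) ?_
    rcases hF with ⟨h1, -⟩ | ⟨n, -, h1⟩
    exacts [Or.inr h1, Or.inl ⟨n, h1⟩]
  push Not at hsol
  obtain ⟨z, hz, hns⟩ := hsol
  obtain ⟨F, _, _, hF, ⟨e⟩⟩ := Walter.p_all M h.simple S he8 z hz hns
  have B : Walter.Base M := ⟨h.simple, fun X _ _ _ => Walter.p_all X, S, he8⟩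
  -- `z` moved to the points of `t`
  obtain ⟨g, hg⟩ := B.all_conj (orderOf_two ht) hz
  have hzi := isInv_of_orderOf hz
  have hza : z • g • a = g • a := hg ▸ fix_conj rfl hta
  have hzb : z • g • b = g • b := hg ▸ fix_conj rfl htb
  have hgab : g • a ≠ g • b := fun e1 => hab (MulAction.injective g e1)
  obtain ⟨h120, hf⟩ := h.shape_five hzi hza ⟨_, _, hgab, hza, hzb⟩ (fun T => he8.sylow T) hF e
  have hcomm : ∀ P : Sylow 2 M, ∀ x y : P, x * y = y * x := fun P x y => B.hab P x y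
  have h5 : Fintype.card F = 5 := by
    rcases hF with h5 | ⟨m, hm, hq⟩
    · exact h5
    exfalso
    have hc := DicksonFull.card_psl (F := F)
    have h27 : 27 ≤ Fintype.card F := hq ▸
      le_trans (by norm_num) (Nat.pow_le_pow_right (show 3 > 0 by norm_num) (show 3 ≤ 2 * m + 1 by omega))
    have hg2 : Nat.gcd 2 (Fintype.card F - 1) ≤ 2 := Nat.le_of_dvd (by norm_num) (Nat.gcd_dvd_left _ _)
    rw [Nat.card_congr e.toEquiv, Nat.card_prod, Nat.card_eq_fintype_card (α := Multiplicative (ZMod 2)),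
      Fintype.card_multiplicative, ZMod.card] at h120
    rw [show Nat.card PSL₂[F] = 60 by omega] at hc
    have : 27 * (27 ^ 2 - 1) ≤ Fintype.card F * (Fintype.card F ^ 2 - 1) :=
      Nat.mul_le_mul h27 (Nat.sub_le_sub_right (Nat.pow_le_pow_left h27 2) 1)
    have : Nat.gcd 2 (Fintype.card F - 1) * 60 ≤ 2 * 60 := Nat.mul_le_mul_right _ hg2
    omega
  have hM : Nat.card M = 175560 := by
    rcases Cfsg.Agent.S0343.result hcomm (by omega) z hz ⟨e⟩ with ⟨m, hm, hq, -⟩ | ⟨-, -, hM⟩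
    · exfalso
      have := Nat.pow_le_pow_right (show 3 > 0 by norm_num) (show 3 ≤ 2 * m + 1 by omega)
      omega
    · exact hM
  have hall : ∀ x : M, IsInv x → ∃ k : M, k * z * k⁻¹ = x := fun x hx => B.all_conj hz (orderOf_two hx)
  have hI : Nat.card {x : M // IsInv x} = 1463 := by
    have h1 := CfsgLib.TwoByTwo.card_carrier_mul_centralizer z
    have h2 : Nat.card {x : M // IsInv x} = Nat.card (ConjClasses.mk z).carrier :=
      Nat.card_congr (Equiv.subtypeEquivRight fun x => by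
        rw [ConjClasses.mem_carrier_iff_mk_eq, ConjClasses.mk_eq_mk_iff_isConj]
        refine ⟨fun hx => ?_, fun hx => ?_⟩
        · obtain ⟨k, hk⟩ := hall x hx
          exact (isConj_iff.mpr ⟨k, hk⟩).symm
        · obtain ⟨k, hk⟩ := isConj_iff.mp hx.symm
          exact hk ▸ hzi.conj k)
    rw [hM, h120, ← h2] at h1
    omega
  have hfx : ∀ x : M, IsInv x → Nat.card {c : Ω // x • c = c} = 5 := fun x hx => by
    obtain ⟨k, rfl⟩ := hall x hx
    rw [h.card_fix_conj, hf]
  have hinc := h.incidences hfx a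
  have hpairs := h.pairs hgab hall
  rw [hf] at hpairs
  have hinc' := h.incidences hfx (g • a)
  rw [hI] at hinc hinc'
  set n := Nat.card Ω with hn
  -- seven
  obtain ⟨c, hc⟩ := exists_fixed h.odd S.isPGroup'
  obtain ⟨x, hxS, hx1⟩ : ∃ x ∈ (S : Subgroup M), x ≠ 1 := by
    by_contra hno
    push Not at hno
    rw [show (S : Subgroup M) = ⊥ from (Subgroup.eq_bot_iff_forall _).mpr hno, Subgroup.card_bot] at h8
    omega
  obtain ⟨y, hyS, hy1, hyx⟩ : ∃ y ∈ (S : Subgroup M), y ≠ 1 ∧ y ≠ x := by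
    by_contra hno
    push Not at hno
    have : Nat.card (S : Subgroup M) ≤ 2 := by
      refine le_of_le_of_eq (Nat.card_le_card_of_injective (fun w : ↥(S : Subgroup M) => decide (w.1 = 1))
        fun w w' exy => Subtype.ext ?_) (by simp)
      by_cases hw' : w.1 = 1 <;> by_cases hy : w'.1 = 1 <;> simp [hw', hy] at exy ⊢
      exact Subtype.ext ((hno _ w.2 hw').trans (hno _ w'.2 hy).symm)
    omega
  have hNle : Subgroup.normalizer ((S : Subgroup M) : Set M) ≤ stabilizer M c := fun k hk =>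
    h.fix_of_four (u := x) (v := y) ⟨hx1, he8.2 x hxS⟩ ⟨hy1, he8.2 y hyS⟩ hyx.symm (he8.comm hxS hyS)
      (hc x hxS) (hc y hyS) (hc _ ((Subgroup.mem_normalizer_iff.mp hk x).mp hxS))
      (hc _ ((Subgroup.mem_normalizer_iff.mp hk y).mp hyS))
  have h7 : 7 ∣ Nat.card ↥(Subgroup.normalizer ((S : Subgroup M) : Set M)) := by
    set N := Subgroup.normalizer ((S : Subgroup M) : Set M) with hN
    set K := (cen x).subgroupOf N with hKdef
    let φ : ↥N → {w : ↥(S : Subgroup M) // w ≠ 1} := fun k =>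
      ⟨⟨(k : M) * x * (k : M)⁻¹, (Subgroup.mem_normalizer_iff.mp k.2 x).mp hxS⟩,
        fun e1 => hx1 (conj_eq_one_iff.mp (congrArg Subtype.val e1))⟩
    have hiff : ∀ k k' : ↥N, φ k = φ k' ↔ k⁻¹ * k' ∈ K := fun k k' => by
      rw [hKdef, Subgroup.mem_subgroupOf, mem_cen, Subtype.ext_iff, Subtype.ext_iff, Subgroup.coe_mul,
        Subgroup.coe_inv]
      show (k : M) * x * (k : M)⁻¹ = (k' : M) * x * (k' : M)⁻¹ ↔ _
      constructor
      · intro e1
        show (k : M)⁻¹ * k' * x = x * ((k : M)⁻¹ * k')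
        calc (k : M)⁻¹ * k' * x = (k : M)⁻¹ * ((k' : M) * x * (k' : M)⁻¹) * k' := by group
          _ = (k : M)⁻¹ * ((k : M) * x * (k : M)⁻¹) * k' := by rw [e1]
          _ = _ := by group
      · intro e1
        calc (k : M) * x * (k : M)⁻¹ = (k : M) * (x * ((k : M)⁻¹ * k')) * (k' : M)⁻¹ := by group
          _ = (k : M) * ((k : M)⁻¹ * k' * x) * (k' : M)⁻¹ := by rw [e1.eq]
          _ = _ := by group
    have hbij : Function.Bijective (fun q : ↥N ⧸ K => Quotient.liftOn' q φ fun k k' hk =>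
        (hiff k k').mpr (QuotientGroup.leftRel_apply.mp hk)) := by
      refine ⟨fun q q' => ?_, fun w => ?_⟩
      · induction q using QuotientGroup.induction_on with
        | _ k => induction q' using QuotientGroup.induction_on with
          | _ k' => exact fun e1 => QuotientGroup.eq.mpr ((hiff k k').mp e1)
      · obtain ⟨k, hk, e1⟩ := B.trans S hxS w.1.2 hx1 (fun e1 => w.2 (Subtype.ext e1))
        exact ⟨((⟨k, hk⟩ : ↥N) : ↥N ⧸ K), Subtype.ext (Subtype.ext e1)⟩
    have h1 : K.index = 7 := by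
      rw [Subgroup.index, Nat.card_congr (Equiv.ofBijective _ hbij)]
      haveI := Fintype.ofFinite ↥(S : Subgroup M)
      rw [Nat.card_eq_fintype_card, Fintype.card_subtype_compl, Fintype.card_subtype_eq,
        ← Nat.card_eq_fintype_card, h8]
    exact h1 ▸ K.index_dvd_card
  haveI : IsPretransitive M Ω := ⟨h.trans⟩
  have hn7 : ¬ 7 ∣ n := by
    intro h7n
    have hidx : (stabilizer M c).index = n := index_stabilizer_of_transitive M c
    have h49 : 7 * 7 ∣ Nat.card M := by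
      rw [← (stabilizer M c).card_mul_index, hidx]
      exact Nat.mul_dvd_mul (h7.trans (Subgroup.card_dvd_of_le hNle)) h7n
    rw [hM] at h49
    norm_num at h49
  -- the degree
  obtain ⟨d, hd⟩ : (n - 1) ∣ Nat.card {v : M // IsInv v ∧ v • g • a = g • a} * 4 :=
    Dvd.intro_left _ hpairs.symm
  have hdeg := j1_degree (n := n) ⟨d, by rw [mul_assoc, ← hd]; linarith⟩ (by
    haveI : Nontrivial Ω := ⟨⟨a, b, hab⟩⟩
    exact Finite.one_lt_card) hn7 (by
    have h1 := Dvd.intro _ hinc'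
    norm_num at h1
    exact h1)
  have hinj : Function.Injective (toPermHom M Ω) := (injective_iff_map_eq_one _).mpr fun m hm =>
    h.faith_of_one fun c => Equiv.ext_iff.mp hm c
  have hfac := Subgroup.card_dvd_of_injective (toPermHom M Ω) hinj
  rw [Nat.card_perm, hM, ← hn] at hfac
  rcases hdeg with e1 | e1 <;> rw [e1] at hfac <;> norm_num [Nat.factorial] at hfac

omit h3 in
/-- The plain structure does not occur at a 2-central involution. -/
theorem not_struct (h3 : ¬ Cfsg.PRankLE 2 2 M) (hc : Central t) (hta : t • a = a) (hw : Wide2 Ω t)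
    {P : Sylow 2 ↥(cen t)} (hP : (P : Subgroup ↥(cen t)) ≤ cenA t a)
    (hs : CoreKill.Local.Struct (cenA t a) P (inCent t)) : False := by
  classical
  haveI := h.simple
  haveI := Fact.mk Nat.prime_two
  obtain ⟨S, hS⟩ := exists_sylow_map hc P
  have hcomm : ∀ {x y : M}, x ∈ (S : Subgroup M) → y ∈ (S : Subgroup M) → x * x = 1 → y * y = 1 → x * y = y * x := by
    intro x y hx hy hx2 hy2
    by_cases h1 : x = 1
    · rw [h1, one_mul, mul_one]
    by_cases h2 : y = 1
    · rw [h2, one_mul, mul_one]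
    rw [hS] at hx hy
    obtain ⟨x', hx', rfl⟩ := hx
    obtain ⟨y', hy', rfl⟩ := hy
    exact congrArg Subtype.val (hs.comm x' hx' y' hy' (isInv_sub.mpr ⟨h1, hx2⟩) (isInv_sub.mpr ⟨h2, hy2⟩)).eq
  let A : Subgroup M :=
    { carrier := {x | x ∈ (S : Subgroup M) ∧ x * x = 1}
      one_mem' := ⟨one_mem _, mul_one 1⟩
      mul_mem' := fun {x y} hx hy => ⟨mul_mem hx.1 hy.1, by
        rw [show x * y * (x * y) = x * (y * x) * y by group, ← hcomm hx.1 hy.1 hx.2 hy.2,
          show x * (x * y) * y = x * x * (y * y) by group, hx.2, hy.2, mul_one]⟩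
      inv_mem' := fun {x} hx => ⟨inv_mem hx.1, by rw [← _root_.mul_inv_rev, hx.2, inv_one]⟩ }
  have htA : t ∈ A := ⟨hS ▸ ⟨inCent t, (h.pt0 ht hta hw hP).t_mem_P, rfl⟩, ht.2⟩
  rcases Cfsg.Agent.S1169.result S A (fun e => ht.1 (Subgroup.mem_bot.mp (e ▸ htA)))
    ⟨⟨fun x y => Subtype.ext (hcomm x.2.1 y.2.1 x.2.2 y.2.2)⟩⟩
    ⟨fun x hx => hx.1, fun x hx g hg => ⟨hg, by
      rw [show g * x * g⁻¹ * (g * x * g⁻¹) = g * (x * x) * g⁻¹ by group, hx.2, mul_one, mul_inv_cancel]⟩⟩ with
    hab | ⟨H, hH⟩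
  · obtain ⟨p, q, hpq, hp, hq⟩ := hw
    exact h.abelian_case ht h3 S hab hpq hp hq
  · exact h.no_se ht hta hw hH

end Act

end CfsgLib.TwoTransOdd
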