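import Cfsg.Agent.Lib.TwoTransOdd.NineLab
import Cfsg.Agent.Lib.ZStar.Main
import Cfsg.Agent.Lib.G23Two.Tools

/-!
Nine points at every involution do not occur: each pair of points would be fixed by one involution, and the involutions
at a point would be too few for the ones inverted by a member.

Blueprint: `blueprint/S3120.md`, B.
-/

set_option autoImplicit false
set_option linter.unusedSectionVars false
set_option linter.style.haveILetI false
set_option maxHeartbeats 1000000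

universe u v

namespace CfsgLib.TwoTransOdd

open MulAction Equiv
open CfsgLib.Bender.TwoClosed (IsInv)
open CfsgLib.Bender.Assembly (orderOf_two)
open CfsgLib.CoreKill (inCent inCent_comm isInv_sub)
open Perms (tau Alt7)

namespace CountPerms

/-- The conjugating permutation of the swapper. -/
abbrev su : Perm (Fin 9) := swap 0 1 * swap 6 8
/-- The conjugating permutation of the product of the swapper and the double transposition. -/
abbrev su' : Perm (Fin 9) := swap 1 3 * swap 3 2 * swap 6 8 * swap 4 5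
/-- A double transposition. -/
abbrev dd : Perm (Fin 9) := swap 0 2 * swap 1 3
/-- A cycle of length seven. -/
abbrev seven : Perm (Fin 9) := swap 0 1 * swap 1 2 * swap 2 3 * swap 3 4 * swap 4 5 * swap 5 6
/-- A cycle of length five. -/
abbrev five : Perm (Fin 9) := swap 0 1 * swap 1 2 * swap 2 3 * swap 3 4
/-- Five conjugating permutations fixing the last point. -/
abbrev conjs : Fin 5 → Perm (Fin 9) :=
  ![swap 1 2 * swap 4 5, swap 1 3 * swap 3 2, swap 1 4 * swap 2 3, swap 1 5 * swap 5 4, swap 1 6 * swap 2 3]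

theorem conjs_spec : ∀ i : Fin 5, Perm.sign (conjs i) = 1 ∧ (conjs i * tau * (conjs i)⁻¹) 8 = 8 ∧
    tau * (conjs i * tau * (conjs i)⁻¹) ≠ 1 ∧
    tau * (conjs i * tau * (conjs i)⁻¹) * (tau * (conjs i * tau * (conjs i)⁻¹)) = 1 ∧
    (∃ j : Fin 9, j ≠ 8 ∧ (tau * (conjs i * tau * (conjs i)⁻¹)) j = j) ∧
    ∀ i' : Fin 5, conjs i' * tau * (conjs i')⁻¹ = conjs i * tau * (conjs i)⁻¹ → i' = i := by
  decide +kernel

/-- A subgroup of `Alt7` of odd order normalised by it is trivial. -/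
theorem odd_seven {K : Subgroup (Perm (Fin 9))} (hK : K ≤ Alt7) (hn : ∀ σ ∈ Alt7, ∀ x ∈ K, σ * x * σ⁻¹ ∈ K)
    (hodd : Odd (Nat.card K)) : K = ⊥ := by
  refine (Perms.seven hK hn).resolve_right fun e => ?_
  have h1 : dd ∈ K := e ▸ Perms.mem_Alt7.mpr (by decide)
  have h2 : orderOf dd = 2 := orderOf_eq_prime (by decide) (by decide)
  have h3 := h2 ▸ Subgroup.orderOf_dvd_natCard K h1
  exact Nat.not_even_iff_odd.mpr hodd (even_iff_two_dvd.mpr h3)

end CountPerms

open CountPerms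

/-- An element of prime order centralises a normal subgroup whose order is rigid modulo the prime. -/
theorem commute_of_rigid {G : Type u} [Group G] [Finite G] {p : ℕ} [Fact p.Prime] (N : Subgroup G) [N.Normal] {g : G}
    (hg : g ^ p = 1) (hrig : ∀ d ∈ Nat.divisors (Nat.card N), d % p = Nat.card N % p → d = Nat.card N) :
    ∀ x ∈ N, Commute g x := by
  classical
  haveI : Fintype N := Fintype.ofFinite _
  set σ : Perm N := MulAut.toPerm N (MulAut.conjNormal g) with hσ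
  have hσp : σ ^ p ^ 1 = 1 := by rw [pow_one, hσ, ← map_pow, ← map_pow, hg, map_one, map_one]
  have h1 := Perm.card_compl_support_modEq hσp
  set F : Subgroup G := N ⊓ Subgroup.centralizer ({g} : Set G)
  have hF : σ.supportᶜ.card = Nat.card F := by
    rw [← Fintype.card_coe, ← Nat.card_eq_fintype_card]
    have hfix : ∀ x : N, x ∈ σ.supportᶜ ↔ (x : G) * g = g * x := fun x => by
      rw [Finset.mem_compl, Perm.notMem_support, hσ]
      show (MulAut.conjNormal g x : N) = x ↔ _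
      rw [Subtype.ext_iff, MulAut.conjNormal_apply, mul_inv_eq_iff_eq_mul]
      exact eq_comm
    exact Nat.card_congr
      ⟨fun x => ⟨x.1.1, x.1.2, Subgroup.mem_centralizer_singleton_iff.mpr ((hfix x.1).mp x.2)⟩,
        fun x => ⟨⟨x.1, x.2.1⟩, (hfix _).mpr (Subgroup.mem_centralizer_singleton_iff.mp x.2.2)⟩,
        fun _ => rfl, fun _ => rfl⟩
  rw [hF, ← Nat.card_eq_fintype_card] at h1
  have h2 : Nat.card F = Nat.card N :=
    hrig _ (Nat.mem_divisors.mpr ⟨Subgroup.card_dvd_of_le inf_le_left, Nat.card_pos.ne'⟩) h1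
  intro x hx
  have h3 : F = N := Subgroup.eq_of_le_of_card_ge inf_le_left h2.ge
  exact (Subgroup.mem_centralizer_singleton_iff.mp (h3.ge hx).2).symm

variable {M : Type u} [Group M] [Finite M] {Ω : Type v} [Finite Ω] [MulAction M Ω]

namespace Act

variable (h : Act M Ω) (hN : ∀ w : M, IsInv w → ∀ a : Ω, w • a = a → NineAt w a)
include h

theorem exists_member {t : M} (ht : IsInv t) {a : Ω} (hta : t • a = a) :
    ∃ v : M, IsInv v ∧ v ≠ t ∧ Commute v t ∧ v • a = a := by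
  haveI := h.simple
  obtain ⟨v, hv, hvt, hvc⟩ := exists_other_inv h.noncomm ht
  obtain ⟨c, hvc', htc⟩ := h.exists_common ht hv hvc
  obtain ⟨m, hm, hmc⟩ := h.fixTrans t ht c a htc hta
  refine ⟨m * v * m⁻¹, hv.conj m, fun e => hvt ?_, (hm.mul_left hvc).mul_left hm.inv_left, fix_conj hmc hvc'⟩
  rw [show v = m⁻¹ * (m * v * m⁻¹) * m by group, e, mul_assoc, ← hm.eq, inv_mul_cancel_left]

include hN

/-- Some pair fixed by `t` is fixed by no other involution. -/
theorem pair_one {t : M} (ht : IsInv t) {a : Ω} (hta : t • a = a) :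
    ∃ b : Ω, b ≠ a ∧ t • b = b ∧ ∀ z : M, IsInv z → z • a = a → z • b = b → z = t := by
  classical
  obtain ⟨v, hv, hvt, hvc, hva⟩ := h.exists_member ht hta
  obtain ⟨L⟩ := h.exists_lab ht hta (hN t ht a hta) hv hvt hvc hva
  set b := L.pt 7 with hb
  have hba : b ≠ a := fun e => by
    rw [← L.pt8] at e
    exact absurd (L.inj e) (by decide)
  have htb : t • b = b := L.pt_mem 7
  refine ⟨b, hba, htb, ?_⟩
  set G2 : Subgroup M := stabilizer M a ⊓ stabilizer M b with hG2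
  have htG : t ∈ G2 := ⟨hta, htb⟩
  set t' : G2 := ⟨t, htG⟩
  have ht' : IsInv t' := isInv_sub.mpr ht
  have hiso : Cfsg.IsIsolated t' := fun g hg => by
    refine Subtype.ext ((h.unique _ _ ht (ht.conj (g : M)) (congrArg Subtype.val hg.eq) a b hba.symm hta htb ?_ ?_).symm)
    · exact fix_conj (Subgroup.mem_inf.mp g.2).1 hta
    · exact fix_conj (Subgroup.mem_inf.mp g.2).2 htb
  have hZ := ZStar.inZStar (orderOf_two ht') hiso
  set Q : Subgroup M := (Cfsg.pPrimeCore 2 ↥G2).map G2.subtype with hQ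
  have hQodd : Odd (Nat.card Q) := by
    rw [hQ, Subgroup.card_map_of_injective G2.subtype_injective]
    exact Nat.coprime_two_right.mp (card_pPrimeCore_coprime 2)
  have hQle : Q ≤ G2 := Subgroup.map_subtype_le _
  have hQn : ∀ g ∈ G2, ∀ q ∈ Q, g * q * g⁻¹ ∈ Q := by
    rintro g hg _ ⟨q, hq, rfl⟩
    exact ⟨_, (inferInstance : (Cfsg.pPrimeCore 2 ↥G2).Normal).conj_mem q hq ⟨g, hg⟩, rfl⟩
  -- it is enough that `Q` is trivial
  suffices hQ1 : Q = ⊥ by
    intro z hz hza hzb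
    by_contra hne
    have h1 : (⟨z, hza, hzb⟩ : G2) * t' * (⟨z, hza, hzb⟩ : G2)⁻¹ * t'⁻¹ = 1 := by
      have h2 : (((⟨z, hza, hzb⟩ : G2) * t' * (⟨z, hza, hzb⟩ : G2)⁻¹ * t'⁻¹ : G2) : M) ∈ Q := ⟨_, hZ _, rfl⟩
      rw [hQ1, Subgroup.mem_bot] at h2
      exact Subtype.ext h2
    have h3 : z * t * z⁻¹ * t⁻¹ = 1 := congrArg Subtype.val h1
    exact hne (h.unique _ _ hz ht (mul_inv_eq_iff_eq_mul.mp (mul_inv_eq_one.mp h3)) a b hba.symm hza hzb hta htb)
  have hG : ∀ x : ↥(cen t), L.φ x 8 = 8 → L.φ x 7 = 7 → (x : M) ∈ G2 := fun x h8 h7 =>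
    ⟨(L.smul_a x).mpr h8, (L.smul_eq_iff x 7 7).mpr h7⟩
  have htQ : t ∉ Q := fun htQ => by
    have := Subgroup.orderOf_dvd_natCard Q htQ
    rw [orderOf_two ht] at this
    exact Nat.not_even_iff_odd.mpr hQodd (even_iff_two_dvd.mpr this)
  -- subgroups of `C(t)` normalised by what fixes both points
  have himg : ∀ {A : Subgroup M}, (∀ g ∈ G2, ∀ q ∈ A, g * q * g⁻¹ ∈ A) → ∀ σ ∈ Alt7,
      ∀ x ∈ (A.subgroupOf (cen t)).map L.φ, σ * x * σ⁻¹ ∈ (A.subgroupOf (cen t)).map L.φ := by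
    rintro A hA σ hσ _ ⟨x, hx, rfl⟩
    obtain ⟨hs, h7, h8⟩ := Perms.mem_Alt7.mp hσ
    obtain ⟨g, rfl⟩ := L.alt σ hs
    exact ⟨g * x * g⁻¹, hA _ (hG g h8 h7) _ hx, by rw [map_mul, map_mul, map_inv]⟩
  -- `t` acts without fixed points
  have hCt : ∀ q ∈ Q, Commute t q → q = 1 := by
    intro q hq hc
    set K := (Q.subgroupOf (cen t)).map L.φ with hK
    have hKodd : Odd (Nat.card (Q.subgroupOf (cen t))) := by
      refine hQodd.of_dvd_nat ?_
      rw [← Subgroup.card_map_of_injective (cen t).subtype_injective]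
      exact Subgroup.card_dvd_of_le (Subgroup.map_le_iff_le_comap.mpr fun x hx => hx)
    have hK7 : K ≤ Alt7 := by
      rintro _ ⟨x, hx, rfl⟩
      obtain ⟨hxa, hxb⟩ := Subgroup.mem_inf.mp (hQle hx)
      refine Perms.mem_Alt7.mpr ⟨?_, (L.smul_eq_iff x 7 7).mp hxb, (L.smul_a x).mp hxa⟩
      have ho : Odd (orderOf x) := hKodd.of_dvd_nat (Subgroup.orderOf_dvd_natCard _ hx)
      obtain ⟨k, hk⟩ := ho
      have h1 : Perm.sign (L.φ x) ^ (2 * k + 1) = 1 := by
        rw [← map_pow, ← map_pow, ← hk, pow_orderOf_eq_one, map_one, map_one]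
      rwa [pow_succ, pow_mul, Int.units_sq, one_pow, one_mul] at h1
    have hbot := odd_seven hK7 (himg hQn) (hKodd.of_dvd_nat (Subgroup.card_map_dvd _ _))
    have hx1 : L.φ ⟨q, mem_cen.mpr hc.symm⟩ = 1 :=
      Subgroup.mem_bot.mp (hbot ▸ (⟨⟨q, mem_cen.mpr hc.symm⟩, hq, rfl⟩ : L.φ ⟨q, mem_cen.mpr hc.symm⟩ ∈ K))
    exact (L.ker _ hx1).resolve_right fun e => htQ (e ▸ hq)
  have hinv : ∀ q ∈ Q, t * q * t⁻¹ = q⁻¹ :=
    CfsgG23Two.inverts_of_fpf ht.2 hQodd (hQn t htG) hCt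
  have hQc : ∀ x ∈ Q, ∀ y ∈ Q, Commute x y := fun x hx y hy =>
    CfsgG23Two.commute_of_inverted (hinv x hx) (hinv y hy) (hinv _ (mul_mem hx hy))
  -- the swapper
  obtain ⟨xu, hxu⟩ := L.alt (su * tau * su⁻¹) (by decide)
  obtain ⟨hu, hut⟩ := L.lift_inv ht hv hvt (σ := su) (by decide) hxu
  set u : M := (xu : M) with hudef
  have hua : u • a = b := by rw [← L.pt8, hb, L.smul_eq_iff, hxu]; decide
  have hub : u • b = a := by rw [← L.pt8, hb, L.smul_eq_iff, hxu]; decide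
  have huG : ∀ g ∈ G2, u * g * u⁻¹ ∈ G2 := fun g hg => ⟨fix_conj hub (Subgroup.mem_inf.mp hg).2,
    fix_conj hua (Subgroup.mem_inf.mp hg).1⟩
  have huQ : ∀ q ∈ Q, u * q * u⁻¹ ∈ Q := by
    let e : G2 ≃* G2 :=
      { toFun := fun g => ⟨u * g * u⁻¹, huG g g.2⟩
        invFun := fun g => ⟨u * g * u⁻¹, huG g g.2⟩
        left_inv := fun g => Subtype.ext (show u * (u * g * u⁻¹) * u⁻¹ = (g : M) by
          rw [show u * (u * (g : M) * u⁻¹) * u⁻¹ = u * u * g * (u * u)⁻¹ by group, hu.2]; group)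
        right_inv := fun g => Subtype.ext (show u * (u * g * u⁻¹) * u⁻¹ = (g : M) by
          rw [show u * (u * (g : M) * u⁻¹) * u⁻¹ = u * u * g * (u * u)⁻¹ by group, hu.2]; group)
        map_mul' := fun g g' => Subtype.ext (show u * (g * g') * u⁻¹ = u * g * u⁻¹ * (u * g' * u⁻¹) by group) }
    rintro _ ⟨q, hq, rfl⟩
    haveI : ((Cfsg.pPrimeCore 2 ↥G2).map e.toMonoidHom).Normal :=
      Subgroup.Normal.map inferInstance _ e.surjective
    exact ⟨e q, le_pPrimeCore (N := (Cfsg.pPrimeCore 2 ↥G2).map e.toMonoidHom) (by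
      rw [Subgroup.card_map_of_injective (f := e.toMonoidHom) e.injective]; exact card_pPrimeCore_coprime 2)
      (Subgroup.mem_map_of_mem _ hq), rfl⟩
  -- the double transposition
  obtain ⟨xk, hxk⟩ := L.alt dd (by decide)
  have hk2 : (xk : M) * xk = t := L.sq_double ht h (i := 8) (j := 7) (by decide) (by rw [hxk]; decide)
    (by rw [hxk]; decide) (by rw [hxk]; decide) (by rw [hxk]; decide)
  have hkG : (xk : M) ∈ G2 := hG xk (by rw [hxk]; decide) (by rw [hxk]; decide)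
  set k : M := (xk : M) with hkdef
  have hku : k * u * k⁻¹ = u * t := by
    obtain ⟨hi, -⟩ := L.lift_inv ht hv hvt (σ := su') (by decide) (x := xu * xk)
      (by rw [map_mul, hxu, hxk]; decide)
    have h1 : u * k * (u * k) = 1 := hi.2
    have h2 : k * u * k = u := by
      have := congrArg (u * ·) h1
      simp only [← mul_assoc, hu.2, one_mul, mul_one] at this
      exact this
    calc k * u * k⁻¹ = k * u * k * (k * k)⁻¹ := by group
      _ = u * t := by rw [h2, hk2, ht.inv]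
  have hut' : Commute u t := mem_cen.mp xu.2
  have hkt : Commute k t := mem_cen.mp xk.2
  -- the order of `Q` is a square
  set A : Subgroup M := Q ⊓ Subgroup.centralizer ({u} : Set M) with hA
  have hmemA : ∀ {x : M}, x ∈ A ↔ x ∈ Q ∧ Commute x u := fun {x} => by
    rw [hA, Subgroup.mem_inf, Subgroup.mem_centralizer_singleton_iff]; rfl
  have hswap : ∀ y ∈ Q, (u * t * y * (u * t)⁻¹ = y ↔ u * y * u⁻¹ = y⁻¹) := fun y hy => by
    rw [show u * t * y * (u * t)⁻¹ = u * (t * y * t⁻¹) * u⁻¹ by group, hinv y hy, ← conj_inv, inv_eq_iff_eq_inv]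
  have hcard : Nat.card Q = Nat.card A * Nat.card A := by
    rw [CfsgG23Two.card_fixed_inverted hQodd hu.2 huQ]
    have e1 : Nat.card {c : M // c ∈ Q ∧ Commute u c} = Nat.card A :=
      Nat.card_congr ⟨fun c => ⟨c.1, hmemA.mpr ⟨c.2.1, c.2.2.symm⟩⟩,
        fun c => ⟨c.1, (hmemA.mp c.2).1, (hmemA.mp c.2).2.symm⟩, fun _ => rfl, fun _ => rfl⟩
    have hto : ∀ x ∈ A, k * x * k⁻¹ ∈ Q ∧ u * (k * x * k⁻¹) * u⁻¹ = (k * x * k⁻¹)⁻¹ := fun x hx => by
      obtain ⟨hxQ, hxu'⟩ := hmemA.mp hx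
      refine ⟨hQn k hkG x hxQ, (hswap _ (hQn k hkG x hxQ)).mp ?_⟩
      rw [← hku, show k * u * k⁻¹ * (k * x * k⁻¹) * (k * u * k⁻¹)⁻¹ = k * (u * x * u⁻¹) * k⁻¹ by group,
        ← hxu'.eq, mul_inv_cancel_right]
    have hfrom : ∀ y : M, y ∈ Q → u * y * u⁻¹ = y⁻¹ → k⁻¹ * y * k ∈ A := fun y hy hyu => by
      refine hmemA.mpr ⟨by simpa using hQn k⁻¹ (inv_mem hkG) y hy, ?_⟩
      have h1 := mul_inv_eq_iff_eq_mul.mp ((hswap y hy).mpr hyu)
      have h2 : u = k⁻¹ * (u * t) * k := by rw [← hku]; group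
      show k⁻¹ * y * k * u = u * (k⁻¹ * y * k)
      calc k⁻¹ * y * k * u = k⁻¹ * y * k * (k⁻¹ * (u * t) * k) := by rw [← h2]
        _ = k⁻¹ * (y * (u * t)) * k := by group
        _ = k⁻¹ * (u * t * y) * k := by rw [h1]
        _ = k⁻¹ * (u * t) * k * (k⁻¹ * y * k) := by group
        _ = u * (k⁻¹ * y * k) := by rw [← h2]
    have e2 : Nat.card {i : M // i ∈ Q ∧ u * i * u⁻¹ = i⁻¹} = Nat.card A :=
      Nat.card_congr ⟨fun i => ⟨k⁻¹ * i.1 * k, hfrom _ i.2.1 i.2.2⟩,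
        fun x => ⟨k * x.1 * k⁻¹, hto _ x.2⟩, fun i => Subtype.ext (by simp [mul_assoc]),
        fun x => Subtype.ext (by simp [mul_assoc])⟩
    rw [e1, e2]
  -- at most nine
  have hA9 : Nat.card A ≤ 9 := by
    set d := L.pt 6
    have hud : u • d = d := by rw [L.smul_eq_iff, hxu]; decide
    obtain ⟨L'⟩ := h.exists_lab hu hud (hN u hu d hud) ht hut.symm hut'.symm (L.pt_mem 6)
    have hAc : A ≤ cen u := inf_le_right
    set A' := (A.subgroupOf (cen u)).map L'.φ with hA'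
    have hinj : Function.Injective (fun x : ↥(A.subgroupOf (cen u)) => L'.φ (x : ↥(cen u))) := by
      intro x y e
      have h1 : L'.φ ((x : ↥(cen u)) * (y : ↥(cen u))⁻¹) = 1 := by
        rw [map_mul, map_inv]; exact mul_inv_eq_one.mpr e
      have h2 : ((x : ↥(cen u)) : M) * ((y : ↥(cen u)) : M)⁻¹ ∈ A := mul_mem x.2 (inv_mem y.2)
      rcases L'.ker _ h1 with e' | e'
      · exact Subtype.ext (Subtype.ext (mul_inv_eq_one.mp e'))
      · have h3 := Subgroup.orderOf_dvd_natCard Q (hmemA.mp (e' ▸ h2 : u ∈ A)).1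
        rw [orderOf_two hu] at h3
        exact absurd (even_iff_two_dvd.mpr h3) (Nat.not_even_iff_odd.mpr hQodd)
    have hc : Nat.card A' = Nat.card A := by
      rw [← Nat.card_congr (Subgroup.subgroupOfEquivOfLe hAc).toEquiv, hA']
      exact (Nat.card_congr (Equiv.Set.imageOfInjOn _ _ fun x hx y hy e =>
        congrArg Subtype.val (@hinj ⟨x, hx⟩ ⟨y, hy⟩ e))).symm
    rw [← hc]
    refine Perms.card_inverted ?_ ?_ ?_
    · rintro _ ⟨x, hx, rfl⟩ _ ⟨y, hy, rfl⟩
      exact Commute.map (show Commute x y from Subtype.ext (hQc _ (hmemA.mp hx).1 _ (hmemA.mp hy).1).eq) L'.φ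
    · rw [hc]; exact hQodd.of_dvd_nat (Subgroup.card_dvd_of_le inf_le_left)
    · rintro _ ⟨x, hx, rfl⟩
      rw [← L'.img, ← map_inv, ← map_mul, ← map_mul, ← map_inv]
      exact congrArg L'.φ (Subtype.ext (hinv _ (hmemA.mp hx).1))
  -- an element of order seven or five centralises `Q`
  obtain ⟨p, hp, ρ, hρ, hρp, hρ2, hrig⟩ : ∃ p, p.Prime ∧ ∃ ρ ∈ Alt7, ρ ^ p = 1 ∧ ρ * ρ ≠ 1 ∧
      ∀ d ∈ Nat.divisors (Nat.card Q), d % p = Nat.card Q % p → d = Nat.card Q := by
    have h7 : seven ∈ Alt7 := Perms.mem_Alt7.mpr (by decide)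
    have h5 : five ∈ Alt7 := Perms.mem_Alt7.mpr (by decide)
    have hAo : Odd (Nat.card A) := hQodd.of_dvd_nat (Subgroup.card_dvd_of_le inf_le_left)
    obtain ⟨j, hj⟩ := hAo
    rcases (by omega : Nat.card A = 1 ∨ Nat.card A = 3 ∨ Nat.card A = 5 ∨ Nat.card A = 7 ∨ Nat.card A = 9) with
      e | e | e | e | e <;> rw [hcard, e]
    · exact ⟨7, by norm_num, seven, h7, by decide +kernel, by decide +kernel, by decide +kernel⟩
    · exact ⟨7, by norm_num, seven, h7, by decide +kernel, by decide +kernel, by decide +kernel⟩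
    · exact ⟨7, by norm_num, seven, h7, by decide +kernel, by decide +kernel, by decide +kernel⟩
    · exact ⟨5, by norm_num, five, h5, by decide +kernel, by decide +kernel, by decide +kernel⟩
    · exact ⟨7, by norm_num, seven, h7, by decide +kernel, by decide +kernel, by decide +kernel⟩
  haveI := Fact.mk hp
  obtain ⟨xg, hxg⟩ := L.alt ρ (Perms.mem_Alt7.mp hρ).1
  have hgG : ((xg * xg : ↥(cen t)) : M) ∈ G2 := by
    have h1 := hG xg (by rw [hxg]; exact (Perms.mem_Alt7.mp hρ).2.2) (by rw [hxg]; exact (Perms.mem_Alt7.mp hρ).2.1)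
    exact mul_mem h1 h1
  have hgp : ((xg : M) * xg) ^ p = 1 := by
    have h3 : L.φ (xg ^ p) = 1 := by rw [map_pow, hxg, hρp]
    rw [(Commute.refl (xg : M)).mul_pow]
    rcases L.ker _ h3 with e | e <;> rw [Subgroup.coe_pow] at e <;> rw [e]
    · rw [one_mul]
    · exact ht.2
  have hgQ : ∀ x ∈ Q, Commute ((xg : M) * xg) x := by
    rintro _ ⟨x, hx, rfl⟩
    have hcardN : Nat.card (Cfsg.pPrimeCore 2 ↥G2) = Nat.card Q :=
      (Subgroup.card_map_of_injective G2.subtype_injective).symm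
    have h1 := commute_of_rigid (p := p) (Cfsg.pPrimeCore 2 ↥G2) (g := ⟨(xg : M) * xg, hgG⟩)
      (Subtype.ext hgp) (hcardN ▸ hrig) x hx
    exact congrArg Subtype.val h1.eq
  -- the kernel holds a double transposition
  set K0 : Subgroup M := Subgroup.centralizer (Q : Set M) ⊓ G2 with hK0
  set K := (K0.subgroupOf (cen t) ).map L.φ ⊓ Alt7 with hK
  have hK0n : ∀ g ∈ G2, ∀ q ∈ K0, g * q * g⁻¹ ∈ K0 := fun g hg q hq => by
    refine ⟨Subgroup.mem_centralizer_iff.mpr fun y hy => ?_,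
      G2.mul_mem (G2.mul_mem hg (Subgroup.mem_inf.mp hq).2) (G2.inv_mem hg)⟩
    have h1 := Subgroup.mem_centralizer_iff.mp (Subgroup.mem_inf.mp hq).1 _ (hQn g⁻¹ (inv_mem hg) y hy)
    rw [inv_inv] at h1
    calc y * (g * q * g⁻¹) = g * (g⁻¹ * y * g * q) * g⁻¹ := by group
      _ = g * (q * (g⁻¹ * y * g)) * g⁻¹ := by rw [h1]
      _ = g * q * g⁻¹ * y := by group
  have hgK : ρ * ρ ∈ K := ⟨⟨xg * xg, ⟨Subgroup.mem_centralizer_iff.mpr fun y hy => (hgQ y hy).eq.symm, hgG⟩,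
    by rw [map_mul, hxg]⟩, mul_mem hρ hρ⟩
  have hKn : ∀ σ ∈ Alt7, ∀ x ∈ K, σ * x * σ⁻¹ ∈ K := fun σ hσ x hx =>
    ⟨himg hK0n σ hσ x hx.1, Alt7.mul_mem (Alt7.mul_mem hσ hx.2) (Alt7.inv_mem hσ)⟩
  rcases Perms.seven inf_le_right hKn with e | e
  · exact absurd (Subgroup.mem_bot.mp (e ▸ hgK)) hρ2
  obtain ⟨⟨x, hx, hxd⟩, -⟩ : dd ∈ K := (SetLike.ext_iff.mp e dd).mpr (Perms.mem_Alt7.mpr (by decide))
  have hx2 : (x : M) * x = t := L.sq_double ht h (i := 8) (j := 7) (by decide) (by rw [hxd]; decide)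
    (by rw [hxd]; decide) (by rw [hxd]; decide) (by rw [hxd]; decide)
  refine (Subgroup.eq_bot_iff_forall _).mpr fun q hq => hCt q hq ?_
  have h1 : Commute q (x : M) := Subgroup.mem_centralizer_iff.mp (Subgroup.mem_inf.mp hx).1 q hq
  rw [← hx2]
  exact (h1.mul_right h1).symm

/-- Involutions fixing the same two points are equal. -/
theorem unique_nine (hall : ∀ x y : M, IsInv x → IsInv y → ∃ g : M, g * x * g⁻¹ = y) {x y : M} (hx : IsInv x)
    (hy : IsInv y) {c d : Ω} (hcd : c ≠ d) (hxc : x • c = c) (hxd : x • d = d) (hyc : y • c = c) (hyd : y • d = d) :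
    x = y := by
  obtain ⟨b, hb, hxb, hone⟩ := h.pair_one hN hx hxc
  haveI : Subsingleton {z : M // IsInv z ∧ z • c = c ∧ z • b = b} :=
    ⟨fun z z' => Subtype.ext ((hone _ z.2.1 z.2.2.1 z.2.2.2).trans (hone _ z'.2.1 z'.2.2.1 z'.2.2.2).symm)⟩
  have h2 : Nat.card {z : M // IsInv z ∧ z • c = c ∧ z • d = d} ≤ 1 :=
    (h.count c d c b hcd hb.symm).trans_le (Finite.card_le_one_iff_subsingleton.mpr inferInstance)
  haveI := Finite.card_le_one_iff_subsingleton.mp h2
  exact congrArg Subtype.val (Subsingleton.elim (⟨x, hx, hxc, hxd⟩ : {z : M // IsInv z ∧ z • c = c ∧ z • d = d})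
    ⟨y, hy, hyc, hyd⟩)

/-- Nine points everywhere do not occur. -/
theorem no_nine (hall : ∀ x y : M, IsInv x → IsInv y → ∃ g : M, g * x * g⁻¹ = y) {t : M} (ht : IsInv t) {a : Ω}
    (hta : t • a = a) : False := by
  classical
  haveI := Fintype.ofFinite Ω
  have uniq : ∀ {x y : M}, IsInv x → IsInv y → ∀ {c d : Ω}, c ≠ d → x • c = c → x • d = d → y • c = c → y • d = d →
      x = y := fun hx hy _ _ hcd h1 h2 h3 h4 => h.unique_nine hN hall hx hy hcd h1 h2 h3 h4
  obtain ⟨v, hv, hvt, hvc, hva⟩ := h.exists_member ht hta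
  obtain ⟨L⟩ := h.exists_lab ht hta (hN t ht a hta) hv hvt hvc hva
  have hF : Nat.card {c : Ω // t • c = c} = 9 := by
    rw [← Nat.card_fin 9]
    exact (Nat.card_congr (Equiv.ofBijective (fun i => (⟨L.pt i, L.pt_mem i⟩ : {c : Ω // t • c = c}))
      ⟨fun i j e => L.inj (congrArg Subtype.val e), fun c => by
        obtain ⟨i, hi⟩ := (L.fix c.1).mp c.2
        exact ⟨i, Subtype.ext hi⟩⟩)).symm
  set b := L.pt 7
  have hba : b ≠ a := fun e => by
    rw [← L.pt8] at e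
    exact absurd (L.inj e) (by decide)
  have he : Nat.card {z : M // IsInv z ∧ z • a = a ∧ z • b = b} = 1 := by
    refine Nat.card_eq_one_iff_unique.mpr ⟨⟨fun z z' => Subtype.ext ?_⟩, ⟨⟨t, ht, hta, L.pt_mem 7⟩⟩⟩
    exact uniq z.2.1 z'.2.1 hba.symm z.2.2.1 z.2.2.2 z'.2.2.1 z'.2.2.2
  have hpairs := h.pairs hba.symm (fun z hz => hall t z ht hz)
  rw [hF, he, one_mul] at hpairs
  -- the members at a point
  let Mem : Ω → Type u := fun d => {z : M // IsInv z ∧ Commute z t ∧ z ≠ t ∧ z • d = d}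
  have hconj : ∀ {m : M}, Commute m t → ∀ {d d' : Ω}, m • d = d' → ∀ z : Mem d,
      IsInv (m * z.1 * m⁻¹) ∧ Commute (m * z.1 * m⁻¹) t ∧ m * z.1 * m⁻¹ ≠ t ∧ (m * z.1 * m⁻¹) • d' = d' :=
    fun {m} hm {d d'} e z => ⟨z.2.1.conj m, (hm.mul_left z.2.2.1).mul_left hm.inv_left, fun e' => z.2.2.2.1 (by
      rw [show z.1 = m⁻¹ * (m * z.1 * m⁻¹) * m by group, e', mul_assoc, ← hm.eq, inv_mul_cancel_left]),
      fix_conj e z.2.2.2.2⟩
  have hMem : ∀ d : {c : Ω // t • c = c}, Nat.card (Mem d.1) = Nat.card (Mem a) := fun d => by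
    obtain ⟨m, hm, e⟩ := h.fixTrans t ht d.1 a d.2 hta
    refine Nat.card_congr ⟨fun z => ⟨m * z.1 * m⁻¹, hconj hm e z⟩,
      fun z => ⟨m⁻¹ * z.1 * m⁻¹⁻¹, hconj hm.inv_left (inv_smul_eq_iff.mpr e.symm) z⟩,
      fun z => Subtype.ext (by simp [mul_assoc]), fun z => Subtype.ext (by simp [mul_assoc])⟩
  have hline : ∀ (d : {c : Ω // t • c = c}) (z : Mem d.1), Nat.card {c : Ω // z.1 • c = c ∧ c ≠ d.1} = 8 := by
    intro d z
    obtain ⟨g, hg⟩ := hall t z.1 ht z.2.1
    have h1 : Nat.card {c : Ω // z.1 • c = c} = 9 := by rw [← hg, h.card_fix_conj, hF]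
    rw [Nat.card_eq_fintype_card, Fintype.card_subtype] at h1 ⊢
    rw [show (Finset.univ.filter fun c : Ω => z.1 • c = c ∧ c ≠ d.1) =
      (Finset.univ.filter fun c : Ω => z.1 • c = c).erase d.1 by ext c; simp [and_comm],
      Finset.card_erase_of_mem (by simp [z.2.2.2.2]), h1]
  -- each moved point lies on the line of one member
  let f : (Σ d : {c : Ω // t • c = c}, Σ z : Mem d.1, {c : Ω // z.1 • c = c ∧ c ≠ d.1}) → {c : Ω // t • c ≠ c} :=
    fun x => ⟨x.2.2.1, fun e => x.2.1.2.2.2.1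
      (uniq x.2.1.2.1 ht x.2.2.2.2 x.2.2.2.1 x.2.1.2.2.2.2 e x.1.2)⟩
  have hf : Function.Bijective f := by
    constructor
    · rintro ⟨d, z, c⟩ ⟨d', z', c'⟩ e
      have ec : c.1 = c'.1 := congrArg Subtype.val e
      have htc : t • c.1 ≠ c.1 := (f ⟨d, z, c⟩).2
      have hztc : ∀ {w : M}, Commute w t → w • c.1 = c.1 → w • t • c.1 = t • c.1 := fun {w} hw hwc => by
        rw [← mul_smul, hw.eq, mul_smul, hwc]
      have hz' : z'.1 • c.1 = c.1 := ec ▸ c'.2.1
      have ez : z.1 = z'.1 := uniq z.2.1 z'.2.1 htc.symm c.2.1 (hztc z.2.2.1 c.2.1) hz' (hztc z'.2.2.1 hz')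
      have ed : d = d' := by
        by_contra hne
        exact z.2.2.2.1 (uniq z.2.1 ht (fun e => hne (Subtype.ext e)) z.2.2.2.2 (ez ▸ z'.2.2.2.2) d.2 d'.2)
      subst ed
      obtain rfl : z = z' := Subtype.ext ez
      obtain rfl : c = c' := Subtype.ext ec
      rfl
    · rintro ⟨c, hc⟩
      have h1 := h.count c (t • c) a b (Ne.symm hc) hba.symm
      rw [he] at h1
      obtain ⟨-, ⟨⟨z, hz, hzc, hztc⟩⟩⟩ := Nat.card_eq_one_iff_unique.mp h1
      have e1 : (t * z * t⁻¹) • (t • c) = t • c := fix_conj rfl hzc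
      have e2 : (t * z * t⁻¹) • c = c := fix_conj (by rw [← mul_smul, ht.2, one_smul]) hztc
      have hzt : Commute z t := by
        have e3 := uniq hz (hz.conj t) (Ne.symm hc) hzc hztc e2 e1
        exact (mul_inv_eq_iff_eq_mul.mp e3.symm).symm
      have hzne : z ≠ t := fun e => hc (e ▸ hzc)
      obtain ⟨d, hzd, htd⟩ := h.exists_common ht hz hzt
      exact ⟨⟨⟨d, htd⟩, ⟨z, hz, hzt, hzne, hzd⟩, ⟨c, hzc, fun e => hc (e ▸ htd)⟩⟩, rfl⟩
  haveI : ∀ d, Fintype (Mem d) := fun d => Fintype.ofFinite _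
  have hmoved : Nat.card {c : Ω // t • c ≠ c} = 9 * (Nat.card (Mem a) * 8) := by
    rw [← Nat.card_congr (Equiv.ofBijective f hf), Nat.card_sigma, Finset.sum_congr rfl fun d _ => show _ = Nat.card (Mem a) * 8 from ?_,
      Finset.sum_const, Finset.card_univ, smul_eq_mul, ← Nat.card_eq_fintype_card, hF]
    rw [Nat.card_sigma, Finset.sum_congr rfl fun z _ => hline d z, Finset.sum_const, Finset.card_univ, smul_eq_mul,
      ← Nat.card_eq_fintype_card, hMem d]
  have hn : Nat.card Ω = 9 + 9 * (Nat.card (Mem a) * 8) := by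
    rw [← hmoved, ← hF, ← Nat.card_sum]
    exact (Nat.card_congr (Equiv.sumCompl fun c : Ω => t • c = c)).symm
  -- the involutions inverted by a member
  have hlab : ∀ w : Mem a, Nonempty (Lab w.1 a t) := fun w =>
    h.exists_lab w.2.1 w.2.2.2.2 (hN w.1 w.2.1 a w.2.2.2.2) ht (Ne.symm w.2.2.2.1) w.2.2.1.symm hta
  let Lw : ∀ w : Mem a, Lab w.1 a t := fun w => (hlab w).some
  let xi : ∀ w : Mem a, Fin 5 → ↥(cen w.1) := fun w i =>
    ((Lw w).alt (conjs i * tau * (conjs i)⁻¹) (by revert i; decide)).choose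
  have hxi : ∀ w i, (Lw w).φ (xi w i) = conjs i * tau * (conjs i)⁻¹ := fun w i =>
    ((Lw w).alt (conjs i * tau * (conjs i)⁻¹) (by revert i; decide)).choose_spec
  let yi : ∀ w : Mem a, Fin 5 → Bool → ↥(cen w.1) := fun w i s => xi w i * if s then inCent w.1 else 1
  have hyi : ∀ w i s, (Lw w).φ (yi w i s) = conjs i * tau * (conjs i)⁻¹ := fun w i s => by
    show (Lw w).φ (xi w i * if s then inCent w.1 else 1) = _
    rw [map_mul, hxi]
    cases s <;> simp [(Lw w).img_w]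
  have hdata : ∀ w i s, IsInv ((yi w i s : ↥(cen w.1)) : M) ∧ ((yi w i s : ↥(cen w.1)) : M) • a = a ∧
      t * (yi w i s : M) * (t * (yi w i s : M)) = w.1 := by
    intro w i s
    obtain ⟨hs, h8, hne, hsq, ⟨j, hj8, hj⟩, -⟩ := conjs_spec i
    refine ⟨((Lw w).lift_inv w.2.1 ht (Ne.symm w.2.2.2.1) hs (hyi w i s)).1,
      ((Lw w).smul_a _).mpr (by rw [hyi]; exact h8), ?_⟩
    have himg : (Lw w).φ (⟨t, (Lw w).mem⟩ * yi w i s) = tau * (conjs i * tau * (conjs i)⁻¹) := by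
      rw [map_mul, (Lw w).img, hyi]
    exact (Lw w).sq_double w.2.1 h (x := ⟨t, (Lw w).mem⟩ * yi w i s) (i := 8) (j := j) hj8.symm
      (by rw [himg, Perm.mul_apply, h8]; decide) (by rw [himg]; exact hj) (by rw [himg]; exact hne)
      (by rw [himg]; exact hsq)
  let g : Option (Mem a ⊕ Mem a × Fin 5 × Bool) → {z : M // IsInv z ∧ z • a = a} := fun x => match x with
    | none => ⟨t, ht, hta⟩
    | some (Sum.inl z) => ⟨z.1, z.2.1, z.2.2.2.2⟩
    | some (Sum.inr (w, i, s)) => ⟨yi w i s, (hdata w i s).1, (hdata w i s).2.1⟩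
  have hg : Function.Injective g := by
    have hnt : ∀ w i s, ∀ z : M, IsInv z → Commute z t → (yi w i s : M) ≠ z := fun w i s z hz hzt e => by
      have h1 := (hdata w i s).2.2
      rw [e, hzt.mul_mul_mul_comm, ht.2, hz.2, one_mul] at h1
      · exact w.2.1.1 h1.symm
    rintro (_ | z | ⟨w, i, s⟩) (_ | z' | ⟨w', i', s'⟩) e <;> have e' := congrArg Subtype.val e
    · rfl
    · exact absurd e'.symm z'.2.2.2.1
    · exact absurd e'.symm (hnt w' i' s' t ht (Commute.refl t))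
    · exact absurd e' z.2.2.2.1
    · exact congrArg (fun z => some (Sum.inl z)) (Subtype.ext e')
    · exact absurd e'.symm (hnt w' i' s' z.1 z.2.1 z.2.2.1)
    · exact absurd e' (hnt w i s t ht (Commute.refl t))
    · exact absurd e' (hnt w i s z'.1 z'.2.1 z'.2.2.1)
    · have ee : (yi w i s : M) = yi w' i' s' := e'
      obtain rfl : w = w' := Subtype.ext (by rw [← (hdata w i s).2.2, ← (hdata w' i' s').2.2, ee])
      have ey : yi w i s = yi w i' s' := Subtype.ext ee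
      obtain rfl : i' = i := (conjs_spec i).2.2.2.2.2 i' (by rw [← hyi w i s, ← hyi w i' s', ey])
      have es := mul_left_cancel ey
      have hne : (inCent w.1 : ↥(cen w.1)) ≠ 1 := fun e'' => w.2.1.1 (congrArg Subtype.val e'')
      cases s <;> cases s' <;> simp_all
  have hle := Nat.card_le_card_of_injective g hg
  rw [Finite.card_option, Nat.card_sum, Nat.card_prod, Nat.card_prod, Nat.card_fin, Nat.card_eq_fintype_card (α := Bool),
    Fintype.card_bool] at hle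
  have hm : 0 < Nat.card (Mem a) := by
    haveI : Nonempty (Mem a) := ⟨⟨v, hv, hvc, hvt, hva⟩⟩
    exact Nat.card_pos
  omega

end Act

end CfsgLib.TwoTransOdd
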