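import Cfsg.Agent.Lib.TwoTransOdd.Twins

/-!
The twin groups when the odd core is trivial: the normaliser of an element of `R` keeps the line of `C` at the base,
and the lines cover nine or twenty five points.

Blueprint: `blueprint/S3120.md`, B.
-/

set_option autoImplicit false
set_option linter.unusedSectionVars false
set_option linter.style.haveILetI false

universe u

namespace CfsgLib.CoreKill.Local

open Cfsg MulAction
open CfsgLib.Bender.TwoClosed (IsInv)
open CfsgLib.Bender.Assembly (fix_iff)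

variable {X : Type u} [Group X] [Finite X] {H : Subgroup X} {P : Sylow 2 X} {t : X} {R C : Subgroup X}

/-- A quaternion group over `t`. -/
structure QG (t : X) (G : Subgroup X) : Prop where
  t_mem : t ∈ G
  card : Nat.card G = 8
  sq : ∀ x ∈ G, x ≠ 1 → x ≠ t → x * x = t
  anti : ∀ x ∈ G, ∀ y ∈ G, x ≠ 1 → x ≠ t → y ≠ 1 → y ≠ t → y ≠ x → y ≠ x * t → x * y = y * x * t

namespace QG

variable {G : Subgroup X} (h : Pt H P t) (T : Twin H P t R C) (q : QG t G)

include h T in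
theorem of_R : QG t R := ⟨T.t_mem, T.card, T.sq, T.anti⟩

include h T in
theorem of_C : QG t C := by
  obtain ⟨h1, h2, h3, h4⟩ := T.C_facts h
  exact ⟨h1, h2, h3, h4⟩

include h q

theorem inv_mem_pair {x : X} (hx : x = 1 ∨ x = t) : x⁻¹ = x := by
  rcases hx with rfl | rfl
  · exact inv_one
  · exact h.inv.inv

theorem eq_class {x y : X} (hx : x ∈ G) (hy : y ∈ G) (hx' : x ≠ 1 ∧ x ≠ t) (hy' : y ≠ 1 ∧ y ≠ t)
    (hc : Commute x y) : y = x ∨ y = x * t := by
  by_contra hne
  push Not at hne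
  have e := q.anti x hx y hy hx'.1 hx'.2 hy'.1 hy'.2 hne.1 hne.2
  rw [← hc.eq] at e
  exact h.inv.1 (mul_eq_left.mp e.symm)

theorem mod {x y : X} (hx : x ∈ G) (hy : y ∈ G) : x * y * x⁻¹ = y ∨ x * y * x⁻¹ = y * t := by
  by_cases h1 : x = 1 ∨ x = t
  · refine Or.inl ?_
    rcases h1 with rfl | rfl
    · simp
    · rw [← (h.central y).eq, mul_inv_cancel_right]
  by_cases h2 : y = 1 ∨ y = t
  · refine Or.inl ?_
    rcases h2 with rfl | rfl
    · simp
    · rw [(h.central x).eq, mul_inv_cancel_right]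
  push Not at h1 h2
  by_cases h3 : y = x ∨ y = x * t
  · refine Or.inl ?_
    rcases h3 with rfl | rfl
    · group
    · rw [mul_assoc x (x * t), mul_assoc x t, ← (h.central x⁻¹).eq, mul_inv_cancel_left]
  push Not at h3
  refine Or.inr (mul_inv_eq_iff_eq_mul.mpr ?_)
  rw [q.anti x hx y hy h1.1 h1.2 h2.1 h2.2 h3.1 h3.2, mul_assoc, (h.central x).eq, ← mul_assoc]

theorem center {x : X} (hx : x ∈ G) (hc : ∀ y ∈ G, Commute x y) : x = 1 ∨ x = t := by
  by_contra hne
  push Not at hne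
  obtain ⟨y, hy, hy1, hyt, hyx, hyxt⟩ : ∃ y ∈ G, y ≠ 1 ∧ y ≠ t ∧ y ≠ x ∧ y ≠ x * t := by
    by_contra hall
    push Not at hall
    have hsub : (G : Set X) ⊆ {1, t, x, x * t} := fun b hb => by
      by_contra hb'
      simp only [Set.mem_insert_iff, Set.mem_singleton_iff, not_or] at hb'
      exact hb'.2.2.2 (hall b hb hb'.1 hb'.2.1 hb'.2.2.1)
    have h2 := Set.ncard_le_ncard hsub (Set.toFinite _)
    rw [← Nat.card_coe_set_eq] at h2
    have h3 : Set.ncard ({1, t, x, x * t} : Set X) ≤ 4 := by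
      refine (Set.ncard_insert_le _ _).trans (Nat.succ_le_succ ((Set.ncard_insert_le _ _).trans
        (Nat.succ_le_succ ((Set.ncard_insert_le _ _).trans (Nat.succ_le_succ ?_)))))
      rw [Set.ncard_singleton]
    have h4 : Nat.card G = Nat.card (G : Set X) := rfl
    have := q.card
    omega
  rcases q.eq_class h hx hy hne ⟨hy1, hyt⟩ (hc y hy) with e | e
  · exact hyx e
  · exact hyxt e

theorem exists_proper : ∃ x ∈ G, x ≠ 1 ∧ x ≠ t := by
  by_contra hno
  push Not at hno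
  have hsub : (G : Set X) ⊆ {1, t} := fun b hb => by
    by_cases hb1 : b = 1
    · exact Or.inl hb1
    · exact Or.inr (hno b hb hb1)
  have h2 := Set.ncard_le_ncard hsub (Set.toFinite _)
  rw [← Nat.card_coe_set_eq] at h2
  have h3 : Set.ncard ({1, t} : Set X) ≤ 2 := (Set.ncard_insert_le _ _).trans (by rw [Set.ncard_singleton])
  have h4 : Nat.card G = Nat.card (G : Set X) := rfl
  have := q.card
  omega

/-- An element of square `t` normalising the group keeps one of its three classes. -/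
theorem exists_fixed_class {y : X} (hy : y * y = t) (hyG : ∀ x ∈ G, y * x * y⁻¹ ∈ G) :
    ∃ x ∈ G, x ≠ 1 ∧ x ≠ t ∧ (y * x * y⁻¹ = x ∨ y * x * y⁻¹ = x * t) := by
  obtain ⟨x, hx, hx1, hxt⟩ := q.exists_proper h
  by_cases hfix : y * x * y⁻¹ = x ∨ y * x * y⁻¹ = x * t
  · exact ⟨x, hx, hx1, hxt, hfix⟩
  push Not at hfix
  set z := y * x * y⁻¹ with hz
  have hyz : y * z * y⁻¹ = x := by
    rw [hz, show y * (y * x * y⁻¹) * y⁻¹ = (y * y) * x * (y * y)⁻¹ by group, hy, ← (h.central x).eq,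
      mul_inv_cancel_right]
  have hzG : z ∈ G := hyG x hx
  have hz1 : z ≠ 1 := fun e => hx1 (by rw [← hyz, e]; group)
  have hzt : z ≠ t := fun e => hxt (by rw [← hyz, e, (h.central y).eq, mul_inv_cancel_right])
  have e := q.anti x hx z hzG hx1 hxt hz1 hzt hfix.1 hfix.2
  refine ⟨x * z, mul_mem hx hzG, fun e' => ?_, fun e' => ?_, Or.inr ?_⟩
  · exact hfix.2 (by rw [eq_inv_of_mul_eq_one_right e', h.inv_eq_mul (q.sq x hx hx1 hxt)])
  · exact hfix.1 (by
      rw [show z = x⁻¹ * t by rw [← e', inv_mul_cancel_left], h.inv_eq_mul (q.sq x hx hx1 hxt), mul_assoc, h.inv.2,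
        mul_one])
  · rw [show y * (x * z) * y⁻¹ = y * x * y⁻¹ * (y * z * y⁻¹) by group, hyz, ← hz, e, mul_assoc _ t t, h.inv.2, mul_one]

/-- An orbit off the fixed points has four points. -/
theorem orbit_card {p : X ⧸ H} (hp : ∀ x ∈ G, x • p = p → x = 1 ∨ x = t) : Nat.card (orbit G p) = 4 := by
  have h1 : Nat.card (stabilizer G p) = 2 := by
    rw [← Nat.card_fin 2]
    refine Nat.card_congr (Equiv.ofBijective (fun i : Fin 2 => (⟨if i = 0 then 1 else ⟨t, q.t_mem⟩, by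
      split_ifs
      · exact one_mem _
      · exact h.t_fix p⟩ : stabilizer G p)) ⟨fun i j e => ?_, fun x => ?_⟩).symm
    · have e' := congrArg (fun z : stabilizer G p => ((z : G) : X)) e
      simp only at e'
      fin_cases i <;> fin_cases j <;>
        first | rfl | exact (h.inv.1 (by simpa using e')).elim | exact (h.inv.1 (by simpa using e'.symm)).elim
    · rcases hp (x : G) (x : G).2 x.2 with e | e
      · exact ⟨0, Subtype.ext (Subtype.ext (by simpa using e.symm))⟩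
      · exact ⟨1, Subtype.ext (Subtype.ext (by simpa using e.symm))⟩
  have h2 := Subgroup.card_mul_index (stabilizer G p)
  rw [h1, index_stabilizer, q.card, ← Nat.card_coe_set_eq] at h2
  omega

end QG

variable (h : Pt H P t) (D : Twins H P t R C) (hO : oddCore X = ⊥)

/-- The points fixed by `R`. -/
def lineOf (H : Subgroup X) (R : Subgroup X) : Set (X ⧸ H) := {p | ∀ x ∈ R, x • p = p}

namespace Twins

include h D

theorem lineR_eq {r : X} (hr : r ∈ R) (hr1 : r ≠ 1) (hrt : r ≠ t) : lineOf H R = fixSet H r :=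
  Set.ext fun _ => ⟨fun hp => hp r hr, fun hp _ hx => D.twin.fixR h hr hr1 hrt hx hp⟩

theorem lineC_eq {c : X} (hc : c ∈ C) (hc1 : c ≠ 1) (hct : c ≠ t) : lineOf H C = fixSet H c := by
  refine Set.ext fun p => ⟨fun hp => hp c hc, fun hp x hx => ?_⟩
  by_cases hx' : x = 1 ∨ x = t
  · rcases hx' with rfl | rfl
    · exact one_smul _ p
    · exact h.t_fix p
  push Not at hx'
  exact (D.twin.fixC_eq h hc hc1 hct hx hx'.1 hx'.2).le hp

theorem base_lineR : base H ∈ lineOf H R := fun _ hx => fix_base.mpr (D.twin.R_mem_H h hx)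

theorem base_lineC : base H ∈ lineOf H C := fun _ hx => fix_base.mpr (D.twin.C_mem_H h hx)

theorem card_lineR : (lineOf H R).ncard = 5 := by
  obtain ⟨r, hr, hr1, hrt⟩ := (QG.of_R h D.twin).exists_proper h
  rw [D.lineR_eq h hr hr1 hrt]
  exact D.twin.card_fix h hr hr1 hrt

theorem card_lineC : (lineOf H C).ncard = 5 := by
  obtain ⟨c, hc, hc1, hct⟩ := (QG.of_C h D.twin).exists_proper h
  rw [D.lineC_eq h hc hc1 hct]
  exact D.twin.card_fixC h hc hc1 hct

theorem line_inter {p : X ⧸ H} (hp : p ∈ lineOf H R) (hp' : p ∈ lineOf H C) : p = base H := by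
  obtain ⟨r, hr, hr1, hrt⟩ := (QG.of_R h D.twin).exists_proper h
  obtain ⟨c, hc, hc1, hct⟩ := (QG.of_C h D.twin).exists_proper h
  exact D.twin.eq_base h hr hc (D.twin.sq r hr hr1 hrt) ((QG.of_C h D.twin).sq c hc hc1 hct) (hp r hr) (hp' c hc)

theorem free_R {p : X ⧸ H} (hp : p ∉ lineOf H R) {x : X} (hx : x ∈ R) (hxp : x • p = p) : x = 1 ∨ x = t := by
  by_contra hne
  push Not at hne
  exact hp ((D.lineR_eq h hx hne.1 hne.2).ge hxp)

theorem free_C {p : X ⧸ H} (hp : p ∉ lineOf H C) {x : X} (hx : x ∈ C) (hxp : x • p = p) : x = 1 ∨ x = t := by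
  by_contra hne
  push Not at hne
  exact hp ((D.lineC_eq h hx hne.1 hne.2).ge hxp)

/-- `R` moves the line of `C` transitively off the base. -/
theorem orbit_R {p : X ⧸ H} (hp : p ∈ lineOf H C) (hp0 : p ≠ base H) : orbit R p = lineOf H C \ {base H} := by
  have hpR : p ∉ lineOf H R := fun h1 => hp0 (D.line_inter h h1 hp)
  refine Set.eq_of_subset_of_ncard_le ?_ ?_ (Set.toFinite _)
  · rintro _ ⟨x, rfl⟩
    refine ⟨fun c hc => ?_, fun e => hp0 ?_⟩
    · show c • (x : X) • p = (x : X) • p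
      rw [← mul_smul, (D.twin.comm c hc x x.2).eq, mul_smul, hp c hc]
    · have e' : (x : X) • p = base H := e
      rw [← inv_smul_smul (x : X) p, e', inv_smul_eq_iff, fix_base.mpr (D.twin.R_mem_H h x.2)]
  · rw [Set.ncard_sdiff_singleton_of_mem (D.base_lineC h), D.card_lineC h, ← Nat.card_coe_set_eq,
      (QG.of_R h D.twin).orbit_card h fun x hx e => D.free_R h hpR hx e]

include hO

/-- The kernel is `<t>`. -/
theorem kernel {x : X} (hx : x ∈ H.normalCore) : x = 1 ∨ x = t := by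
  haveI : Fact (Nat.Prime 2) := ⟨Nat.prime_two⟩
  haveI : H.normalCore.Normal := Subgroup.normalCore_normal _
  have hK : IsPGroup 2 H.normalCore := fun k => by
    obtain ⟨i, m, hm, e⟩ := Nat.exists_eq_two_pow_mul_odd (orderOf_pos (k : X)).ne'
    refine ⟨i, Subtype.ext ?_⟩
    have ho : Odd (orderOf ((k : X) ^ 2 ^ i)) := by
      rw [orderOf_pow, e, Nat.gcd_eq_right (dvd_mul_right _ _), Nat.mul_div_cancel_left _ (Nat.two_pow_pos i)]
      exact hm
    exact Subgroup.mem_bot.mp (hO ▸ D.twin.kernel_odd h (pow_mem k.2 _) ho)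
  obtain ⟨g, -, hg⟩ := Bender.Q.exists_conj_sylow (S := P) le_top hK le_top
  rcases D.twin.kernel_sylow h (hg x hx) (Subgroup.Normal.conj_mem inferInstance x hx g) with e | e
  · exact Or.inl (conj_eq_one_iff.mp e)
  · exact Or.inr (by rw [show x = g⁻¹ * (g * x * g⁻¹) * g by group, e, mul_assoc, ← (h.central g).eq, inv_mul_cancel_left])

variable {r : X} (hr : r ∈ R) (hr1 : r ≠ 1) (hrt : r ≠ t)
include hr hr1 hrt

local notation "N" => Subgroup.normalizer (Subgroup.zpowers r : Set X)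

omit hO in
theorem line_N {n : X} (hn : n ∈ N) {p : X ⧸ H} : p ∈ lineOf H R ↔ n • p ∈ lineOf H R := by
  rw [D.lineR_eq h hr hr1 hrt]; exact D.twin.fixSet_N h hr hr1 hrt hn

/-- An element of `N(<r>)` fixing the line of `r` lies in `R`. -/
theorem mem_R_of_fix {x : X} (hxN : x ∈ N) (hxD : ∀ p ∈ lineOf H R, x • p = p) : x ∈ R := by
  haveI : Fact (Nat.Prime 2) := ⟨Nat.prime_two⟩
  rw [D.lineR_eq h hr hr1 hrt] at hxD
  set W := N ⊓ fixAll H (fixSet H r) with hW
  have hmem : ∀ {z : X}, z ∈ W ↔ z ∈ N ∧ ∀ p ∈ fixSet H r, z • p = p := fun {z} => by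
    rw [hW, Subgroup.mem_inf, mem_fixAll]
  have hWH : W ≤ H := fun z hz => fix_base.mp ((hmem.mp hz).2 _ (D.twin.base_mem h hr))
  have hW2 : IsPGroup 2 W := fun k => by
    obtain ⟨i, m, hm, e⟩ := Nat.exists_eq_two_pow_mul_odd (orderOf_pos (k : X)).ne'
    refine ⟨i, Subtype.ext ?_⟩
    have ho : Odd (orderOf ((k : X) ^ 2 ^ i)) := by
      rw [orderOf_pow, e, Nat.gcd_eq_right (dvd_mul_right _ _), Nat.mul_div_cancel_left _ (Nat.two_pow_pos i)]
      exact hm
    have hkW := pow_mem k.2 (2 ^ i)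
    refine Subgroup.mem_bot.mp (hO ▸ D.twin.line_core h hr hr1 hrt ho (commute_of_mod h.inv h.central ho
      (h.conj_eq (D.twin.r_sq h hr hr1 hrt) (hmem.mp hkW).1)) (hmem.mp hkW).2)
  obtain ⟨m, hm, -, hmR⟩ := D.twin.kernel_conj h hr hr1 hrt hW2 (fun z hz => (hmem.mp hz).1) hWH
    (fun z hz => (hmem.mp hz).2)
  have h1 : m⁻¹ * x * m ∈ W := by
    refine hmem.mpr ⟨mul_mem (mul_mem (inv_mem hm) hxN) hm, fun p hp => ?_⟩
    rw [mul_smul, mul_smul, hxD _ ((D.twin.fixSet_N h hr hr1 hrt hm).mp hp), inv_smul_smul]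
  have h2 := hmR _ h1
  rwa [show m * (m⁻¹ * x * m) * m⁻¹ = x by group] at h2

omit hO in
theorem R_le_N {x : X} (hx : x ∈ R) : x ∈ N :=
  h.mem_normalizer (D.twin.r_sq h hr hr1 hrt) (D.twin.R_mod h hr hx)

omit hO in
theorem C_le_N {x : X} (hx : x ∈ C) : x ∈ N :=
  h.mem_normalizer (D.twin.r_sq h hr hr1 hrt) (D.twin.C_mod h hr hx)

/-- `N(<r>)` normalises `R`. -/
theorem N_normal {n x : X} (hn : n ∈ N) (hx : x ∈ R) : n * x * n⁻¹ ∈ R :=
  D.mem_R_of_fix h hO hr hr1 hrt (mul_mem (mul_mem hn (D.R_le_N h hr hr1 hrt hx)) (inv_mem hn)) fun p hp => by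
    rw [mul_smul, mul_smul, ((D.line_N h hr hr1 hrt (inv_mem hn)).mp hp) x hx, smul_inv_smul]

/-- An element of `N(<r>)` at the base, involutory and free on the line, is a product from `C` and `R`. -/
theorem exists_CR {x : X} (hxN : x ∈ N) (hxH : x ∈ H) (hx2 : ∀ p : X ⧸ H, x • x • p = p)
    (hxD : ∀ p ∈ lineOf H R, x • p = p → p = base H) : ∃ c ∈ C, c ≠ 1 ∧ c ≠ t ∧ ∃ ρ ∈ R, x = c * ρ := by
  rw [D.lineR_eq h hr hr1 hrt] at hxD
  obtain ⟨p, hp, hp0⟩ : ∃ p ∈ fixSet H r, p ≠ base H := by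
    by_contra hall
    push Not at hall
    have h1 : fixSet H r ⊆ {base H} := fun p hp => hall p hp
    have h2 := Set.ncard_le_ncard h1 (Set.toFinite _)
    rw [D.twin.card_fix h hr hr1 hrt, Set.ncard_singleton] at h2
    omega
  have hxp := (D.twin.fixSet_N h hr hr1 hrt hxN).mp hp
  have hx0 : x • base H = base H := fix_base.mpr hxH
  have hxp0 : x • p ≠ base H := fun e => hp0 (smul_left_cancel x (e.trans hx0.symm))
  obtain ⟨c, hc, hc1, hct, hcp⟩ :=
    D.twin.exists_regular h hr hr1 hrt hp hp0 hxp hxp0 fun e => hp0 (hxD p hp e)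
  refine ⟨c, hc, hc1, hct, c⁻¹ * x, ?_, (mul_inv_cancel_left c x).symm⟩
  have hc2 := (QG.of_C h D.twin).sq c hc hc1 hct
  have hagree := five_eq (D.twin.card_fix h hr hr1 hrt) (D.twin.base_mem h hr)
    (fun q hq => (D.twin.fixSet_N h hr hr1 hrt hxN).mp hq) hx0 (fun q _ => hx2 q) hxD (e := c)
    (fun q hq => (fixSet_move h (D.twin.C_mod h hr hc)).mp hq) (fix_base.mpr (D.twin.C_mem_H h hc))
    (fun q _ => by rw [← mul_smul, hc2, h.t_fix])
    (fun q hq e => D.twin.eq_base h hr hc (D.twin.r_sq h hr hr1 hrt) hc2 hq e) hp hp0 hcp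
  refine D.mem_R_of_fix h hO hr hr1 hrt (mul_mem (inv_mem (D.C_le_N h hr hr1 hrt hc)) hxN) fun q hq => ?_
  rw [D.lineR_eq h hr hr1 hrt] at hq
  rw [mul_smul, ← hagree q hq, inv_smul_smul]

/-- At the base `N(<r>)` normalises `C`. -/
theorem base_normal {n c : X} (hn : n ∈ N) (hnH : n ∈ H) (hc : c ∈ C) : n * c * n⁻¹ ∈ C := by
  have qC := QG.of_C h D.twin
  by_cases hc' : c = 1 ∨ c = t
  · rcases hc' with rfl | rfl
    · simp
    · rw [(h.central n).eq, mul_inv_cancel_right]; exact hc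
  push Not at hc'
  obtain ⟨c', hc'C, -, -, ρ, hρ, e⟩ := D.exists_CR h hO hr hr1 hrt
    (mul_mem (mul_mem hn (D.C_le_N h hr hr1 hrt hc)) (inv_mem hn))
    (mul_mem (mul_mem hnH (D.twin.C_mem_H h hc)) (inv_mem hnH)) (fun p => by
      rw [← mul_smul, show n * c * n⁻¹ * (n * c * n⁻¹) = n * (c * c) * n⁻¹ by group, qC.sq c hc hc'.1 hc'.2,
        (h.central n).eq, mul_inv_cancel_right, h.t_fix])
    (fun p hp hp' => by
      rw [mul_smul, mul_smul, ← eq_inv_smul_iff] at hp'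
      have h1 := D.twin.eq_base h hr hc (D.twin.r_sq h hr hr1 hrt) (qC.sq c hc hc'.1 hc'.2)
        (((D.line_N h hr hr1 hrt (inv_mem hn)).mp hp) r hr) hp'
      rwa [inv_smul_eq_iff, fix_base.mpr hnH] at h1)
  rw [e]
  refine mul_mem hc'C ?_
  have hcomm : ∀ z ∈ R, Commute (n * c * n⁻¹) z := fun z hz => by
    have hz' : n⁻¹ * z * n ∈ R := by
      have := D.N_normal h hO hr hr1 hrt (inv_mem hn) hz
      rwa [inv_inv] at this
    have := (D.twin.comm c hc _ hz').map (MulAut.conj n).toMonoidHom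
    simpa [mul_assoc] using this
  rcases (QG.of_R h D.twin).center h hρ fun z hz => by
      have := ((D.twin.comm c' hc'C z hz).inv_left).mul_left (hcomm z hz)
      rwa [e, inv_mul_cancel_left] at this with rfl | rfl
  · exact one_mem C
  · exact qC.t_mem

/-- At the base `N(<r>)` keeps the line of `C`. -/
theorem base_lineC_move {n : X} (hn : n ∈ N) (hnH : n ∈ H) {p : X ⧸ H} (hp : p ∈ lineOf H C) :
    n • p ∈ lineOf H C := fun c hc => by
  have h1 := hp _ (D.base_normal h hO hr hr1 hrt (inv_mem hn) (inv_mem hnH) hc)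
  rw [inv_inv, mul_smul, mul_smul, inv_smul_eq_iff] at h1
  exact h1

omit hO in
/-- Every point off the line is on a translate of the line of `C`. -/
theorem exists_cover {b : X ⧸ H} (hb : b ∉ lineOf H R) : ∃ n ∈ N, n⁻¹ • b ∈ lineOf H C \ {base H} := by
  obtain ⟨n, hn, hnC⟩ := D.twin.cover h hr hr1 hrt (b := b) (by rwa [← D.lineR_eq h hr hr1 hrt])
  obtain ⟨c, hc, hc1, hct⟩ := (QG.of_C h D.twin).exists_proper h
  refine ⟨n, hn, (D.lineC_eq h hc hc1 hct).ge (hnC c hc hc1 hct), fun e => hb ?_⟩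
  have e' : n⁻¹ • b = base H := e
  rw [inv_smul_eq_iff] at e'
  rw [e']
  exact (D.line_N h hr hr1 hrt hn).mp (D.base_lineR h)

/-- `N(<r>)` either keeps the translate at the base or separates all of them. -/
theorem dichotomy :
    (∀ n ∈ N, ∀ p ∈ lineOf H C \ {base H}, n • p ∈ lineOf H C \ {base H}) ∨
      ∀ n ∈ N, ∀ p ∈ lineOf H C \ {base H}, n • p ∈ lineOf H C \ {base H} → n ∈ H := by
  haveI : Fact (Nat.Prime 5) := ⟨by norm_num⟩
  set A := lineOf H C \ {base H} with hA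
  have hmove : ∀ n ∈ N, ∀ p ∈ A, n • p ∈ A → ∀ q ∈ A, n • q ∈ A := by
    intro n hn p hp hnp q hq
    obtain ⟨x, rfl⟩ := (D.orbit_R h hp.1 hp.2).ge hq
    show n • (x : X) • p ∈ A
    rw [← mul_smul, show n * (x : X) = n * x * n⁻¹ * n by group, mul_smul, hA, ← D.orbit_R h hnp.1 hnp.2]
    exact ⟨⟨_, D.N_normal h hO hr hr1 hrt hn x.2⟩, rfl⟩
  let S : Subgroup X :=
    { carrier := {n | n ∈ N ∧ ∀ q ∈ A, n • q ∈ A}
      one_mem' := ⟨one_mem _, fun q hq => by rwa [one_smul]⟩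
      mul_mem' := fun {a b} ha hb => ⟨mul_mem ha.1 hb.1, fun q hq => by rw [mul_smul]; exact ha.2 _ (hb.2 q hq)⟩
      inv_mem' := fun {a} ha => ⟨inv_mem ha.1, fun q hq => by
        have hinj : Function.Injective fun z : A => (⟨a • z.1, ha.2 _ z.2⟩ : A) := fun z w e =>
          Subtype.ext (MulAction.injective a (congrArg Subtype.val e))
        obtain ⟨z, hz⟩ := ((Finite.injective_iff_surjective (α := ↥A)).mp hinj) ⟨q, hq⟩
        rw [← show a • z.1 = q from congrArg Subtype.val hz, inv_smul_smul]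
        exact z.2⟩ }
  have hSN : S ≤ N := fun _ hn => hn.1
  have hHS : H ⊓ N ≤ S := fun n hn => ⟨hn.2, fun q hq => ⟨D.base_lineC_move h hO hr hr1 hrt hn.2 hn.1 hq.1, fun e => by
    have e' : n • q = base H := e
    exact hq.2 (smul_left_cancel n (e'.trans (fix_base.mpr hn.1).symm))⟩⟩
  have h5 : (H ⊓ N).relIndex N = 5 := by
    rw [Subgroup.inf_relIndex_right, Subgroup.relIndex]
    have e : H.subgroupOf N = stabilizer ↥N (base H) := by
      ext x; exact (fix_base (X := X) (H := H)).symm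
    rw [e, index_stabilizer, ← D.card_lineR h, D.lineR_eq h hr hr1 hrt]
    congr 1
    ext p
    exact ⟨by rintro ⟨n, rfl⟩; exact (D.twin.fixSet_N h hr hr1 hrt n.2).mp (D.twin.base_mem h hr), fun hp => by
      obtain ⟨n, hn, rfl⟩ := D.twin.orbit h hr hr1 hrt hp
      exact ⟨⟨n, hn⟩, rfl⟩⟩
  have h6 := Subgroup.relIndex_mul_relIndex (H ⊓ N) S N hHS hSN
  rw [h5] at h6
  rcases (Nat.dvd_prime (by norm_num : Nat.Prime 5)).mp (Dvd.intro _ h6) with e | e
  · refine Or.inr fun n hn p hp hnp => (Subgroup.mem_inf.mp (Subgroup.relIndex_eq_one.mp e ⟨hn, hmove n hn p hp hnp⟩)).1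
  · rw [e] at h6
    exact Or.inl fun n hn p hp => (Subgroup.relIndex_eq_one.mp (by omega : S.relIndex N = 1) hn).2 p hp

end Twins

end CfsgLib.CoreKill.Local
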