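import Cfsg.Agent.Lib.TwoTransOdd.Reduce

/-!
A subgroup closed under the normalisers of its four groups: such is the preimage of the stabiliser of a point fixed
by a four group. The alternating group of degree seven has no such proper subgroup.

Blueprint: `blueprint/S3120.md`, C.
-/

set_option autoImplicit false
set_option linter.unusedSectionVars false
set_option linter.style.haveILetI false

universe u v w

namespace CfsgLib.TwoTransOdd

open MulAction
open CfsgLib.Bender.TwoClosed (IsInv)

/-- Two distinct commuting involutions. -/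
structure Four {G : Type w} [Group G] (u v : G) : Prop where
  uu : u * u = 1
  vv : v * v = 1
  u1 : u ≠ 1
  v1 : v ≠ 1
  ne : u ≠ v
  comm : u * v = v * u

/-- An element moving a four group of `H` into `H` lies in `H`. -/
def Closed {G : Type w} [Group G] (H : Subgroup G) : Prop :=
  ∀ u v u' v' g : G, Four u v → u ∈ H → v ∈ H → u' ∈ H → v' ∈ H → g * u = u' * g → g * v = v' * g → g ∈ H

theorem Four.map {G : Type w} [Group G] {L : Type v} [Group L] {u v : G} (h : Four u v) (f : G →* L)
    (hf : Function.Injective f) : Four (f u) (f v) :=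
  ⟨by rw [← map_mul, h.uu, map_one], by rw [← map_mul, h.vv, map_one],
    fun e => h.u1 (hf (e.trans (map_one f).symm)), fun e => h.v1 (hf (e.trans (map_one f).symm)),
    fun e => h.ne (hf e), by rw [← map_mul, ← map_mul, h.comm]⟩

theorem Closed.comap {G : Type w} [Group G] {L : Type v} [Group L] {H : Subgroup L} (hH : Closed H) (f : G →* L)
    (hf : Function.Injective f) : Closed (H.comap f) := fun u v u' v' g h4 hu hv hu' hv' e1 e2 =>
  hH (f u) (f v) (f u') (f v') (f g) (h4.map f hf) hu hv hu' hv' (by rw [← map_mul, ← map_mul, e1])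
    (by rw [← map_mul, ← map_mul, e2])

variable {M : Type u} [Group M] [Finite M] {Ω : Type v} [Finite Ω] [MulAction M Ω]

namespace Act

variable (h : Act M Ω)
include h

/-- The point of a four group of a covering group. -/
theorem closed_point {G : Type w} [Group G] (π : G →* M) (hker : ∀ z, π z = 1 → z * z = 1 → z = 1) {u v : G}
    (h4 : Four u v) : ∃ a : Ω, π u • a = a ∧ π v • a = a ∧ Closed ((stabilizer M a).comap π) := by
  have key : ∀ {u v : G}, Four u v → IsInv (π u) ∧ IsInv (π v) ∧ π u ≠ π v ∧ Commute (π u) (π v) :=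
    fun {u v} h4 => by
      refine ⟨⟨fun e => h4.u1 (hker u e h4.uu), by rw [← map_mul, h4.uu, map_one]⟩,
        ⟨fun e => h4.v1 (hker v e h4.vv), by rw [← map_mul, h4.vv, map_one]⟩, fun e => h4.ne ?_,
        (show u * v = v * u from h4.comm) |> fun c => (Commute.map (show Commute u v from c) π)⟩
      have h1 : u * v = 1 := hker _ (by rw [map_mul, e, ← map_mul, h4.vv, map_one]) (by
        rw [show u * v * (u * v) = u * (v * u) * v by group, ← h4.comm,
          show u * (u * v) * v = u * u * (v * v) by group, h4.uu, h4.vv, mul_one])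
      rw [eq_inv_of_mul_eq_one_left h1, inv_eq_of_mul_eq_one_right h4.vv]
  obtain ⟨hu, hv, hne, hc⟩ := key h4
  obtain ⟨U, -, -, hU, huU, hvU, -⟩ := CoreKill.pair_group hu hv hne hc
  obtain ⟨a, ha⟩ := exists_fixed h.odd hU
  refine ⟨a, ha _ huU, ha _ hvU, fun x y x' y' g hxy hx hy hx' hy' e1 e2 => ?_⟩
  obtain ⟨hxi, hyi, hne', hc'⟩ := key hxy
  refine h.fix_of_four hxi hyi hne' hc' hx hy ?_ ?_
  · rw [← map_mul, ← map_inv, ← map_mul, e1, mul_inv_cancel_right]; exact hx'
  · rw [← map_mul, ← map_inv, ← map_mul, e2, mul_inv_cancel_right]; exact hy'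

/-- The closed subgroup is proper. -/
theorem closed_false {G : Type w} [Group G] (π : G →* M) (hπ : Function.Surjective π)
    (hker : ∀ z, π z = 1 → z * z = 1 → z = 1) {u v : G} (h4 : Four u v)
    (htop : ∀ H : Subgroup G, u ∈ H → v ∈ H → Closed H → H = ⊤) : False := by
  obtain ⟨a, ha, ha', hc⟩ := h.closed_point π hker h4
  have e := htop _ ha ha' hc
  obtain ⟨b, hb⟩ := h.nontriv a
  obtain ⟨m, hm⟩ := h.trans a b
  obtain ⟨x, rfl⟩ := hπ m
  exact hb (hm.symm.trans (show x ∈ (stabilizer M a).comap π from e ▸ Subgroup.mem_top x))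

/-- The alternating group of degree seven does not act like this. -/
theorem alt_seven (e : M ≃* alternatingGroup (Fin 7)) : False := by
  let u : alternatingGroup (Fin 7) := ⟨Equiv.swap 0 1 * Equiv.swap 2 3, Equiv.Perm.mem_alternatingGroup.mpr (by decide +kernel)⟩
  let v : alternatingGroup (Fin 7) := ⟨Equiv.swap 0 2 * Equiv.swap 1 3, Equiv.Perm.mem_alternatingGroup.mpr (by decide +kernel)⟩
  let n : alternatingGroup (Fin 7) := ⟨Equiv.swap 0 1 * Equiv.swap 4 5, Equiv.Perm.mem_alternatingGroup.mpr (by decide +kernel)⟩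
  let c : alternatingGroup (Fin 7) := ⟨Equiv.swap 4 5 * Equiv.swap 5 6, Equiv.Perm.mem_alternatingGroup.mpr (by decide +kernel)⟩
  let d : alternatingGroup (Fin 7) :=
    ⟨Equiv.swap 0 2 * Equiv.swap 2 4 * (Equiv.swap 1 3 * Equiv.swap 3 5), Equiv.Perm.mem_alternatingGroup.mpr (by decide +kernel)⟩
  have h4 : Four u v := ⟨by decide +kernel, by decide +kernel, by decide +kernel, by decide +kernel,
    by decide +kernel, by decide +kernel⟩
  have h4' : Four u n := ⟨by decide +kernel, by decide +kernel, by decide +kernel, by decide +kernel,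
    by decide +kernel, by decide +kernel⟩
  refine h.closed_false e.symm.toMonoidHom e.symm.surjective
    (fun z hz _ => e.symm.injective (hz.trans (map_one _).symm)) h4 fun H hu hv hH => ?_
  have hn : n ∈ H := hH u v u (u * v) n h4 hu hv hu (mul_mem hu hv) (by decide +kernel) (by decide +kernel)
  have hc : c ∈ H := hH u v u v c h4 hu hv hu hv (by decide +kernel) (by decide +kernel)
  have hd : d ∈ H := hH u n (u * n) u d h4' hu hn (mul_mem hu hn) hu (by decide +kernel) (by decide +kernel)
  set K := H.map (alternatingGroup (Fin 7)).subtype with hK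
  have hmem : ∀ x ∈ H, (x : Equiv.Perm (Fin 7)) ∈ K := fun x hx => ⟨x, hx, rfl⟩
  haveI : IsPretransitive K (Fin 7) := by
    have key : ∀ x : Fin 7, ∃ k : K, k • (0 : Fin 7) = x := by
      intro x
      fin_cases x
      · exact ⟨1, rfl⟩
      · exact ⟨⟨_, hmem (d * c * (d * d)) (mul_mem (mul_mem hd hc) (mul_mem hd hd))⟩, by
          show ((d * c * (d * d) : alternatingGroup (Fin 7)) : Equiv.Perm (Fin 7)) 0 = _; decide +kernel⟩
      · exact ⟨⟨_, hmem d hd⟩, by show (d : Equiv.Perm (Fin 7)) 0 = _; decide +kernel⟩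
      · exact ⟨⟨_, hmem (d * d * c * (d * d)) (mul_mem (mul_mem (mul_mem hd hd) hc) (mul_mem hd hd))⟩, by
          show ((d * d * c * (d * d) : alternatingGroup (Fin 7)) : Equiv.Perm (Fin 7)) 0 = _; decide +kernel⟩
      · exact ⟨⟨_, hmem (d * d) (mul_mem hd hd)⟩, by
          show ((d * d : alternatingGroup (Fin 7)) : Equiv.Perm (Fin 7)) 0 = _; decide +kernel⟩
      · exact ⟨⟨_, hmem (c * (d * d)) (mul_mem hc (mul_mem hd hd))⟩, by
          show ((c * (d * d) : alternatingGroup (Fin 7)) : Equiv.Perm (Fin 7)) 0 = _; decide +kernel⟩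
      · exact ⟨⟨_, hmem (c * c * (d * d)) (mul_mem (mul_mem hc hc) (mul_mem hd hd))⟩, by
          show ((c * c * (d * d) : alternatingGroup (Fin 7)) : Equiv.Perm (Fin 7)) 0 = _; decide +kernel⟩
    refine ⟨fun x y => ?_⟩
    obtain ⟨k, hk⟩ := key x
    obtain ⟨l, hl⟩ := key y
    exact ⟨l * k⁻¹, by rw [← hk, mul_smul, inv_smul_smul, hl]⟩
  have hprim : IsPreprimitive K (Fin 7) := IsPreprimitive.of_prime_card (by rw [Nat.card_fin]; norm_num)
  have hA := Equiv.Perm.alternatingGroup_le_of_isPreprimitive_of_isThreeCycle_mem hprim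
    (g := (c : Equiv.Perm (Fin 7))) (Equiv.Perm.isThreeCycle_swap_mul_swap_same (a := (5 : Fin 7)) (b := 4) (c := 6)
      (by decide) (by decide) (by decide) |> fun h3 => by rwa [Equiv.swap_comm (5 : Fin 7) 4] at h3) (hmem c hc)
  refine top_le_iff.mp fun x _ => ?_
  obtain ⟨y, hy, hyx⟩ := hA x.2
  exact Subtype.ext (show (y : Equiv.Perm (Fin 7)) = x from hyx) ▸ hy

end Act

end CfsgLib.TwoTransOdd
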