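import Cfsg.Agent.Lib.TwoTransOdd.Abelian
import Cfsg.Agent.Lib.InvPattern.Basic
import Cfsg.Agent.Lib.SimpleM11.Recognition
import Cfsg.Agent.Lib.M11Det.Basic
import Cfsg.Agent.S0435

/-!
`L₂(q)`, `q` odd, and `M₁₁`: an involution fixing several points leaves only the degree eleven actions.

Blueprint: `blueprint/S3120.md`, C.
-/

set_option autoImplicit false
set_option linter.unusedSectionVars false
set_option linter.style.haveILetI false

universe u v

namespace CfsgLib.TwoTransOdd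

open MulAction
open CfsgLib.Bender.TwoClosed (IsInv)
open CfsgLib.Bender.Assembly (orderOf_two isInv_of_orderOf)
open CfsgLib.CoreKill (inCent inCent_comm isInv_sub)

theorem m11_degree {n : ℕ} (h1 : n * (n - 1) ∣ 990) (h2 : 1 < n) (h3 : Odd n) (h4 : n ∣ 495) :
    n = 3 ∨ n = 11 := by
  have key : ∀ m ∈ Finset.range 33, m * (m - 1) ∣ 990 → 1 < m → m % 2 = 1 → m ∣ 495 → m = 3 ∨ m = 11 := by
    decide +kernel
  refine key n (Finset.mem_range.mpr ?_) h1 h2 (Nat.odd_iff.mp h3) h4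
  by_contra hn
  have := Nat.le_of_dvd (by norm_num) h1
  have : 33 * 32 ≤ n * (n - 1) := Nat.mul_le_mul (by omega) (by omega)
  omega

/-- `PGL₂` has two classes of involutions. -/
theorem pgl_two_classes {K : Type*} [Field K] [Fintype K] (hodd : Odd (Fintype.card K)) :
    ∃ A B : Matrix.ProjGenLinGroup (Fin 2) K, IsInv A ∧ IsInv B ∧ ¬ IsConj A B := by
  have hc : ringChar K ≠ 2 := fun e => by
    have := FiniteField.even_card_of_char_two e
    obtain ⟨k, hk⟩ := hodd
    omega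
  obtain ⟨d, hd⟩ := FiniteField.exists_nonsquare hc
  have hd0 : d ≠ 0 := fun e => hd (e ▸ IsSquare.zero)
  let mat : ∀ c : K, c ≠ 0 → GL (Fin 2) K := fun c hc =>
    Matrix.GeneralLinearGroup.mkOfDetNeZero !![0, 1; c, 0] (by rw [Matrix.det_fin_two]; simp [hc])
  have hcoe : ∀ c hc, ((mat c hc : GL (Fin 2) K) : Matrix (Fin 2) (Fin 2) K) = !![0, 1; c, 0] := fun _ _ => rfl
  have hinv : ∀ c hc, IsInv (Matrix.ProjGenLinGroup.mk (mat c hc)) := fun c hc => by
    refine ⟨fun e => ?_, ?_⟩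
    · rw [Matrix.ProjGenLinGroup.mk_eq_one, Matrix.GeneralLinearGroup.center_eq_range_scalar] at e
      obtain ⟨r, hr⟩ := e
      simpa [hcoe] using congrArg (fun g : GL (Fin 2) K => (g : Matrix (Fin 2) (Fin 2) K) 0 1) hr
    · rw [← map_mul, Matrix.ProjGenLinGroup.mk_eq_one, Matrix.GeneralLinearGroup.center_eq_range_scalar]
      refine ⟨Units.mk0 c hc, Units.ext (Matrix.ext fun i j => ?_)⟩
      fin_cases i <;> fin_cases j <;> simp [hcoe, Matrix.mul_apply, Fin.sum_univ_two]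
  refine ⟨_, _, hinv 1 one_ne_zero, hinv d hd0, fun hcj => hd ?_⟩
  obtain ⟨g, hg⟩ := isConj_iff.mp hcj
  obtain ⟨g, rfl⟩ := Matrix.ProjGenLinGroup.mk_surjective g
  rw [mul_inv_eq_iff_eq_mul, ← map_mul, ← map_mul, Matrix.ProjGenLinGroup.mk_eq_mk_iff] at hg
  obtain ⟨u, hu⟩ := hg
  have hdet := congrArg (fun g : GL (Fin 2) K => (g : Matrix (Fin 2) (Fin 2) K).det) hu
  simp only [Units.val_mul, Matrix.det_mul, hcoe] at hdet
  simp [Matrix.det_fin_two_of, Matrix.GeneralLinearGroup.coe_scalar, Matrix.scalar_apply,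
    Matrix.det_diagonal, Fin.prod_univ_two] at hdet
  have hg0 : (g : Matrix (Fin 2) (Fin 2) K).det ≠ 0 := (Matrix.GeneralLinearGroup.det g).ne_zero
  exact ⟨(u : K), mul_left_cancel₀ hg0 (by linear_combination -hdet)⟩

variable {M : Type u} [Group M] [Finite M] {Ω : Type v} [Finite Ω] [MulAction M Ω]

namespace Act

variable (h : Act M Ω) {t : M} (ht : IsInv t) {a : Ω} (hta : t • a = a) (hw : Wide2 Ω t)
  (hall : ∀ v : M, IsInv v → ∃ g : M, g * t * g⁻¹ = v)
include h ht hta hw hall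

/-- The counts with one class of involutions. -/
theorem one_class :
    3 ≤ Nat.card {c : Ω // t • c = c} ∧ Odd (Nat.card {c : Ω // t • c = c}) ∧
    (∀ P : Sylow 2 ↥(cen t), Nat.card {c : Ω // t • c = c} * Nat.card (P : Subgroup ↥(cen t)) ∣ Nat.card ↥(cen t)) ∧
    Nat.card {v : M // IsInv v} * Nat.card ↥(cen t) = Nat.card M ∧
    Nat.card Ω * Nat.card {v : M // IsInv v ∧ v • a = a} =
      Nat.card {v : M // IsInv v} * Nat.card {c : Ω // t • c = c} ∧
    (∃ e, Nat.card {v : M // IsInv v ∧ v • a = a} * (Nat.card {c : Ω // t • c = c} - 1) = e * (Nat.card Ω - 1)) ∧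
    Nat.card {v : M // IsInv v ∧ v • a = a} * Nat.card ↥(cen t) =
      Nat.card ↥(stabilizer M a) * Nat.card {c : Ω // t • c = c} := by
  classical
  haveI := Fact.mk Nat.prime_two
  set f := Nat.card {c : Ω // t • c = c} with hf
  obtain ⟨b, c, hbc, hb, hc⟩ := id hw
  have hfodd : Odd f := by
    have h1 := odd_fixed h.odd (CoreKill.zpowers_inv ht)
    rwa [show Nat.card {x : Ω // ∀ u ∈ Subgroup.zpowers t, u • x = x} = f from
      Nat.card_congr (Equiv.subtypeEquivRight fun x => ⟨fun hx => hx t (Subgroup.mem_zpowers t), fun hx u hu => by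
        obtain ⟨k, rfl⟩ := hu
        exact (stabilizer M x).zpow_mem hx k⟩)] at h1
  have hf2 : 2 ≤ f := by
    haveI : Nontrivial {c : Ω // t • c = c} := ⟨⟨⟨b, hb⟩, ⟨c, hc⟩, fun e => hbc (congrArg Subtype.val e)⟩⟩
    exact Finite.one_lt_card
  have hI : Nat.card {v : M // IsInv v} * Nat.card ↥(cen t) = Nat.card M := by
    rw [← CfsgLib.TwoByTwo.card_carrier_mul_centralizer t]
    congr 1
    refine Nat.card_congr (Equiv.subtypeEquivRight fun x => ?_)
    rw [ConjClasses.mem_carrier_iff_mk_eq, ConjClasses.mk_eq_mk_iff_isConj]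
    refine ⟨fun hx => ?_, fun hx => ?_⟩
    · obtain ⟨k, hk⟩ := hall x hx
      exact (isConj_iff.mpr ⟨k, hk⟩).symm
    · obtain ⟨k, hk⟩ := isConj_iff.mp hx.symm
      exact hk ▸ ht.conj k
  have hinc := h.incidences (f := f) (fun v hv => by
    obtain ⟨k, rfl⟩ := hall v hv
    rw [h.card_fix_conj]) a
  refine ⟨by obtain ⟨k, hk⟩ := hfodd; omega, hfodd, fun Q => ?_, hI, hinc, ?_, ?_⟩
  · obtain ⟨P, hP⟩ := h.sylow_exists ht hta
    rw [Q.card_eq_multiplicity, ← P.card_eq_multiplicity, hf, ← h.index_cenA ht hta, mul_comm,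
      ← (cenA t a).card_mul_index]
    exact Nat.mul_dvd_mul_right (Subgroup.card_dvd_of_le hP) _
  · obtain ⟨d, hd⟩ := h.nontriv a
    exact ⟨_, h.pairs hd.symm hall⟩
  · haveI : IsPretransitive M Ω := ⟨h.trans⟩
    have hn : Nat.card Ω ≠ 0 := h.odd.pos.ne'
    refine Nat.eq_of_mul_eq_mul_left (Nat.pos_of_ne_zero hn) ?_
    rw [← mul_assoc, hinc, mul_comm _ f, mul_assoc, hI, ← (stabilizer M a).card_mul_index,
      index_stabilizer_of_transitive M a]
    ring

omit hall

/-- `M₁₁` acts in degree eleven only. -/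
theorem m11 (hM : Cfsg.IsM11 M) : Nat.card Ω = 11 ∧ Cfsg.Spor.IsoM11 M := by
  classical
  haveI := Fintype.ofFinite M
  haveI := Fintype.ofFinite ↥Cfsg.Spor.M11
  haveI := Fact.mk Nat.prime_two
  obtain ⟨e⟩ := CfsgSimpleM11.unique7920 (H := ↥Cfsg.Spor.M11) hM
    ⟨CfsgGolay.isSimple_sporM11, CfsgGolay.card_sporM11⟩
  refine ⟨?_, ⟨e⟩⟩
  have hall : ∀ v : M, IsInv v → ∃ g : M, g * t * g⁻¹ = v := fun v hv => by
    obtain ⟨g, hg⟩ := isConj_iff.mp (CfsgInvPattern.m11_conj (e t) (e v)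
      (by rw [MulEquiv.orderOf_eq]; exact orderOf_two ht) (by rw [MulEquiv.orderOf_eq]; exact orderOf_two hv))
    exact ⟨e.symm g, e.injective (by rw [map_mul, map_mul, map_inv, e.apply_symm_apply, hg])⟩
  obtain ⟨hf3, hfodd, hdiv, hI, hinc, ⟨l, hl⟩, -⟩ := h.one_class ht hta hw hall
  set f := Nat.card {c : Ω // t • c = c}
  have h48 : Nat.card ↥(cen t) = 48 := Cfsg.Agent.S0435.result hM t (orderOf_two ht)
  have hf : f = 3 := by
    obtain ⟨P⟩ : Nonempty (Sylow 2 ↥(cen t)) := inferInstance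
    have h1 := hdiv P
    have h16 : 16 ≤ Nat.card (P : Subgroup ↥(cen t)) := by
      rw [P.card_eq_multiplicity]
      exact Nat.le_of_dvd (by positivity) (by
        rw [show 16 = 2 ^ 4 from rfl]
        exact Nat.pow_dvd_pow 2 ((Nat.prime_two.pow_dvd_iff_le_factorization Nat.card_pos.ne').mp (by rw [h48]; norm_num)))
    rw [h48] at h1
    have h2 := Nat.le_of_dvd (by norm_num) h1
    have h3 := Nat.mul_le_mul_left f h16
    obtain ⟨k, hk⟩ := hfodd
    omega
  rw [hf] at hinc hl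
  have hI' : Nat.card {v : M // IsInv v} = 165 := by rw [h48, hM.2] at hI; omega
  rw [hI'] at hinc
  have hn1 : 1 < Nat.card Ω := by
    obtain ⟨b, hb⟩ := h.nontriv a
    haveI : Nontrivial Ω := ⟨⟨b, a, hb⟩⟩
    exact Finite.one_lt_card
  have hn495 : Nat.card Ω ∣ 495 := ⟨_, hinc.symm⟩
  have hnn : Nat.card Ω * (Nat.card Ω - 1) ∣ 990 := ⟨l, by
    rw [mul_assoc, mul_comm _ l, ← hl]
    linarith⟩
  rcases m11_degree hnn hn1 h.odd hn495 with e3 | e3
  · exfalso
    have hinj : Function.Injective (toPermHom M Ω) := (injective_iff_map_eq_one _).mpr fun m hm =>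
      h.faith_of_one fun c => Equiv.ext_iff.mp hm c
    have hfac := Subgroup.card_dvd_of_injective (toPermHom M Ω) hinj
    rw [Nat.card_perm, hM.2, e3] at hfac
    norm_num [Nat.factorial] at hfac
  · exact e3

/-- `L₂(q)`, `q` odd: only `q = 11` in degree eleven. -/
theorem l2 {F : Type} [Field F] [Fintype F] (hodd : Odd (Fintype.card F)) (h5 : 5 ≤ Fintype.card F)
    (e : M ≃* Matrix.ProjectiveSpecialLinearGroup (Fin 2) F) : Nat.card Ω = 11 ∧ Fintype.card F = 11 := by
  classical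
  haveI := h.simple
  haveI := Fact.mk Nat.prime_two
  set q := Fintype.card F with hq
  have h2 : (2 : F) ≠ 0 := SL2Orders.two_ne_zero_of_odd hodd
  have hall : ∀ v : M, IsInv v → ∃ g : M, g * t * g⁻¹ = v := fun v hv => by
    have hi : ∀ {x : M}, IsInv x → e x ≠ 1 ∧ e x * e x = 1 := fun {x} hx =>
      ⟨fun e1 => hx.1 (e.injective (e1.trans (map_one e).symm)), by rw [← map_mul, hx.2, map_one]⟩
    obtain ⟨x, hx⟩ := QuotientGroup.mk'_surjective _ (e t)
    obtain ⟨y, hy⟩ := QuotientGroup.mk'_surjective _ (e v)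
    obtain ⟨g, hg⟩ := isConj_iff.mp (PSL2Klein.isConj_trace_zero h2
      ((PSL2Klein.invol_iff h2).mp (by rw [show PSL2.mk x = e t from hx]; exact hi ht))
      ((PSL2Klein.invol_iff h2).mp (by rw [show PSL2.mk y = e v from hy]; exact hi hv)))
    refine ⟨e.symm (PSL2.mk g), e.injective ?_⟩
    rw [map_mul, map_mul, map_inv, e.apply_symm_apply, ← show PSL2.mk x = e t from hx,
      ← show PSL2.mk y = e v from hy, ← map_inv, ← map_mul, ← map_mul, hg]
  obtain ⟨hf3, hfodd, hdiv, -, -, ⟨l, hl⟩, hrel⟩ := h.one_class ht hta hw hall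
  set f := Nat.card {c : Ω // t • c = c}
  set i := Nat.card {v : M // IsInv v ∧ v • a = a}
  set C := Nat.card ↥(cen t) with hC
  set n := Nat.card Ω with hn
  -- the centraliser
  have hCq : C = q - 1 ∨ C = q + 1 := by
    have h1 := SCNonCyclic.card_cent_invol hodd (x := e t) (by rw [MulEquiv.orderOf_eq]; exact orderOf_two ht)
    have h2 : C = Nat.card (Subgroup.centralizer ({e t} : Set (Matrix.ProjectiveSpecialLinearGroup (Fin 2) F))) :=
      Nat.card_congr (Equiv.subtypeEquiv e.toEquiv fun x => by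
        show x ∈ cen t ↔ e x ∈ Subgroup.centralizer {e t}
        rw [mem_cen, Subgroup.mem_centralizer_singleton_iff]
        exact ⟨fun hx => (hx.map e).eq, fun hx => e.injective (by rw [map_mul, map_mul]; exact hx)⟩)
    omega
  obtain ⟨P⟩ : Nonempty (Sylow 2 ↥(cen t)) := inferInstance
  have hP4 : 4 ∣ Nat.card (P : Subgroup ↥(cen t)) := by
    obtain ⟨v, hv, hvt, hvc⟩ := exists_other_inv h.noncomm ht
    have h4 : 4 ∣ C := by
      rw [← (PSL2Klein.four_klein hv.2 ht.2 hvc hv.1 ht.1 hvt).card_four]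
      refine Subgroup.card_dvd_of_le fun x hx => mem_cen.mpr ?_
      rcases hx with rfl | rfl | rfl | rfl
      exacts [Commute.one_left t, hvc, Commute.refl _, hvc.mul_left (Commute.refl t)]
    rw [P.card_eq_multiplicity, show 4 = 2 ^ 2 from rfl]
    exact Nat.pow_dvd_pow 2 ((Nat.prime_two.pow_dvd_iff_le_factorization Nat.card_pos.ne').mp h4)
  have hfC : f * 4 ∣ C := (Nat.mul_dvd_mul_left f hP4).trans (hdiv P)
  obtain ⟨fc, hfc⟩ := id hfC
  have hfle : f * 4 ≤ C := Nat.le_of_dvd Nat.card_pos hfC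
  have hq11 : 11 ≤ q := by omega
  -- the stabiliser
  set H0 := (stabilizer M a).map e.toMonoidHom with hH0
  set h0 := Nat.card ↥(stabilizer M a) with hh0
  haveI : IsPretransitive M Ω := ⟨h.trans⟩
  have hH0c : Nat.card H0 = h0 := Subgroup.card_map_of_injective e.injective
  have hH0i : H0.index = n := by
    rw [hH0, Subgroup.index_map_of_bijective e.bijective, index_stabilizer_of_transitive M a]
  have hn1 : 1 < n := by
    obtain ⟨b, hb⟩ := h.nontriv a
    haveI : Nontrivial Ω := ⟨⟨b, a, hb⟩⟩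
    exact Finite.one_lt_card
  have hH0top : H0 ≠ ⊤ := fun e1 => by rw [e1, Subgroup.index_top] at hH0i; omega
  have hord : 2 * (n * h0) = q * ((q + 1) * (q - 1)) := by
    have h1 := DicksonFull.card_psl (F := F)
    rw [show Nat.gcd 2 (q - 1) = 2 from Nat.gcd_eq_left (by obtain ⟨k, hk⟩ := hodd; omega), ← H0.card_mul_index,
      hH0c, hH0i, mul_comm h0] at h1
    rw [h1, ← one_pow 2, Nat.sq_sub_sq, one_pow]
  -- the bound
  have hl0 : 1 ≤ l := by
    refine Nat.pos_of_ne_zero fun e1 => ?_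
    rw [e1, zero_mul] at hl
    rcases Nat.mul_eq_zero.mp hl with e2 | e2
    · have := Nat.card_eq_zero.mp e2
      rcases this with h' | h'
      · exact h'.false ⟨t, ht, hta⟩
      · exact not_finite {v : M // IsInv v ∧ v • a = a}
    · omega
  have hnif : n - 1 ≤ i * (f - 1) := hl ▸ Nat.le_mul_of_pos_left _ hl0
  have hbound : 16 * (n - 1) ≤ h0 * (q + 1) := by
    have h1 : (n - 1) * C ≤ h0 * f * f :=
      calc (n - 1) * C ≤ i * f * C := Nat.mul_le_mul_right _ (hnif.trans (Nat.mul_le_mul_left i (Nat.sub_le f 1)))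
        _ = (i * C) * f := by ring
        _ = h0 * f * f := by rw [hrel]
    have h2 : (n - 1) * C * 16 ≤ h0 * C * C :=
      calc (n - 1) * C * 16 ≤ h0 * f * f * 16 := Nat.mul_le_mul_right _ h1
        _ = h0 * (f * 4) * (f * 4) := by ring
        _ ≤ h0 * C * C := Nat.mul_le_mul (Nat.mul_le_mul_left _ hfle) hfle
    have h3 : 16 * (n - 1) ≤ h0 * C := Nat.le_of_mul_le_mul_right (by linarith) (Nat.card_pos : 0 < C)
    exact h3.trans (Nat.mul_le_mul_left _ (by omega))
  have small : h0 ≤ q + 1 ∨ h0 ≤ 24 → False := fun hs => by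
    have hn16 : 16 * n ≤ h0 * (q + 1) + 16 := by omega
    have key : 8 * (q * ((q + 1) * (q - 1))) ≤ h0 * (h0 * (q + 1) + 16) := by
      rw [← hord]
      calc 8 * (2 * (n * h0)) = h0 * (16 * n) := by ring
        _ ≤ _ := Nat.mul_le_mul_left _ hn16
    obtain ⟨p, hp⟩ : ∃ p, q = p + 11 := ⟨q - 11, by omega⟩
    rw [hp, show p + 11 - 1 = p + 10 by omega] at key
    rcases hs with hs | hs
    · have := key.trans (Nat.mul_le_mul hs (Nat.add_le_add_right (Nat.mul_le_mul_right _ hs) 16))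
      rw [hp] at this
      nlinarith
    · have := key.trans (Nat.mul_le_mul hs (Nat.add_le_add_right (Nat.mul_le_mul_right _ hs) 16))
      have h132 : 132 * (p + 10) ≤ (p + 11) * ((p + 11 + 1) * (p + 10)) := by
        rw [← mul_assoc]
        exact Nat.mul_le_mul_right _ (le_trans (by norm_num : 132 ≤ 11 * 12) (Nat.mul_le_mul (by omega) (by omega)))
      linarith
  obtain ⟨p, hp⟩ := CharP.exists F
  obtain ⟨r, hpp, hcardF⟩ := FiniteField.card F p
  haveI := Fact.mk hpp
  have hg2 : Nat.gcd 2 (q - 1) = 2 := Nat.gcd_eq_left (by obtain ⟨k, hk⟩ := hodd; omega)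
  rcases DicksonFull.proper_cases p hH0top with ⟨k, hk, hkK⟩ | ⟨⟨eK⟩⟩ | ⟨⟨eK⟩⟩ | ⟨⟨eK⟩⟩ | ⟨u, hu, hKu⟩ |
    ⟨Q, m, K, _, _, hKQ, hQ, hm, hQm, hle, -, hiso⟩
  · refine (small (Or.inl ?_)).elim
    have hk2 : k ≤ (q + 1) / 2 := by
      rcases hk with hk | hk <;> rw [← hq, hg2] at hk <;>
        exact (Nat.le_of_dvd (by omega) hk).trans (by omega)
    rcases hkK with ⟨-, hkc⟩ | ⟨⟨eK⟩⟩
    · omega
    · rw [← hH0c, Nat.card_congr eK.toEquiv, DihedralGroup.nat_card]
      omega
  · refine (small (Or.inr ?_)).elim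
    rw [← hH0c, Nat.card_congr eK.toEquiv, nat_card_alternatingGroup, Nat.card_fin]
    decide
  · refine (small (Or.inr ?_)).elim
    rw [← hH0c, Nat.card_congr eK.toEquiv, Nat.card_perm, Nat.card_fin]
    decide
  · -- `A₅`
    have h60 : h0 = 60 := by
      rw [← hH0c, Nat.card_congr eK.toEquiv, nat_card_alternatingGroup, Nat.card_fin]; decide
    rw [h60] at hord hbound hrel
    have hq21 : q ≤ 21 := by
      by_contra hlt
      obtain ⟨p, hp⟩ : ∃ p, q = p + 22 := ⟨q - 22, by omega⟩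
      rw [hp, show p + 22 - 1 = p + 21 by omega] at hord
      have : 16 * n ≤ 60 * (q + 1) + 16 := by omega
      rw [hp] at this
      have h506 : 506 * (p + 21) ≤ (p + 22) * ((p + 22 + 1) * (p + 21)) := by
        rw [← mul_assoc]
        exact Nat.mul_le_mul_right _ (le_trans (by norm_num : 506 ≤ 22 * 23) (Nat.mul_le_mul (by omega) (by omega)))
      linarith
    obtain ⟨k, hk⟩ := hodd
    obtain ⟨j, hj⟩ := hfodd
    obtain ⟨o, ho⟩ := h.odd
    rw [← hn] at ho
    have h4C : 4 ∣ C := (dvd_mul_left 4 f).trans hfC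
    interval_cases hqe : q
    all_goals first
      | omega
      | exact ⟨by omega, rfl⟩
      | (have hC20 : C = 20 := by omega
         rw [hC20] at hrel hfc
         rcases (show f = 3 ∨ f = 5 by omega) with e1 | e1
         · rw [e1] at hfc; omega
         · rw [e1] at hrel hl
           rw [show i = 15 by omega] at hl
           rcases (show n = 57 ∨ n = 77 by omega) with e2 | e2 <;> rw [e2] at hl <;> omega)
  · exfalso
    have h1 : (DicksonFull.bor u).index ∣ n := hH0i ▸ Subgroup.index_dvd_of_le hKu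
    rw [DicksonFull.index_bor p hu, ← hq] at h1
    exact Nat.not_even_iff_odd.mpr h.odd (even_iff_two_dvd.mpr (hn ▸ (Dvd.dvd.trans (by
      obtain ⟨k, hk⟩ := hodd
      exact ⟨k + 1, by omega⟩) h1)))
  · exfalso
    have hQodd : Odd Q := by
      refine Nat.not_even_iff_odd.mp fun he => Nat.not_even_iff_odd.mpr hodd ?_
      rw [show q = Q ^ m from hQm.symm]; exact Nat.even_pow.mpr ⟨he, by omega⟩
    rw [← hq] at hQm
    rcases eq_or_lt_of_le hm with rfl | hm3
    · rcases hiso with ⟨⟨eK⟩⟩ | ⟨⟨eK⟩⟩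
      · have h1 := DicksonFull.card_psl (F := K)
        rw [hKQ, show Nat.gcd 2 (Q - 1) = 2 from Nat.gcd_eq_left (by obtain ⟨k, hk⟩ := hQodd; omega),
          ← Nat.card_congr eK.toEquiv, hH0c] at h1
        obtain ⟨c, hc⟩ : ∃ c, n = 2 * c := by
          obtain ⟨k, hk⟩ := hQodd
          refine ⟨Q * ((2 * k * k + 2 * k + 1)), ?_⟩
          refine Nat.eq_of_mul_eq_mul_right (show 0 < 2 * h0 by have := Nat.card_pos (α := ↥(stabilizer M a)); omega) ?_
          rw [show n * (2 * h0) = 2 * (n * h0) by ring, hord, ← hQm, h1, ← one_pow 2,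
            show (Q ^ 2 + 1 ^ 2) * (Q ^ 2 - 1 ^ 2) = (Q ^ 2 + 1) * (Q ^ 2 - 1) by rw [one_pow],
            show Q ^ 2 + 1 = 2 * (2 * k * k + 2 * k + 1) by rw [hk]; ring]
          rw [one_pow]
          ring
        exact Nat.not_even_iff_odd.mpr h.odd ⟨c, by rw [← hn, hc]; ring⟩
      · obtain ⟨A, B, hA, hB, hAB⟩ := pgl_two_classes (hKQ.symm ▸ hQodd : Odd (Fintype.card K))
        let ψ : ↥(stabilizer M a) ≃* Matrix.ProjGenLinGroup (Fin 2) K :=
          ((stabilizer M a).equivMapOfInjective e.toMonoidHom e.injective).trans eK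
        have hlift : ∀ {X : Matrix.ProjGenLinGroup (Fin 2) K}, IsInv X → IsInv ((ψ.symm X : ↥(stabilizer M a)) : M) :=
          fun {X} hX => ⟨fun e1 => hX.1 (ψ.symm.injective ((Subtype.ext e1 : ψ.symm X = 1).trans (map_one _).symm)),
            by rw [← Subgroup.coe_mul, ← map_mul, hX.2, map_one, Subgroup.coe_one]⟩
        obtain ⟨g₁, hg₁⟩ := hall _ (hlift hA)
        obtain ⟨g₂, hg₂⟩ := hall _ (hlift hB)
        obtain ⟨k, hka, hk⟩ := h.conj_stab (hlift hB) (ψ.symm A).2 (ψ.symm B).2 (g := g₂ * g₁⁻¹)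
          (by rw [← hg₁, ← hg₂]; group)
        refine hAB (isConj_iff.mpr ⟨ψ ⟨k, hka⟩, ?_⟩)
        apply ψ.symm.injective
        rw [map_mul, map_mul, map_inv, ψ.symm_apply_apply]
        exact Subtype.ext hk
    · refine small (Or.inl ?_)
      have hQ3 : Q ^ 3 ≤ q := hQm ▸ Nat.pow_le_pow_right (by omega) hm3
      rw [← hH0c]
      refine hle.trans (le_trans ?_ (Nat.le_succ_of_le hQ3))
      calc Q * (Q ^ 2 - 1) ≤ Q * Q ^ 2 := Nat.mul_le_mul_left _ (Nat.sub_le _ _)
        _ = Q ^ 3 := by ring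

end Act

end CfsgLib.TwoTransOdd
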