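import Cfsg.Agent.Lib.TwoTransOdd.Gen
import Cfsg.Agent.Lib.StSL.Presentation

/-!
`L₃(q)`, `q` odd: the normalisers of the frame groups of two frames sharing an involution generate the group, so it
has no action in which a four group fixes only one point.

Blueprint: `blueprint/S3120.md`, C.
-/

set_option autoImplicit false
set_option linter.unusedSectionVars false
set_option linter.style.haveILetI false

universe u v

namespace CfsgLib.TwoTransOdd.L3

open Matrix

local notation "SL₃[" R "]" => Matrix.SpecialLinearGroup (Fin 3) R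

section Ring

variable (R : Type*) [CommRing R]

/-- `diag(1, -1, -1)`. -/
def mT : SL₃[R] := ⟨!![1, 0, 0; 0, -1, 0; 0, 0, -1], by simp [Matrix.det_fin_three]⟩

/-- `diag(-1, 1, -1)`. -/
def mU : SL₃[R] := ⟨!![-1, 0, 0; 0, 1, 0; 0, 0, -1], by simp [Matrix.det_fin_three]⟩

/-- The involution exchanging the last two basis vectors. -/
def mW : SL₃[R] := ⟨!![-1, 0, 0; 0, 0, 1; 0, 1, 0], by simp [Matrix.det_fin_three]⟩

/-- The cycle on the basis vectors. -/
def mS : SL₃[R] := ⟨!![0, 0, 1; 1, 0, 0; 0, 1, 0], by simp [Matrix.det_fin_three]⟩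

/-- The unit transvections. -/
def mE (i j : Fin 3) (h : i ≠ j) (c : R) : SL₃[R] := SpecialLinearGroup.transvection h c

theorem mT_coe : (mT R : Matrix (Fin 3) (Fin 3) R) = !![1, 0, 0; 0, -1, 0; 0, 0, -1] := rfl

theorem mU_coe : (mU R : Matrix (Fin 3) (Fin 3) R) = !![-1, 0, 0; 0, 1, 0; 0, 0, -1] := rfl

theorem mW_coe : (mW R : Matrix (Fin 3) (Fin 3) R) = !![-1, 0, 0; 0, 0, 1; 0, 1, 0] := rfl

theorem mS_coe : (mS R : Matrix (Fin 3) (Fin 3) R) = !![0, 0, 1; 1, 0, 0; 0, 1, 0] := rfl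

theorem mE_coe (i j : Fin 3) (h : i ≠ j) (c : R) :
    (mE R i j h c : Matrix (Fin 3) (Fin 3) R) = Matrix.transvection i j c := rfl

end Ring

/-- `diag(-1, -1, 1)` in characteristic three. -/
def w3 : SL₃[ZMod 3] := ⟨!![-1, 0, 0; 0, -1, 0; 0, 0, 1], by decide⟩

/-- The cycle of the second frame in characteristic three. -/
def S3m : SL₃[ZMod 3] := ⟨!![0, 2, 1; 1, 2, 2; 1, 1, 1], by decide⟩

/-- The cycle of the second frame in characteristic five. -/
def S5m : SL₃[ZMod 5] := ⟨!![0, 3, 2; 1, 3, 3; 1, 2, 2], by decide⟩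

theorem word_three : mE (ZMod 3) 0 1 (by decide) 1 =
    w3 * S3m * mS _ * S3m * S3m * mS _ * S3m * mS _ * S3m := by decide +kernel

theorem five_neg : (-1 : ZMod 5) ≠ 1 := by decide

theorem word_five : mE (ZMod 5) 2 0 (by decide) 2 =
    S5m * mS _ * mU _ * S5m * mS _ * S5m * mS _ * S5m * S5m := by decide +kernel

theorem four_TU {R : Type*} [CommRing R] [Nontrivial R] (h2 : (-1 : R) ≠ 1) : Four (mT R) (mU R) := by
  refine ⟨?_, ?_, fun e => h2 ?_, fun e => h2 ?_, fun e => h2 ?_, ?_⟩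
  · ext i j; fin_cases i <;> fin_cases j <;> simp [mT_coe, Matrix.mul_apply, Fin.sum_univ_three]
  · ext i j; fin_cases i <;> fin_cases j <;> simp [mU_coe, Matrix.mul_apply, Fin.sum_univ_three]
  · simpa [mT_coe] using congrFun (congrFun (congrArg Subtype.val e) 1) 1
  · simpa [mU_coe] using congrFun (congrFun (congrArg Subtype.val e) 0) 0
  · simpa [mT_coe, mU_coe] using (congrFun (congrFun (congrArg Subtype.val e) 0) 0).symm
  · ext i j; fin_cases i <;> fin_cases j <;> simp [mT_coe, mU_coe, Matrix.mul_apply, Fin.sum_univ_three]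

theorem four_TW {R : Type*} [CommRing R] [Nontrivial R] (h2 : (-1 : R) ≠ 1) : Four (mT R) (mW R) := by
  refine ⟨?_, ?_, fun e => h2 ?_, fun e => h2 ?_, fun e => h2 ?_, ?_⟩
  · ext i j; fin_cases i <;> fin_cases j <;> simp [mT_coe, Matrix.mul_apply, Fin.sum_univ_three]
  · ext i j; fin_cases i <;> fin_cases j <;> simp [mW_coe, Matrix.mul_apply, Fin.sum_univ_three]
  · simpa [mT_coe] using congrFun (congrFun (congrArg Subtype.val e) 1) 1
  · simpa [mW_coe] using congrFun (congrFun (congrArg Subtype.val e) 0) 0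
  · simpa [mT_coe, mW_coe] using (congrFun (congrFun (congrArg Subtype.val e) 0) 0).symm
  · ext i j; fin_cases i <;> fin_cases j <;> simp [mT_coe, mW_coe, Matrix.mul_apply, Fin.sum_univ_three]

section Closed

variable {R : Type*} [CommRing R] [Nontrivial R] (h2 : (-1 : R) ≠ 1) {H : Subgroup SL₃[R]} (hT : mT R ∈ H)
  (hU : mU R ∈ H) (hH : Closed H)
include h2 hT hU hH

theorem mem_S : mS R ∈ H := by
  refine hH _ _ (mU R) (mT R * mU R) _ (four_TU h2) hT hU hU (mul_mem hT hU) ?_ ?_ <;>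
    (ext i j; fin_cases i <;> fin_cases j <;> simp [mS_coe, mT_coe, mU_coe, Matrix.mul_apply, Fin.sum_univ_three])

theorem mem_W : mW R ∈ H := by
  refine hH _ _ (mT R) (mT R * mU R) _ (four_TU h2) hT hU hT (mul_mem hT hU) ?_ ?_ <;>
    (ext i j; fin_cases i <;> fin_cases j <;> simp [mW_coe, mT_coe, mU_coe, Matrix.mul_apply, Fin.sum_univ_three])

end Closed

theorem three_case {H : Subgroup SL₃[ZMod 3]} (hT : mT _ ∈ H) (hU : mU _ ∈ H) (hH : Closed H) :
    mE (ZMod 3) 0 1 (by decide) 1 ∈ H := by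
  have h2 : (-1 : ZMod 3) ≠ 1 := by decide
  have hS := mem_S h2 hT hU hH
  have hW := mem_W h2 hT hU hH
  have hw : w3 ∈ H := hH _ _ (mT _) (mU _) w3 (four_TU h2) hT hU hT hU (by decide +kernel) (by decide +kernel)
  have hS' : S3m ∈ H :=
    hH _ _ (mW _) (mT _ * mW _) S3m (four_TW h2) hT hW hW (mul_mem hT hW) (by decide +kernel) (by decide +kernel)
  rw [word_three]
  exact mul_mem (mul_mem (mul_mem (mul_mem (mul_mem (mul_mem (mul_mem (mul_mem hw hS') hS) hS') hS') hS) hS') hS) hS'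

theorem five_case [Fact (Nat.Prime 5)] {H : Subgroup SL₃[ZMod 5]} (hT : mT _ ∈ H) (hU : mU _ ∈ H) (hH : Closed H) :
    mE (ZMod 5) 2 0 (by decide) 2 ∈ H := by
  have h2 := five_neg
  have hS := mem_S h2 hT hU hH
  have hW := mem_W h2 hT hU hH
  have hS' : S5m ∈ H :=
    hH _ _ (mW _) (mT _ * mW _) S5m (four_TW h2) hT hW hW (mul_mem hT hW) (by decide +kernel) (by decide +kernel)
  rw [word_five]
  exact mul_mem (mul_mem (mul_mem (mul_mem (mul_mem (mul_mem (mul_mem (mul_mem hS' hS) hU) hS') hS) hS') hS) hS') hS'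

theorem three_ne : (1 : ZMod 3) ≠ 0 := by decide

theorem five_ne : (2 : ZMod 5) ≠ 0 := by decide

variable {F : Type*} [Field F]

/-- The diagonal matrices. -/
def dia (a b : F) (ha : a ≠ 0) (hb : b ≠ 0) : SL₃[F] :=
  ⟨!![a, 0, 0; 0, b, 0; 0, 0, (a * b)⁻¹], by simp [Matrix.det_fin_three]; field_simp⟩

/-- The centraliser of the second frame group. -/
def blk (x y : F) (h : x ^ 2 - y ^ 2 ≠ 0) : SL₃[F] :=
  ⟨!![(x ^ 2 - y ^ 2)⁻¹, 0, 0; 0, x, y; 0, y, x], by simp [Matrix.det_fin_three]; field_simp⟩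

theorem dia_coe (a b : F) (ha : a ≠ 0) (hb : b ≠ 0) :
    (dia a b ha hb : Matrix (Fin 3) (Fin 3) F) = !![a, 0, 0; 0, b, 0; 0, 0, (a * b)⁻¹] := rfl

theorem blk_coe (x y : F) (h : x ^ 2 - y ^ 2 ≠ 0) :
    (blk x y h : Matrix (Fin 3) (Fin 3) F) = !![(x ^ 2 - y ^ 2)⁻¹, 0, 0; 0, x, y; 0, y, x] := rfl

theorem cycle_mE {i j : Fin 3} (h : i ≠ j) (c : F) :
    mS F * mE F i j h c = mE F (i + 1) (j + 1) (fun e => h (add_right_cancel e)) c * mS F := by
  fin_cases i <;> fin_cases j <;> first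
    | exact absurd rfl h
    | (ext a b; fin_cases a <;> fin_cases b <;>
        simp [mS_coe, mE_coe, Matrix.transvection, Matrix.mul_apply, Fin.sum_univ_three, Matrix.single])

theorem swap_mE (c : F) : mW F * mE F 1 2 (by decide) c = mE F 2 1 (by decide) c * mW F := by
  ext a b; fin_cases a <;> fin_cases b <;>
    simp [mW_coe, mE_coe, Matrix.transvection, Matrix.mul_apply, Fin.sum_univ_three, Matrix.single]

theorem dia_mE (a : F) (ha : a ≠ 0) (c : F) :
    dia a 1 ha one_ne_zero * mE F 1 2 (by decide) c = mE F 1 2 (by decide) (a * c) * dia a 1 ha one_ne_zero := by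
  ext i j; fin_cases i <;> fin_cases j <;>
    simp [dia_coe, mE_coe, Matrix.transvection, Matrix.mul_apply, Fin.sum_univ_three, Matrix.single] <;> field_simp

theorem map_mE {p : ℕ} (f : ZMod p →+* F) {i j : Fin 3} (h : i ≠ j) (c : ZMod p) :
    SpecialLinearGroup.map f (mE (ZMod p) i j h c) = mE F i j h (f c) := by
  fin_cases i <;> fin_cases j <;> first
    | exact absurd rfl h
    | (ext a b; fin_cases a <;> fin_cases b <;> simp [mE_coe, SpecialLinearGroup.map_apply_coe, Matrix.transvection, Matrix.single])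

theorem map_mT {p : ℕ} (f : ZMod p →+* F) :
    SpecialLinearGroup.map f (mT (ZMod p)) = mT F ∧ SpecialLinearGroup.map f (mU (ZMod p)) = mU F := by
  constructor <;> (ext a b; fin_cases a <;> fin_cases b <;> simp [mT_coe, mU_coe, SpecialLinearGroup.map_apply_coe])

variable [Fintype F]

theorem exists_small {p : ℕ} [Fact p.Prime] (hp : Fintype.card F = p) {H : Subgroup SL₃[F]} (hT : mT F ∈ H)
    (hU : mU F ∈ H) (hH : Closed H) :
    ∃ f : ZMod p →+* F, Function.Injective f ∧
      ∃ K : Subgroup SL₃[ZMod p], K = H.comap (SpecialLinearGroup.map f) ∧ mT _ ∈ K ∧ mU _ ∈ K ∧ Closed K := by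
  haveI : CharP F p := charP_of_card_eq_prime_pow (f := 1) (by rw [pow_one, hp])
  refine ⟨ZMod.castHom dvd_rfl F, RingHom.injective _, _, rfl, ?_, ?_, hH.comap _ ?_⟩
  · show SpecialLinearGroup.map _ _ ∈ H; rw [(map_mT _).1]; exact hT
  · show SpecialLinearGroup.map _ _ ∈ H; rw [(map_mT _).2]; exact hU
  · intro A B e
    refine Subtype.ext (Matrix.ext fun i j => (ZMod.castHom dvd_rfl F).injective ?_)
    exact congrFun (congrFun (congrArg Subtype.val e) i) j

/-- A closed subgroup with the frame group is everything. -/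
theorem top_of_closed (hodd : Odd (Fintype.card F)) {H : Subgroup SL₃[F]} (hT : mT F ∈ H) (hU : mU F ∈ H)
    (hH : Closed H) : H = ⊤ := by
  classical
  have h20 : (2 : F) ≠ 0 := fun h => by
    have hc : ringChar F = 2 := CharP.ringChar_of_prime_eq_zero Nat.prime_two (by exact_mod_cast h)
    have := FiniteField.even_card_of_char_two hc
    obtain ⟨k, hk⟩ := hodd
    omega
  have h2 : (-1 : F) ≠ 1 := fun e => h20 (by linear_combination -e)
  have hS := mem_S h2 hT hU hH
  have hW := mem_W h2 hT hU hH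
  have hdia : ∀ a b ha hb, dia (F := F) a b ha hb ∈ H := fun a b ha hb => by
    refine hH _ _ (mT F) (mU F) _ (four_TU h2) hT hU hT hU ?_ ?_ <;>
      (ext i j; fin_cases i <;> fin_cases j <;> simp [dia_coe, mT_coe, mU_coe, Matrix.mul_apply, Fin.sum_univ_three])
  have hblk : ∀ x y h, blk (F := F) x y h ∈ H := fun x y h => by
    refine hH _ _ (mT F) (mW F) _ (four_TW h2) hT hW hT hW ?_ ?_ <;>
      (ext i j; fin_cases i <;> fin_cases j <;> simp [blk_coe, mT_coe, mW_coe, Matrix.mul_apply, Fin.sum_univ_three])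
  have hcyc : ∀ (i j : Fin 3) (h : i ≠ j) (c : F), mE F i j h c ∈ H →
      mE F (i + 1) (j + 1) (fun e => h (add_right_cancel e)) c ∈ H := fun i j h c hc => by
    rw [eq_mul_inv_of_mul_eq (cycle_mE h c).symm]
    exact mul_mem (mul_mem hS hc) (inv_mem hS)
  -- one transvection
  obtain ⟨c₀, hc₀, hmem⟩ : ∃ c : F, c ≠ 0 ∧ mE F 1 2 (by decide) c ∈ H := by
    rcases lt_or_ge (Fintype.card F) 7 with hlt | h7
    · have h1 := Fintype.one_lt_card (α := F)
      obtain hq | hq : Fintype.card F = 3 ∨ Fintype.card F = 5 := by obtain ⟨k, hk⟩ := hodd; omega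
      · haveI := Fact.mk Nat.prime_three
        obtain ⟨f, hf, K, rfl, hT', hU', hK⟩ := exists_small hq hT hU hH
        refine ⟨f 1, fun e => three_ne (hf (e.trans (map_zero f).symm)), ?_⟩
        have h3 : mE F 0 1 (by decide) (f 1) ∈ H := map_mE f _ 1 ▸ three_case hT' hU' hK
        exact hcyc 0 1 _ _ h3
      · haveI : Fact (Nat.Prime 5) := ⟨by norm_num⟩
        obtain ⟨f, hf, K, rfl, hT', hU', hK⟩ := exists_small hq hT hU hH
        refine ⟨f 2, fun e => five_ne (hf (e.trans (map_zero f).symm)), ?_⟩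
        have h5 : mE F 2 0 (by decide) (f 2) ∈ H := map_mE f _ 2 ▸ five_case hT' hU' hK
        exact hcyc 0 1 _ _ (hcyc 2 0 _ _ h5)
    · obtain ⟨y, hy⟩ : ∃ y, y ∉ ({0, 1, -1} : Finset F) := by
        by_contra hno
        push Not at hno
        have := Finset.card_le_card (fun x _ => hno x : (Finset.univ : Finset F) ⊆ {0, 1, -1})
        rw [Finset.card_univ] at this
        exact absurd (this.trans Finset.card_le_three) (by omega)
      obtain ⟨w, hw⟩ : ∃ w, w ∉ ({0, 1, -1, y, -y} : Finset F) := by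
        by_contra hno
        push Not at hno
        have := Finset.card_le_card (fun x _ => hno x : (Finset.univ : Finset F) ⊆ {0, 1, -1, y, -y})
        rw [Finset.card_univ] at this
        exact absurd (this.trans Finset.card_le_five) (by omega)
      simp only [Finset.mem_insert, Finset.mem_singleton, not_or] at hy hw
      obtain ⟨hy0, hy1, hy1'⟩ := hy
      obtain ⟨hw0, hw1, hw1', hwy, hwy'⟩ := hw
      have hy2 : (1 : F) ^ 2 - y ^ 2 ≠ 0 := fun e => by
        rcases sq_eq_sq_iff_eq_or_eq_neg.mp (sub_eq_zero.mp e).symm with e | e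
        exacts [hy1 e, hy1' e]
      have hw2 : (1 : F) ^ 2 - w ^ 2 ≠ 0 := fun e => by
        rcases sq_eq_sq_iff_eq_or_eq_neg.mp (sub_eq_zero.mp e).symm with e | e
        exacts [hw1 e, hw1' e]
      have hwy2 : w ^ 2 - y ^ 2 ≠ 0 := fun e => by
        rcases sq_eq_sq_iff_eq_or_eq_neg.mp (sub_eq_zero.mp e) with e | e
        exacts [hwy e, hwy' e]
      have hμ : -(w / y) ≠ 0 := neg_ne_zero.mpr (div_ne_zero hw0 hy0)
      have ha : (1 ^ 2 - y ^ 2) * (-(y / w)) * (1 ^ 2 - w ^ 2) ≠ 0 :=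
        mul_ne_zero (mul_ne_zero hy2 (neg_ne_zero.mpr (div_ne_zero hy0 hw0))) hw2
      have n1 : 1 - y ^ 2 ≠ 0 := by simpa using hy2
      have n2 : 1 - w ^ 2 ≠ 0 := by simpa using hw2
      refine ⟨(w ^ 2 - y ^ 2) / (w * (1 ^ 2 - y ^ 2)), div_ne_zero hwy2 (mul_ne_zero hw0 hy2), ?_⟩
      have e : mE F 1 2 (by decide) ((w ^ 2 - y ^ 2) / (w * (1 ^ 2 - y ^ 2))) =
          dia _ ((1 ^ 2 - y ^ 2)⁻¹) ha (inv_ne_zero hy2) *
            (blk 1 y hy2 * dia (-(w / y)) 1 hμ one_ne_zero * blk 1 w hw2) := by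
        ext i j
        fin_cases i <;> fin_cases j <;>
          simp [dia_coe, blk_coe, mE_coe, Matrix.transvection, Matrix.single, Matrix.mul_apply, Fin.sum_univ_three] <;>
          field_simp <;> first | ring1 | (ring_nf; simp)
      rw [e]
      exact mul_mem (hdia _ _ _ _) (mul_mem (mul_mem (hblk _ _ _) (hdia _ _ _ _)) (hblk _ _ _))
  have h12 : ∀ c : F, mE F 1 2 (by decide) c ∈ H := fun c => by
    by_cases hc : c = 0
    · subst hc
      convert H.one_mem
      ext i j
      fin_cases i <;> fin_cases j <;> simp [mE_coe, Matrix.transvection, Matrix.single]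
    have e := dia_mE (c / c₀) (div_ne_zero hc hc₀) c₀
    rw [div_mul_cancel₀ _ hc₀] at e
    rw [eq_mul_inv_of_mul_eq e.symm]
    exact mul_mem (mul_mem (hdia _ _ _ _) hmem) (inv_mem (hdia _ _ _ _))
  have h21 : ∀ c : F, mE F 2 1 (by decide) c ∈ H := fun c => by
    rw [eq_mul_inv_of_mul_eq (swap_mE c).symm]
    exact mul_mem (mul_mem hW (h12 c)) (inv_mem hW)
  rw [eq_top_iff, ← CfsgLib.StSL.closure_transvection_eq_top (K := F) (by norm_num : 2 ≤ 3), Subgroup.closure_le]
  rintro _ ⟨i, j, hij, c, rfl⟩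
  show mE F i j hij c ∈ H
  fin_cases i <;> fin_cases j <;> first
    | exact absurd rfl hij
    | exact h12 c
    | exact h21 c
    | exact hcyc 1 2 _ _ (h12 c)
    | exact hcyc 2 1 _ _ (h21 c)
    | exact hcyc 2 0 _ _ (hcyc 1 2 (by decide) _ (h12 c))
    | exact hcyc 0 2 _ _ (hcyc 2 1 (by decide) _ (h21 c))

end CfsgLib.TwoTransOdd.L3

namespace CfsgLib.TwoTransOdd

open MulAction

variable {M : Type u} [Group M] [Finite M] {Ω : Type v} [Finite Ω] [MulAction M Ω]

/-- `L₃(q)` does not act like this. -/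
theorem Act.l3 (h : Act M Ω) {F : Type} [Field F] [Fintype F] (hodd : Odd (Fintype.card F))
    (e : M ≃* Matrix.ProjectiveSpecialLinearGroup (Fin 3) F) : False := by
  let π : Matrix.SpecialLinearGroup (Fin 3) F →* M := e.symm.toMonoidHom.comp (QuotientGroup.mk' _)
  have h20 : (-1 : F) ≠ 1 := fun e1 => by
    have hc : ringChar F = 2 := CharP.ringChar_of_prime_eq_zero Nat.prime_two
      (by push_cast; linear_combination -e1)
    have := FiniteField.even_card_of_char_two hc
    obtain ⟨k, hk⟩ := hodd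
    omega
  refine h.closed_false π (e.symm.surjective.comp (QuotientGroup.mk'_surjective _)) (fun z hz hz2 => ?_)
    (L3.four_TU h20) fun H hT hU hH => L3.top_of_closed hodd hT hU hH
  have hzc : z ∈ Subgroup.center (Matrix.SpecialLinearGroup (Fin 3) F) :=
    (QuotientGroup.eq_one_iff z).mp (e.symm.injective (hz.trans (map_one _).symm))
  obtain ⟨r, hr, hrz⟩ := Matrix.SpecialLinearGroup.mem_center_iff.mp hzc
  rw [Fintype.card_fin] at hr
  have h00 := congrFun (congrFun (congrArg Subtype.val hz2) 0) 0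
  simp [← hrz, Matrix.mul_apply, Fin.sum_univ_three] at h00
  have hr1 : r = 1 := by linear_combination (norm := ring_nf) hr - r * h00
  exact Subtype.ext (by rw [← hrz, hr1, map_one]; rfl)

end CfsgLib.TwoTransOdd
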