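import Cfsg.Agent.Lib.TwoTransOdd.Setup
import Cfsg.Agent.Lib.CoreKill.Local.Basic
import Cfsg.Agent.Lib.CoreGen.Basic

/-!
The centraliser of an involution fixing several points as a local setting, and the count of involutions against
pairs.

Blueprint: `blueprint/S3120.md`, Setup.
-/

set_option autoImplicit false
set_option linter.unusedSectionVars false
set_option linter.style.haveILetI false

universe u v

namespace CfsgLib.TwoTransOdd

open MulAction
open CfsgLib.Bender.TwoClosed (IsInv)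
open CfsgLib.Bender.Assembly (orderOf_two isInv_of_orderOf fix_iff)
open CfsgLib.CoreKill (inCent inCent_comm isInv_sub)
open CfsgLib.CoreKill.Local (base)

variable {M : Type u} [Group M] [Finite M] {Ω : Type v} [Finite Ω] [MulAction M Ω]

/-- The centraliser of `t`. -/
abbrev cen (t : M) : Subgroup M := Subgroup.centralizer ({t} : Set M)

/-- The stabiliser of `a` in the centraliser of `t`. -/
abbrev cenA (t : M) (a : Ω) : Subgroup ↥(cen t) := (stabilizer M a).subgroupOf (cen t)

theorem mem_cen {t x : M} : x ∈ cen t ↔ Commute x t := Subgroup.mem_centralizer_singleton_iff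

/-- The point of a coset. -/
def toPoint (t : M) (a : Ω) : ↥(cen t) ⧸ cenA t a → Ω :=
  fun q => Quotient.liftOn' q (fun g => (g : M) • a) fun g g' hg => by
    rw [QuotientGroup.leftRel_apply] at hg
    have h1 : (((g⁻¹ * g' : ↥(cen t))) : M) • a = a := hg
    rw [Subgroup.coe_mul, Subgroup.coe_inv, mul_smul, inv_smul_eq_iff] at h1
    exact h1.symm

theorem toPoint_mk (t : M) (a : Ω) (g : ↥(cen t)) : toPoint t a (g : ↥(cen t) ⧸ cenA t a) = (g : M) • a := rfl

theorem toPoint_smul (t : M) (a : Ω) (x : ↥(cen t)) (q : ↥(cen t) ⧸ cenA t a) :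
    toPoint t a (x • q) = (x : M) • toPoint t a q := by
  induction q using QuotientGroup.induction_on with
  | _ g => show ((x * g : ↥(cen t)) : M) • a = _; rw [Subgroup.coe_mul, mul_smul]; rfl

theorem toPoint_injective (t : M) (a : Ω) : Function.Injective (toPoint t a) := fun q q' e => by
  induction q using QuotientGroup.induction_on with
  | _ g =>
    induction q' using QuotientGroup.induction_on with
    | _ g' =>
      refine QuotientGroup.eq.mpr (show ((g⁻¹ * g' : ↥(cen t)) : M) • a = a from ?_)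
      rw [toPoint_mk, toPoint_mk] at e
      rw [Subgroup.coe_mul, Subgroup.coe_inv, mul_smul, inv_smul_eq_iff]
      exact e.symm

theorem toPoint_fix {t : M} {a : Ω} (x : ↥(cen t)) (q : ↥(cen t) ⧸ cenA t a) :
    x • q = q ↔ (x : M) • toPoint t a q = toPoint t a q := by
  rw [← toPoint_smul, (toPoint_injective t a).eq_iff]

theorem toPoint_base (t : M) (a : Ω) : toPoint t a (base (cenA t a)) = a := one_smul M a

/-- An involution fixing at least two points. -/
def Wide2 (Ω : Type v) [MulAction M Ω] (t : M) : Prop := ∃ a b : Ω, a ≠ b ∧ t • a = a ∧ t • b = b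

namespace Act

variable (h : Act M Ω)
include h

theorem faith_of_one {x : M} (hx : ∀ c : Ω, x • c = c) : x = 1 := by
  haveI := h.simple
  rcases (inferInstance : (toPermHom M Ω).ker.Normal).eq_bot_or_eq_top with e | e
  · exact Subgroup.mem_bot.mp (e ▸ (MonoidHom.mem_ker.mpr (Equiv.ext fun c => hx c : toPermHom M Ω x = 1)))
  · obtain ⟨a⟩ : Nonempty Ω := (Nat.card_pos_iff.mp h.odd.pos).1
    obtain ⟨b, hb⟩ := h.nontriv a
    obtain ⟨m, hm⟩ := h.trans a b
    have hmk : toPermHom M Ω m = 1 := MonoidHom.mem_ker.mp (e ▸ Subgroup.mem_top m : m ∈ (toPermHom M Ω).ker)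
    have h1 : m • a = a := Equiv.ext_iff.mp hmk a
    exact absurd (hm.symm.trans h1) hb

/-- An involution commuting with `t` fixes one of its fixed points. -/
theorem exists_common {t v : M} (ht : IsInv t) (hv : IsInv v) (hc : Commute v t) :
    ∃ c : Ω, v • c = c ∧ t • c = c := by
  by_cases hne : v = t
  · obtain ⟨c, hc⟩ := exists_fixed h.odd (CoreKill.zpowers_inv ht)
    exact ⟨c, hne ▸ hc t (Subgroup.mem_zpowers t), hc t (Subgroup.mem_zpowers t)⟩
  obtain ⟨U, -, -, hU, hvU, htU, -⟩ := CoreKill.pair_group hv ht hne hc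
  obtain ⟨c, hc⟩ := exists_fixed h.odd hU
  exact ⟨c, hc v hvU, hc t htU⟩

/-- An element moving a four group of a stabiliser into it fixes its point. -/
theorem fix_of_four {u v g : M} {a : Ω} (hu : IsInv u) (hv : IsInv v) (hne : u ≠ v) (hc : Commute u v)
    (hua : u • a = a) (hva : v • a = a) (hgu : (g * u * g⁻¹) • a = a) (hgv : (g * v * g⁻¹) • a = a) :
    g • a = a := by
  by_contra hga
  have h1 : g⁻¹ • a ≠ a := fun e => hga (by rw [inv_smul_eq_iff] at e; exact e.symm)
  refine hne (h.unique u v hu hv hc a (g⁻¹ • a) h1.symm hua ?_ hva ?_)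
  · rw [mul_smul, mul_smul] at hgu
    exact eq_inv_smul_iff.mpr hgu
  · rw [mul_smul, mul_smul] at hgv
    exact eq_inv_smul_iff.mpr hgv

/-- An element centralising an involution of a four group of a stabiliser and fixing `v` fixes the point. -/
theorem fix_of_commute {u v g : M} {a : Ω} (hu : IsInv u) (hv : IsInv v) (hne : u ≠ v) (hc : Commute u v)
    (hua : u • a = a) (hva : v • a = a) (hgu : Commute g u) (hgv : Commute g v) : g • a = a :=
  h.fix_of_four hu hv hne hc hua hva (by rw [hgu.eq, mul_inv_cancel_right]; exact hua)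
    (by rw [hgv.eq, mul_inv_cancel_right]; exact hva)

/-- Involutions of a stabiliser conjugate in `M` are conjugate there. -/
theorem conj_stab {s t : M} (ht : IsInv t) {a : Ω} (hsa : s • a = a) (hta : t • a = a) {g : M}
    (hg : g * s * g⁻¹ = t) : ∃ k : M, k • a = a ∧ k * s * k⁻¹ = t := by
  have h1 : t • g • a = g • a := by rw [← hg]; exact fix_conj rfl hsa
  obtain ⟨m, hm, hma⟩ := h.fixTrans t ht (g • a) a h1 hta
  refine ⟨m * g, by rw [mul_smul, hma], ?_⟩
  calc m * g * s * (m * g)⁻¹ = m * (g * s * g⁻¹) * m⁻¹ := by group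
    _ = t := by rw [hg, hm.eq, mul_inv_cancel_right]

theorem card_fix_conj (g s : M) :
    Nat.card {c : Ω // (g * s * g⁻¹) • c = c} = Nat.card {c : Ω // s • c = c} :=
  Nat.card_congr (Equiv.subtypeEquiv (MulAction.toPerm g⁻¹) fun c => by
    show (g * s * g⁻¹) • c = c ↔ s • g⁻¹ • c = g⁻¹ • c
    rw [mul_smul, mul_smul, eq_inv_smul_iff])

/-- The count of involutions against pairs, all involutions of `M` being conjugate to `t`. -/
theorem pairs {t : M} {a b : Ω} (hab : a ≠ b) (hall : ∀ v : M, IsInv v → ∃ g : M, g * t * g⁻¹ = v) :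
    Nat.card {v : M // IsInv v ∧ v • a = a} * (Nat.card {c : Ω // t • c = c} - 1) =
      Nat.card {v : M // IsInv v ∧ v • a = a ∧ v • b = b} * (Nat.card Ω - 1) := by
  classical
  haveI := Fintype.ofFinite M
  haveI := Fintype.ofFinite Ω
  have h1 : Nat.card (Σ v : {v : M // IsInv v ∧ v • a = a}, {c : Ω // c ≠ a ∧ v.1 • c = c}) =
      Nat.card {v : M // IsInv v ∧ v • a = a} * (Nat.card {c : Ω // t • c = c} - 1) := by
    rw [Nat.card_sigma, Finset.sum_congr rfl fun v _ => ?_, Finset.sum_const, Finset.card_univ, smul_eq_mul,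
      ← Nat.card_eq_fintype_card]
    obtain ⟨g, hg⟩ := hall v.1 v.2.1
    have e := h.card_fix_conj g t
    rw [hg] at e
    rw [← e, Nat.card_eq_fintype_card, Nat.card_eq_fintype_card, Fintype.card_subtype, Fintype.card_subtype]
    rw [show (Finset.univ.filter fun c : Ω => c ≠ a ∧ v.1 • c = c) = (Finset.univ.filter fun c : Ω => v.1 • c = c).erase a
      by ext c; simp, Finset.card_erase_of_mem (by simp [v.2.2])]
  have h2 : Nat.card (Σ c : {c : Ω // c ≠ a}, {v : M // IsInv v ∧ v • a = a ∧ v • c.1 = c.1}) =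
      Nat.card {v : M // IsInv v ∧ v • a = a ∧ v • b = b} * (Nat.card Ω - 1) := by
    rw [Nat.card_sigma, Finset.sum_congr rfl fun c _ => h.count a c.1 a b c.2.symm hab, Finset.sum_const,
      Finset.card_univ, smul_eq_mul, mul_comm, Nat.card_eq_fintype_card (α := Ω), Fintype.card_subtype_compl,
      Fintype.card_subtype_eq]
  rw [← h1, ← h2]
  exact Nat.card_congr {
    toFun := fun x => ⟨⟨x.2.1, x.2.2.1⟩, ⟨x.1.1, x.1.2.1, x.1.2.2, x.2.2.2⟩⟩
    invFun := fun x => ⟨⟨x.2.1, x.2.2.1, x.2.2.2.1⟩, ⟨x.1.1, x.1.2, x.2.2.2.2⟩⟩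
    left_inv := fun _ => rfl
    right_inv := fun _ => rfl }

variable {t : M} (ht : IsInv t) {a : Ω} (hta : t • a = a)
include ht hta

/-- The points fixed by `t` are the cosets. -/
theorem exists_toPoint {b : Ω} (hb : t • b = b) : ∃ q, toPoint t a q = b := by
  obtain ⟨m, hm, e⟩ := h.fixTrans t ht a b hta hb
  exact ⟨((⟨m, mem_cen.mpr hm⟩ : ↥(cen t)) : ↥(cen t) ⧸ cenA t a), e⟩

theorem toPoint_mem (q : ↥(cen t) ⧸ cenA t a) : t • toPoint t a q = toPoint t a q := by
  induction q using QuotientGroup.induction_on with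
  | _ g => rw [toPoint_mk, ← mul_smul, ← (mem_cen.mp g.2).eq, mul_smul, hta]

theorem index_cenA : (cenA t a).index = Nat.card {c : Ω // t • c = c} :=
  Nat.card_congr (Equiv.ofBijective (fun q => (⟨toPoint t a q, h.toPoint_mem ht hta q⟩ : {c : Ω // t • c = c}))
    ⟨fun q q' e => toPoint_injective t a (congrArg Subtype.val e), fun c => by
      obtain ⟨q, hq⟩ := h.exists_toPoint ht hta c.2
      exact ⟨q, Subtype.ext hq⟩⟩)

theorem sylow_exists : ∃ P : Sylow 2 ↥(cen t), (P : Subgroup ↥(cen t)) ≤ cenA t a := by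
  haveI := Fact.mk Nat.prime_two
  obtain ⟨P⟩ : Nonempty (Sylow 2 ↥(cen t)) := inferInstance
  obtain ⟨c, hc⟩ := exists_fixed h.odd (
    ((P.isPGroup'.map (cen t).subtype).to_sup_of_normal_left' (CoreKill.zpowers_inv ht)
      (Subgroup.zpowers_le.mpr (Subgroup.mem_normalizer_fintype (by
        rintro _ ⟨x, hx, rfl⟩
        exact ⟨x, hx, by
          show (x : M) = t * (x : M) * t⁻¹
          rw [← (mem_cen.mp x.2).eq, mul_inv_cancel_right]⟩)))))
  have htc : t • c = c := hc t (Subgroup.mem_sup_right (Subgroup.mem_zpowers t))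
  obtain ⟨m, hm, e⟩ := h.fixTrans t ht c a htc hta
  refine ⟨(⟨m, mem_cen.mpr hm⟩ : ↥(cen t)) • P, ?_⟩
  rintro _ ⟨x, hx, rfl⟩
  show (m * (x : M) * m⁻¹) • a = a
  exact fix_conj e (hc x (Subgroup.mem_sup_left ⟨x, hx, rfl⟩))

variable (hw : Wide2 Ω t)
include hw

theorem cenA_ne_top : cenA t a ≠ ⊤ := fun e => by
  obtain ⟨b, c, hbc, hb, hc⟩ := hw
  have h1 : ∀ d : Ω, t • d = d → d = a := fun d hd => by
    obtain ⟨m, hm, rfl⟩ := h.fixTrans t ht a d hta hd
    exact (e ▸ Subgroup.mem_top (⟨m, mem_cen.mpr hm⟩ : ↥(cen t)) : (⟨m, mem_cen.mpr hm⟩ : ↥(cen t)) ∈ cenA t a)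
  exact hbc ((h1 b hb).trans (h1 c hc).symm)

theorem pt0 {P : Sylow 2 ↥(cen t)} (hP : (P : Subgroup ↥(cen t)) ≤ cenA t a) :
    CoreKill.Local.Pt0 (cenA t a) P (inCent t) := by
  refine ⟨h.cenA_ne_top ht hta hw, hP, isInv_sub.mpr ht, inCent_comm, fun v hv hvi hvt x hx => ?_⟩
  have hvt' : (v : M) ≠ t := fun e => hvt (Subtype.ext e)
  exact h.fix_of_four ht (isInv_sub.mp hvi) hvt'.symm (mem_cen.mp v.2).symm hta hv
    (show ((x : M) * t * (x : M)⁻¹) • a = a by rw [(mem_cen.mp x.2).eq, mul_inv_cancel_right]; exact hta) hx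

theorem pt (h3 : ¬ Cfsg.PRankLE 2 2 M) {P : Sylow 2 ↥(cen t)} (hP : (P : Subgroup ↥(cen t)) ≤ cenA t a) :
    CoreKill.Local.Pt (cenA t a) P (inCent t) := by
  haveI := h.simple
  haveI := Fact.mk Nat.prime_two
  refine ⟨h.pt0 ht hta hw hP, ?_⟩
  obtain ⟨B, hB, hB8, htB⟩ := CoreGen.exists_eight_around h.noncomm h3 (orderOf_two ht)
  have hBC : B ≤ cen t := fun b hb => mem_cen.mpr (Signalizer.ea_comm hB hb htB)
  set B' := B.subgroupOf (cen t) with hB'
  have hB'e : Cfsg.IsElementaryAbelian 2 B' := SolvSF.ea_of_comm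
    (fun x hx y hy => Subtype.ext (Signalizer.ea_comm hB hx hy)) fun x hx => Subtype.ext (hB.2 _ hx)
  obtain ⟨c, -, hcP⟩ := Bender.Q.exists_conj_sylow (S := P) le_top (Signalizer.isPGroup_ea hB'e) le_top
  refine ⟨B'.map (MulAut.conj c).toMonoidHom, ?_, SolvSF.ea_of_comm ?_ ?_, ?_⟩
  · rintro _ ⟨b, hb, rfl⟩; exact hcP b hb
  · rintro _ ⟨x, hx, rfl⟩ _ ⟨y, hy, rfl⟩; rw [← map_mul, ← map_mul, Signalizer.ea_comm hB'e hx hy]
  · rintro _ ⟨x, hx, rfl⟩; rw [← map_pow, hB'e.2 x hx, map_one]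
  · rw [Subgroup.card_map_of_injective (MulAut.conj c).injective, hB',
      Nat.card_congr (Subgroup.subgroupOfEquivOfLe hBC).toEquiv]
    exact hB8

/-- The centraliser of `t` has no normal Sylow 2-subgroup. -/
theorem not_normal_sylow {P : Sylow 2 ↥(cen t)} (hn : (P : Subgroup ↥(cen t)).Normal) : False := by
  haveI := h.simple
  haveI := Fact.mk Nat.prime_two
  obtain ⟨Q, hQ⟩ := h.sylow_exists ht hta
  obtain ⟨g, hg⟩ := MulAction.exists_smul_eq ↥(cen t) P Q
  have hPQ : Q = P := by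
    rw [← hg]
    exact Sylow.smul_eq_iff_mem_normalizer.mpr (Subgroup.normalizer_eq_top_iff.mpr hn ▸ Subgroup.mem_top g)
  subst hPQ
  have h0 := h.pt0 ht hta hw hQ
  obtain ⟨v, hv, hvt, hvc⟩ := exists_other_inv h.noncomm ht
  set v' : ↥(cen t) := ⟨v, mem_cen.mpr hvc⟩
  have hvi : IsInv v' := isInv_sub.mpr hv
  have hvP : v' ∈ (Q : Subgroup ↥(cen t)) := by
    obtain ⟨g, hgP⟩ := h0.exists_conj hvi
    have := hn.conj_mem _ hgP g⁻¹
    simpa [mul_assoc] using this
  refine h0.img_ne_one hvi (fun e => hvt (congrArg Subtype.val e))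
    (Bender.Q.permImg_eq_one.mpr fun c => ?_)
  induction c using QuotientGroup.induction_on with
  | _ g => exact fix_iff.mpr (hQ (by simpa using hn.conj_mem _ hvP g⁻¹))

end Act

end CfsgLib.TwoTransOdd
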