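import Cfsg.Agent.Lib.TwoTransOdd.Local
import Cfsg.Agent.Lib.Bender.GoodAll
import Cfsg.Agent.Lib.SLCard
import Cfsg.Agent.S0224
import Cfsg.Agent.S0280
import Cfsg.Agent.S1163

/-!
No involution fixes two points: the stabiliser is strongly embedded.

Blueprint: `blueprint/S3120.md`, A.
-/

set_option autoImplicit false
set_option linter.unusedSectionVars false
set_option linter.style.haveILetI false

universe u v

namespace CfsgLib.TwoTransOdd

open MulAction
open CfsgLib.Bender.TwoClosed (IsInv)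
open CfsgLib.Bender.Assembly (orderOf_two isInv_of_orderOf)

theorem pow_two_eq {k j a b : ℕ} (ha : Odd a) (hb : Odd b) (h : 2 ^ k * a = 2 ^ j * b) : k = j := by
  have key : ∀ {k j a b : ℕ}, Odd a → 2 ^ k * a = 2 ^ j * b → j ≤ k := by
    intro k j a b ha h
    have h1 : 2 ^ j ∣ 2 ^ k * a := ⟨b, h⟩
    exact (Nat.pow_dvd_pow_iff_le_right (by norm_num : 1 < 2)).mp
      ((Nat.Coprime.pow_left _ (Nat.coprime_two_left.mpr ha)).dvd_of_dvd_mul_right h1)
  exact (key hb h.symm).antisymm (key ha h)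

variable {M : Type u} [Group M] [Finite M] {Ω : Type v} [Finite Ω] [MulAction M Ω]

theorem Act.se_case (h : Act M Ω) (hno : ∀ t : M, IsInv t → ¬ Wide2 Ω t) : Target M (Nat.card Ω) := by
  classical
  haveI := h.simple
  haveI : Fact (Nat.Prime 2) := ⟨Nat.prime_two⟩
  obtain ⟨z, hz⟩ := exists_prime_orderOf_dvd_card' 2
    (even_iff_two_dvd.mp (CyclicInt.even_card_of_simple (G := M) h.noncomm))
  obtain ⟨a, ha⟩ := exists_fixed h.odd (CoreKill.zpowers_inv (isInv_of_orderOf hz))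
  set H := stabilizer M a with hH
  haveI : IsPretransitive M Ω := ⟨h.trans⟩
  have hidx : H.index = Nat.card Ω := index_stabilizer_of_transitive M a
  have htop : H ≠ ⊤ := fun e => by
    obtain ⟨b, hb⟩ := h.nontriv a
    obtain ⟨m, hm⟩ := h.trans a b
    exact hb (hm.symm.trans (show m ∈ H from e ▸ Subgroup.mem_top m))
  have hse : Cfsg.IsStronglyEmbedded H := by
    refine (Cfsg.Agent.S0224.result H htop (even_iff_two_dvd.mpr (hz ▸
      Subgroup.orderOf_dvd_natCard H (ha z (Subgroup.mem_zpowers z))))).mpr fun t htH ht => ?_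
    refine Nat.card_eq_one_iff_unique.mpr ⟨⟨fun c d => Subtype.ext (injective_ofQuotientStabilizer M a ?_)⟩,
      ⟨⟨((1 : M) : M ⧸ H), Bender.Assembly.fix_iff.mpr (by simpa using htH)⟩⟩⟩
    have key : ∀ c : {c : M ⧸ H // t • c = c}, ofQuotientStabilizer M a c.1 = a := fun c => by
      by_contra hne
      refine hno t (isInv_of_orderOf ht) ⟨_, a, hne, ?_, htH⟩
      rw [← ofQuotientStabilizer_smul, c.2]
    rw [key c, key d]
  -- the rank one setup on the cosets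
  have h4 := CfsgLib.Bender.hasFour_of_simple hse
  haveI := CfsgLib.Bender.faithful (CfsgLib.Bender.normalCore_eq_bot hse)
  obtain ⟨t, Q, hS, -⟩ := CfsgLib.Bender.Assembly.goodAll M (M ⧸ H) (CfsgLib.Bender.Assembly.oneFix hse h4)
    ((1 : M) : M ⧸ H)
  obtain ⟨hQ2, -, -⟩ := CfsgLib.SuzukiRankOne.concl hS h4
  obtain ⟨k, hk⟩ := IsPGroup.iff_card.mp hQ2
  have hn : Nat.card Ω = 2 ^ k + 1 := by rw [← hidx, Subgroup.index, RankOne.card_points hS, hk]
  -- the order of `M`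
  have hM := RankOne.card_group hS
  have hDodd : Odd (Nat.card ↥(CfsgLib.RankOne.D ((1 : M) : M ⧸ H) t)) := hS.odd_card
  rw [hk] at hM
  have hoddn : Odd (2 ^ k + 1) := hn ▸ h.odd
  have key : ∀ {j b : ℕ}, Odd b → Nat.card M = 2 ^ j * b → k = j := fun hb e =>
    pow_two_eq (hDodd.mul hoddn) hb (by rw [← e, hM, mul_assoc])
  have hodd1 : ∀ {i : ℕ}, 1 ≤ i → Odd (2 ^ i + 1) := fun hi =>
    (Nat.even_pow.mpr ⟨even_two, by omega⟩).add_one
  have hodd2 : ∀ {i : ℕ}, 1 ≤ i → Odd (2 ^ i - 1) := fun hi =>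
    Nat.Even.sub_odd Nat.one_le_two_pow (Nat.even_pow.mpr ⟨even_two, by omega⟩) odd_one
  rcases CfsgLib.Bender.isBenderGroup_of_stronglyEmbedded
      (CfsgLib.Bender.Assembly.benderHyp CfsgLib.Bender.Assembly.goodAll) CfsgLib.Bender.Assembly.suzukiHyp hse with
    ⟨F, iF, iF', ⟨j, hj, hF⟩, ⟨e⟩⟩ | ⟨F, iF, iF', m, hm, hF, ⟨e⟩⟩ | ⟨F, iF, iF', j, hj, hF, ⟨e⟩⟩
  · haveI := CfsgLib.Bender.charP_two_of_card hF (by omega)
    refine Or.inl ⟨F, iF, iF', ringChar.eq F 2, ?_, ⟨e⟩⟩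
    have h1 := CfsgLib.SLCard.gcd_mul_card_PSL (F := F) (n := 2) (by norm_num)
    rw [CfsgLib.SLCard.card_SL_two, ← Nat.card_congr e.toEquiv, hF,
      Nat.coprime_two_left.mpr (hodd2 (show 1 ≤ j by omega)), one_mul, ← pow_mul] at h1
    rw [hn, hF, key (hodd2 (show 1 ≤ j * 2 by omega)) h1]
  · refine Or.inr (Or.inl ⟨F, iF, iF', m, hm, hF, ?_, ⟨e⟩⟩)
    have h1 := (Cfsg.Agent.S1163.result hm hF).1
    rw [← Nat.card_congr e.toEquiv, ← pow_mul, mul_assoc] at h1
    rw [hn, hF, ← pow_mul, key ((hodd2 (show 1 ≤ 2 * m + 1 by omega)).mul (hodd1 (show 1 ≤ (2 * m + 1) * 2 by omega))) h1]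
  · refine Or.inr (Or.inr (Or.inl ⟨F, iF, iF', 2 ^ j, Nat.even_pow.mpr ⟨even_two, by omega⟩, hF, ?_, ⟨e⟩⟩))
    set q := 2 ^ j with hq
    have hq1 : Odd (q + 1) := hodd1 (by omega)
    have h1 := Cfsg.Agent.S0280.result hF 3 (by norm_num)
    rw [← Nat.card_congr e.toEquiv, Finset.prod_range_succ, Finset.prod_range_succ, Finset.prod_range_one] at h1
    simp only [show Even 0 from ⟨0, rfl⟩, show ¬ Even 1 by decide, show Even 2 from ⟨1, rfl⟩, if_true, if_false,
      show 3 * (3 - 1) / 2 = 3 from rfl, zero_add, pow_one, show 1 + 1 = 2 from rfl, show 2 + 1 = 3 from rfl] at h1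
    have hb : Odd (((q + 1) * (q ^ 2 - 1)) * (q ^ 3 + 1)) := by
      rw [hq, ← pow_mul, ← pow_mul]
      exact ((hodd1 (by omega)).mul (hodd2 (show 1 ≤ j * 2 by omega))).mul (hodd1 (show 1 ≤ j * 3 by omega))
    have hg : Odd (Nat.gcd 3 (q + 1) * (q + 1)) :=
      (Odd.of_dvd_nat (show Odd 3 by decide) (Nat.gcd_dvd_left _ _)).mul hq1
    have h2 : k = j * 3 := by
      refine pow_two_eq (hg.mul (hDodd.mul hoddn)) hb ?_
      rw [pow_mul, ← hq, ← h1, hM]
      ring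
    rw [hn, h2, pow_mul]

end CfsgLib.TwoTransOdd
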