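import Cfsg.Agent.Lib.TwoTransOdd.Gen
import Cfsg.Agent.Lib.TwoTransOdd.Abelian
import Cfsg.Agent.Lib.ONanTwo.Perm.Unitary
import Cfsg.Agent.Lib.GoldSC.Four.U3

/-!
`U₃(q)`: for `q` odd the diagonal group and the centraliser of a swap generate the centraliser of an involution, so
every involution fixes only one point; `U₃(4)` has a strongly embedded subgroup.

Blueprint: `blueprint/S3120.md`, C.
-/

set_option autoImplicit false
set_option linter.unusedSectionVars false
set_option linter.style.haveILetI false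

universe u v

namespace CfsgLib.TwoTransOdd.U3

open Matrix CfsgLib.UnitaryTransvection

variable {F : Type*} [Field F] [Fintype F] {q : ℕ}

/-- The matrix `[[x, y], [y, x]]` with `x + y = 1` and `x - y = r`. -/
def cMatrix (r : Fˣ) : Matrix (Fin 2) (Fin 2) F :=
  !![(1 + (r : F)) / 2, (1 - (r : F)) / 2; (1 - (r : F)) / 2, (1 + (r : F)) / 2]

theorem cMatrix_det (h2 : (2 : F) ≠ 0) (r : Fˣ) : (cMatrix r).det ≠ 0 := by
  have e : (cMatrix r).det = (r : F) := by rw [Matrix.det_fin_two]; simp [cMatrix]; field_simp; ring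
  rw [e]; exact r.ne_zero

/-- The centraliser of the swap. -/
noncomputable def cElt (h2 : (2 : F) ≠ 0) (r : Fˣ) : GL (Fin 2) F :=
  Matrix.GeneralLinearGroup.mkOfDetNeZero (cMatrix r) (cMatrix_det h2 r)

theorem cElt_coe (h2 : (2 : F) ≠ 0) (r : Fˣ) : ((cElt h2 r : GL (Fin 2) F) : Matrix (Fin 2) (Fin 2) F) = cMatrix r :=
  rfl

theorem cElt_mem (hF : Fintype.card F = q ^ 2) (h2 : (2 : F) ≠ 0) {r : Fˣ} (hr : r ^ (q + 1) = 1) :
    cElt h2 r ∈ Cfsg.GU 2 F q := by
  intro u v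
  show Cfsg.hermForm 2 F q (cMatrix r *ᵥ u) (cMatrix r *ᵥ v) = _
  have hr' : frob hF (r : F) = (r : F)⁻¹ := by
    have e : (r : F) ^ q * r = 1 := by rw [← pow_succ, ← Units.val_pow_eq_pow_val, hr, Units.val_one]
    rw [frob_apply]; exact eq_inv_of_mul_eq_one_left e
  simp only [Cfsg.hermForm, Fin.sum_univ_two, ← frob_apply hF]
  simp [cMatrix, Matrix.mulVec, dotProduct, Fin.sum_univ_two, map_ofNat, hr']
  have := r.ne_zero
  field_simp
  ring

theorem dgl_coe (d : Fin 2 → Fˣ) :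
    ((CfsgLib.UnitaryBasic.dgl d : GL (Fin 2) F) : Matrix (Fin 2) (Fin 2) F) = diagonal fun i => (d i : F) := rfl

/-- `diag(a, b)` in the unitary group. -/
noncomputable def dd (a b : Fˣ) (ha : a ^ (q + 1) = 1) (hb : b ^ (q + 1) = 1) : Cfsg.GU 2 F q :=
  ⟨CfsgLib.UnitaryBasic.dgl ![a, b], CfsgLib.UnitaryBasic.dgl_mem _ fun i => by fin_cases i <;> assumption⟩

theorem dd_coe (a b : Fˣ) (ha : a ^ (q + 1) = 1) (hb : b ^ (q + 1) = 1) :
    (((dd a b ha hb : Cfsg.GU 2 F q) : GL (Fin 2) F) : Matrix (Fin 2) (Fin 2) F) =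
      diagonal fun i => ((![a, b] i : Fˣ) : F) := rfl

/-- A closed subgroup of `GU₂(q)` containing the frame involutions is everything. -/
theorem top_of_closed (hF : Fintype.card F = q ^ 2) (hodd : Odd q) (hn : (-1 : Fˣ) ^ (q + 1) = 1)
    {H : Subgroup (Cfsg.GU 2 F q)} (hZ : dd (-1) (-1) hn hn ∈ H) (hD : dd 1 (-1) (one_pow _) hn ∈ H)
    (hH : Closed H) : H = ⊤ := by
  classical
  have h2 := CfsgLib.SU3Inv.two_ne hF hodd
  have hq := (CfsgLib.UnitaryBasic.frob_exists hF).1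
  have hn1 : (-1 : F) ≠ 1 := fun e => h2 (by linear_combination -e)
  have ext2 : ∀ {g k : Cfsg.GU 2 F q}, (∀ i j, (g.1 : Matrix (Fin 2) (Fin 2) F) i j = (k.1 : Matrix (Fin 2) (Fin 2) F) i j) →
      g = k := fun hgk => Subtype.ext (Units.ext (Matrix.ext hgk))
  set Z := dd (-1) (-1) hn hn with hZdef
  set D := dd 1 (-1) (one_pow _) hn with hDdef
  set W : Cfsg.GU 2 F q := ⟨cElt h2 (-1), cElt_mem hF h2 hn⟩ with hWdef
  have hZD : Four Z D := by
    refine ⟨ext2 fun i j => ?_, ext2 fun i j => ?_, fun e => hn1 ?_, fun e => hn1 ?_, fun e => hn1 ?_,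
      ext2 fun i j => ?_⟩
    · fin_cases i <;> fin_cases j <;> simp [hZdef, dd_coe, Matrix.mul_apply, Fin.sum_univ_two]
    · fin_cases i <;> fin_cases j <;> simp [hDdef, dd_coe, Matrix.mul_apply, Fin.sum_univ_two]
    · simpa [hZdef, dd_coe] using congrArg (fun g : Cfsg.GU 2 F q => (g.1 : Matrix (Fin 2) (Fin 2) F) 0 0) e
    · simpa [hDdef, dd_coe] using congrArg (fun g : Cfsg.GU 2 F q => (g.1 : Matrix (Fin 2) (Fin 2) F) 1 1) e
    · simpa [hZdef, hDdef, dd_coe] using congrArg (fun g : Cfsg.GU 2 F q => (g.1 : Matrix (Fin 2) (Fin 2) F) 0 0) e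
    · fin_cases i <;> fin_cases j <;> simp [hZdef, hDdef, dd_coe, Matrix.mul_apply, Fin.sum_univ_two]
  have hW : W ∈ H := by
    refine hH Z D Z (Z * D) W hZD hZ hD hZ (mul_mem hZ hD) (ext2 fun i j => ?_) (ext2 fun i j => ?_) <;>
      fin_cases i <;> fin_cases j <;>
      simp [hWdef, hZdef, hDdef, dd_coe, cElt_coe, cMatrix, Matrix.mul_apply, Fin.sum_univ_two]
  have hZW : Four Z W := by
    refine ⟨hZD.uu, ext2 fun i j => ?_, hZD.u1, fun e => hn1 ?_, fun e => hn1 ?_, ext2 fun i j => ?_⟩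
    · fin_cases i <;> fin_cases j <;>
        simp [hWdef, cElt_coe, cMatrix, Matrix.mul_apply, Fin.sum_univ_two] <;> field_simp <;> ring
    · have := congrArg (fun g : Cfsg.GU 2 F q => (g.1 : Matrix (Fin 2) (Fin 2) F) 0 0) e
      simp [hWdef, cElt_coe, cMatrix] at this
    · have := congrArg (fun g : Cfsg.GU 2 F q => (g.1 : Matrix (Fin 2) (Fin 2) F) 0 0) e
      simp [hWdef, hZdef, dd_coe, cElt_coe, cMatrix] at this
    · fin_cases i <;> fin_cases j <;>
        simp [hWdef, hZdef, dd_coe, cElt_coe, cMatrix, Matrix.mul_apply, Fin.sum_univ_two]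
  have hdd : ∀ a b ha hb, dd (q := q) a b ha hb ∈ H := fun a b ha hb => by
    refine hH Z D Z D _ hZD hZ hD hZ hD (ext2 fun i j => ?_) (ext2 fun i j => ?_) <;>
      fin_cases i <;> fin_cases j <;> simp [hZdef, hDdef, dd_coe, Matrix.mul_apply, Fin.sum_univ_two]
  have hc : ∀ r (hr : r ^ (q + 1) = 1), (⟨cElt h2 r, cElt_mem hF h2 hr⟩ : Cfsg.GU 2 F q) ∈ H := fun r hr => by
    refine hH Z W Z W _ hZW hZ hW hZ hW (ext2 fun i j => ?_) (ext2 fun i j => ?_) <;>
      fin_cases i <;> fin_cases j <;>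
      simp [hWdef, hZdef, dd_coe, cElt_coe, cMatrix, Matrix.mul_apply, Fin.sum_univ_two] <;> field_simp <;> ring
  -- counting
  obtain ⟨ζ, hζ⟩ := CfsgLib.UnitaryBasic.exists_zeta hF
  set μ := Subgroup.zpowers ζ
  have hμc : Nat.card μ = q + 1 := by rw [Nat.card_zpowers, hζ]
  have hμ : ∀ a : μ, (a : Fˣ) ^ (q + 1) = 1 := fun a => by
    rw [← hμc, ← Subgroup.coe_pow, pow_card_eq_one', Subgroup.coe_one]
  let R := {r : μ // (r : Fˣ) ≠ 1 ∧ (r : Fˣ) ≠ -1}
  have hR : q - 1 ≤ Nat.card R := by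
    have h1 : Nat.card μ ≤ Nat.card (R ⊕ Bool) := by
      refine Nat.card_le_card_of_injective (fun r => if h : (r : Fˣ) ≠ 1 ∧ (r : Fˣ) ≠ -1 then Sum.inl ⟨r, h⟩
        else Sum.inr (decide ((r : Fˣ) = 1))) fun r s e => ?_
      simp only at e
      split_ifs at e with hr hs hs
      · exact congrArg Subtype.val (Sum.inl_injective e)
      · have h1 := Sum.inr_injective e
        rw [not_and_or, not_not, not_not] at hr hs
        refine Subtype.ext ?_
        rcases hr with hr | hr <;> rcases hs with hs | hs <;> simp [hr, hs] at h1 ⊢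
        all_goals simp_all
    rw [Nat.card_sum, Nat.card_eq_fintype_card (α := Bool), Fintype.card_bool, hμc] at h1
    omega
  let e := Fintype.equivFin Fˣ
  let f : μ × R × μ × μ → H × Bool := fun z =>
    (⟨dd 1 z.1 (one_pow _) (hμ z.1) * ⟨cElt h2 z.2.1.1, cElt_mem hF h2 (hμ z.2.1.1)⟩ *
        dd z.2.2.1 z.2.2.2 (hμ z.2.2.1) (hμ z.2.2.2),
      mul_mem (mul_mem (hdd _ _ _ _) (hc _ (hμ z.2.1.1))) (hdd _ _ _ _)⟩,
      decide ((e (z.2.1.1 : Fˣ)) < e (z.2.1.1 : Fˣ)⁻¹))
  have hf : Function.Injective f := by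
    rintro ⟨l, ⟨r, hr1, hr2⟩, a, b⟩ ⟨l', ⟨r', hr1', hr2'⟩, a', b'⟩ eq
    have heq := congrArg (fun z : H × Bool => (((z.1 : Cfsg.GU 2 F q) : GL (Fin 2) F) : Matrix (Fin 2) (Fin 2) F)) eq
    have hb := congrArg Prod.snd eq
    have c00 := congrFun (congrFun heq 0) 0
    have c01 := congrFun (congrFun heq 0) 1
    have c10 := congrFun (congrFun heq 1) 0
    have c11 := congrFun (congrFun heq 1) 1
    simp [f, dd_coe, cElt_coe, cMatrix, Matrix.mul_apply, Fin.sum_univ_two] at c00 c01 c10 c11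
    simp only [f] at hb
    set R0 := (((r : μ) : Fˣ) : F)
    set R0' := (((r' : μ) : Fˣ) : F)
    have hx : ∀ {s : μ}, (s : Fˣ) ≠ -1 → 1 + (((s : μ) : Fˣ) : F) ≠ 0 := fun hs e =>
      hs (Units.ext (by rw [Units.val_neg, Units.val_one]; linear_combination e))
    have hy : ∀ {s : μ}, (s : Fˣ) ≠ 1 → 1 - (((s : μ) : Fˣ) : F) ≠ 0 := fun hs e =>
      hs (Units.ext (by rw [Units.val_one]; linear_combination -e))
    have ha := ((a : μ) : Fˣ).ne_zero
    have hbb := ((b : μ) : Fˣ).ne_zero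
    have hl := ((l : μ) : Fˣ).ne_zero
    field_simp at c00 c01 c10 c11
    have key : ((1 - R0) * (1 + R0')) ^ 2 = ((1 - R0') * (1 + R0)) ^ 2 := by
      have hne : (((l : μ) : Fˣ) : F) * (((a : μ) : Fˣ) : F) * (((b : μ) : Fˣ) : F) *
          ((((l' : μ) : Fˣ) : F) * (((a' : μ) : Fˣ) : F) * (((b' : μ) : Fˣ) : F)) ≠ 0 :=
        mul_ne_zero (mul_ne_zero (mul_ne_zero hl ha) hbb)
          (mul_ne_zero (mul_ne_zero ((l' : μ) : Fˣ).ne_zero ((a' : μ) : Fˣ).ne_zero) ((b' : μ) : Fˣ).ne_zero)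
      refine mul_left_cancel₀ hne ?_
      have p1 := congrArg₂ (· * ·) c10 c01
      have p2 := congrArg₂ (· * ·) c00 c11
      linear_combination ((((l' : μ) : Fˣ) : F) * (((a' : μ) : Fˣ) : F) * (((b' : μ) : Fˣ) : F) * (1 + R0') ^ 2) * p1 -
        ((((l' : μ) : Fˣ) : F) * (((a' : μ) : Fˣ) : F) * (((b' : μ) : Fˣ) : F) * (1 - R0') ^ 2) * p2
    have hrr : (r : Fˣ) = r' := by
      rcases sq_eq_sq_iff_eq_or_eq_neg.mp key with e1 | e1
      · exact Units.ext (mul_left_cancel₀ h2 (by linear_combination -e1))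
      · have e2 : (r' : Fˣ) = (r : Fˣ)⁻¹ := eq_inv_of_mul_eq_one_left (Units.ext (by
          rw [Units.val_mul, Units.val_one]
          exact mul_left_cancel₀ h2 (by linear_combination -e1)))
        exfalso
        rw [e2, inv_inv, decide_eq_decide] at hb
        have hne : e (r : Fˣ) ≠ e (r : Fˣ)⁻¹ := fun e3 => by
          have e4 : (r : Fˣ) * r = 1 := by nth_rewrite 2 [e.injective e3]; rw [mul_inv_cancel]
          have e5 : ((R0 - 1) * (R0 + 1) : F) = 0 := by
            have := congrArg Units.val e4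
            rw [Units.val_mul, Units.val_one] at this
            linear_combination this
          rcases mul_eq_zero.mp e5 with e6 | e6
          · exact hy hr1 (by linear_combination -e6)
          · exact hx hr2 (by linear_combination e6)
        rcases lt_or_gt_of_ne hne with h' | h'
        · exact lt_asymm h' (hb.mp h')
        · exact lt_asymm h' (hb.mpr h')
    obtain rfl : r = r' := Subtype.ext hrr
    have e1 : (a : Fˣ) = a' := Units.ext (mul_left_cancel₀ (hx hr2) (by linear_combination c00))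
    have e2 : (b : Fˣ) = b' := Units.ext (mul_left_cancel₀ (hy hr1) (by linear_combination c01))
    obtain rfl : a = a' := Subtype.ext e1
    obtain rfl : b = b' := Subtype.ext e2
    have e3 : (l : Fˣ) = l' := Units.ext (mul_left_cancel₀ (mul_ne_zero (hy hr1) ha) (by linear_combination c10))
    obtain rfl : l = l' := Subtype.ext e3
    rfl
  have hcard := Nat.card_le_card_of_injective f hf
  rw [Nat.card_prod, Nat.card_prod, Nat.card_prod, Nat.card_prod, Nat.card_eq_fintype_card (α := Bool),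
    Fintype.card_bool, hμc] at hcard
  have hGU : Nat.card (Cfsg.GU 2 F q) = q * ((q + 1) * (q ^ 2 - 1)) := by
    rw [CfsgLib.UnitaryOrder.card_GU hF 2, show Finset.range 2 = {0, 1} by decide]
    simp [Finset.prod_insert, show ¬ Even 1 by decide]
  by_contra hne
  have hidx : 2 ≤ H.index := by
    have h1 : H.index ≠ 1 := fun e => hne (Subgroup.index_eq_one.mp e)
    have : H.index ≠ 0 := Subgroup.index_ne_zero_of_finite
    omega
  have hmul := H.card_mul_index
  rw [hGU] at hmul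
  have h1 : (q + 1) * ((q - 1) * ((q + 1) * (q + 1))) ≤ q * ((q + 1) * (q ^ 2 - 1)) :=
    calc (q + 1) * ((q - 1) * ((q + 1) * (q + 1))) ≤ (q + 1) * (Nat.card R * ((q + 1) * (q + 1))) :=
          Nat.mul_le_mul_left _ (Nat.mul_le_mul_right _ hR)
      _ ≤ Nat.card H * 2 := hcard
      _ ≤ Nat.card H * H.index := Nat.mul_le_mul_left _ hidx
      _ = _ := hmul
  rw [show q ^ 2 - 1 = (q + 1) * (q - 1) by rw [← one_pow 2, Nat.sq_sub_sq, one_pow]] at h1
  have h2' : (q + 1) * ((q + 1) * ((q + 1) * (q - 1))) ≤ q * ((q + 1) * ((q + 1) * (q - 1))) := by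
    refine le_trans (le_of_eq ?_) h1
    ring
  have := Nat.le_of_mul_le_mul_right h2' (Nat.mul_pos (by omega) (Nat.mul_pos (by omega) (by omega)))
  omega

end CfsgLib.TwoTransOdd.U3

namespace CfsgLib.TwoTransOdd

open MulAction Matrix
open CfsgLib.Bender.TwoClosed (IsInv)
open CfsgLib.UnitaryTransvection CfsgLib.UnitarySimple

variable {M : Type u} [Group M] [Finite M] {Ω : Type v} [Finite Ω] [MulAction M Ω]

/-- `U₃(q)`, `q` odd: every involution fixes one point. -/
theorem Act.u3 (h : Act M Ω) {F : Type} [Field F] [Fintype F] {q : ℕ} (hF : Fintype.card F = q ^ 2) (hodd : Odd q)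
    (e : M ≃* Cfsg.PSU 3 F q) {t : M} (ht : IsInv t) (hw : Wide2 Ω t) : False := by
  classical
  have h2 : (2 : F) ≠ 0 := CfsgLib.SU3Inv.two_ne hF hodd
  set G3 := Cfsg.SU 3 F q
  let π : G3 →* M := e.symm.toMonoidHom.comp (QuotientGroup.mk' (Subgroup.center G3))
  have hπ : Function.Surjective π := e.symm.surjective.comp (QuotientGroup.mk'_surjective _)
  have hker : π.ker = Subgroup.center G3 := by
    ext x
    rw [MonoidHom.mem_ker, MonoidHom.comp_apply, MulEquiv.coe_toMonoidHom, map_eq_one_iff _ e.symm.injective,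
      QuotientGroup.mk'_apply, QuotientGroup.eq_one_iff]
  have hc3 : Nat.card (Subgroup.center G3) ∣ 3 := by
    rw [Cfsg.Agent.S0280.center_card hF 3 (by norm_num)]
    exact Nat.gcd_dvd_left _ _
  have hZodd : ∀ z, π z = 1 → z * z = 1 → z = 1 := fun z hz hz2 => by
    by_contra hz1
    have h1 := Subgroup.orderOf_dvd_natCard _ (hker ▸ (MonoidHom.mem_ker.mpr hz) : z ∈ Subgroup.center G3)
    rw [orderOf_eq_prime (p := 2) (by rw [pow_two]; exact hz2) hz1] at h1
    exact absurd (h1.trans hc3) (by norm_num)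
  -- the point
  have hn : (-1 : Fˣ) ^ (q + 1) = 1 := by obtain ⟨k, hk⟩ := hodd; rw [hk, show 2 * k + 1 + 1 = 2 * (k + 1) by ring, pow_mul]; simp
  set β := ONanTwo.blk (q := q) hF
  have hn1 : (-1 : F) ≠ 1 := fun e => h2 (by linear_combination -e)
  set Z := U3.dd (-1) (-1) hn hn with hZdef
  set D := U3.dd (q := q) (1 : Fˣ) (-1) (one_pow _) hn with hDdef
  have ext2 : ∀ {g k : Cfsg.GU 2 F q}, (∀ i j, (g.1 : Matrix (Fin 2) (Fin 2) F) i j = (k.1 : Matrix (Fin 2) (Fin 2) F) i j) →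
      g = k := fun hgk => Subtype.ext (Units.ext (Matrix.ext hgk))
  have hZD : Four Z D := by
    refine ⟨ext2 fun i j => ?_, ext2 fun i j => ?_, fun e => hn1 ?_, fun e => hn1 ?_, fun e => hn1 ?_,
      ext2 fun i j => ?_⟩
    · fin_cases i <;> fin_cases j <;> simp [hZdef, U3.dd_coe, Matrix.mul_apply, Fin.sum_univ_two]
    · fin_cases i <;> fin_cases j <;> simp [hDdef, U3.dd_coe, Matrix.mul_apply, Fin.sum_univ_two]
    · simpa [hZdef, U3.dd_coe] using congrArg (fun g : Cfsg.GU 2 F q => (g.1 : Matrix (Fin 2) (Fin 2) F) 0 0) e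
    · simpa [hDdef, U3.dd_coe] using congrArg (fun g : Cfsg.GU 2 F q => (g.1 : Matrix (Fin 2) (Fin 2) F) 1 1) e
    · simpa [hZdef, hDdef, U3.dd_coe] using
        congrArg (fun g : Cfsg.GU 2 F q => (g.1 : Matrix (Fin 2) (Fin 2) F) 0 0) e
    · fin_cases i <;> fin_cases j <;> simp [hZdef, hDdef, U3.dd_coe, Matrix.mul_apply, Fin.sum_univ_two]
  obtain ⟨a, haZ, haD, hcl⟩ := h.closed_point π hZodd (hZD.map β (ONanTwo.blk_inj hF))
  have hall : ∀ A, π (β A) • a = a := fun A => by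
    have e1 := U3.top_of_closed hF hodd hn (H := ((stabilizer M a).comap π).comap β) haZ haD
      (hcl.comap β (ONanTwo.blk_inj hF))
    exact (e1 ▸ Subgroup.mem_top A : A ∈ ((stabilizer M a).comap π).comap β)
  have hβZ : β Z = CfsgLib.SU3Inv.E hF := su_ext fun x => by
    rw [ONanTwo.mat_E_mulVec]
    show ONanTwo.blkMat _ *ᵥ x = _
    rw [ONanTwo.blkMat_mulVec]
    have hdet : ((Z.1⁻¹ : GL (Fin 2) F) : Matrix (Fin 2) (Fin 2) F).det = 1 := by
      have hinv : Z.1⁻¹ = Z.1 := inv_eq_of_mul_eq_one_right (congrArg Subtype.val hZD.uu)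
      rw [hinv, hZdef, U3.dd_coe, Matrix.det_diagonal, Fin.prod_univ_two]
      simp
    rw [hdet, one_mul]
    congr 1
    funext i
    fin_cases i <;> simp [hZdef, U3.dd_coe, Matrix.mulVec_diagonal, Fin.tail]
  -- the centraliser
  set x := CfsgLib.SU3Inv.E hF
  have hx2 : x * x = 1 := CfsgLib.SU3Inv.ρ_mul_self hF _ _
  have hx1 : x ≠ 1 := CfsgLib.SU3Inv.ρ_ne_one hF h2 _ _
  set CX := Subgroup.centralizer ({x} : Set G3)
  let γ : Cfsg.GU 2 F q →* CX := β.codRestrict CX fun A =>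
    Subgroup.mem_centralizer_singleton_iff.mpr (ONanTwo.blk_comm hF A)
  have hγ : Function.Surjective γ := by
    refine (Function.Injective.bijective_of_nat_card_le (f := γ) ?_ ?_).2
    · intro A B e'
      exact ONanTwo.blk_inj hF (congrArg Subtype.val e')
    · rw [CfsgLib.SU3Inv.card_centralizer hF h2 x hx1 hx2, CfsgLib.UnitaryOrder.card_GU hF 2,
        show Finset.range 2 = {0, 1} by decide]
      simp [Finset.prod_insert, show ¬ Even 1 by decide]
      exact le_of_eq (by ring)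
  have hcent : ∀ g : M, Commute g (π x) → g • a = a := fun g hg => by
    obtain ⟨y, rfl⟩ := hπ g
    set z := y * x * y⁻¹ * x⁻¹ with hz
    have hzk : π z = 1 := by rw [hz, map_mul, map_mul, map_mul, map_inv, map_inv, hg.eq]; group
    have hzc : z ∈ Subgroup.center G3 := hker ▸ MonoidHom.mem_ker.mpr hzk
    have e1 : z * x = y * x * y⁻¹ := by rw [hz, inv_mul_cancel_right]
    have hz2 : z * z = 1 := by
      have h3 : (z * x) * (z * x) = 1 := by
        rw [e1, show y * x * y⁻¹ * (y * x * y⁻¹) = y * (x * x) * y⁻¹ by group, hx2, mul_one, mul_inv_cancel]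
      rwa [show z * x * (z * x) = z * (x * z) * x by group, Subgroup.mem_center_iff.mp hzc x,
        show z * (z * x) * x = z * z * (x * x) by group, hx2, mul_one] at h3
    rw [hZodd z hzk hz2, one_mul] at e1
    obtain ⟨A, hA⟩ := hγ ⟨y, Subgroup.mem_centralizer_singleton_iff.mpr (by
      calc y * x = y * x * y⁻¹ * y := by group
        _ = x * y := by rw [← e1])⟩
    rw [show y = β A from (congrArg Subtype.val hA).symm]
    exact hall A
  -- conjugation to `t`
  obtain ⟨x₀, hx₀⟩ := hπ t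
  obtain ⟨y, hyt, hy2⟩ : ∃ y, π y = t ∧ y * y = 1 := by
    have hz : x₀ * x₀ ∈ Subgroup.center G3 := by rw [← hker, MonoidHom.mem_ker, map_mul, hx₀, ht.2]
    have h6 : x₀ ^ 6 = 1 := by
      have h1 : (x₀ * x₀) ^ 3 = 1 := orderOf_dvd_iff_pow_eq_one.mp ((Subgroup.orderOf_dvd_natCard _ hz).trans hc3)
      rw [← pow_two, ← pow_mul] at h1
      exact h1
    refine ⟨x₀ ^ 3, ?_, by rw [← pow_add]; exact h6⟩
    rw [map_pow, hx₀, pow_succ, pow_two, ht.2, one_mul]
  obtain ⟨g, hg⟩ := CfsgLib.SU3Inv.exists_conj_E hF h2 y (fun e' => ht.1 (by rw [← hyt, e', map_one])) hy2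
  obtain ⟨b, c, hbc, hb, hc⟩ := hw
  rw [← hyt, ← hg, map_mul, map_mul, map_inv, mul_smul, mul_smul] at hb hc
  have key : ∀ d : Ω, π x • d = d → d = a := fun d hd => by
    have hxi : IsInv (π x) := ⟨fun e' => hx1 (hZodd x e' hx2), by rw [← map_mul, hx2, map_one]⟩
    have hax : π x • a = a := hβZ ▸ hall Z
    obtain ⟨m, hm, rfl⟩ := h.fixTrans (π x) hxi a d hax hd
    exact hcent m hm
  refine hbc (MulAction.injective (π g)⁻¹ ((key _ ?_).trans (key _ ?_).symm))
  · exact eq_inv_smul_iff.mpr hb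
  · exact eq_inv_smul_iff.mpr hc

/-- `U₃(4)` has a strongly embedded subgroup. -/
theorem Act.u34 (h : Act M Ω) {F : Type} [Field F] [Fintype F] (hF : Fintype.card F = 16) (e : M ≃* Cfsg.PSU 3 F 4)
    {t : M} (ht : IsInv t) (hw : Wide2 Ω t) : False := by
  haveI := h.simple
  haveI := CfsgLib.Bender.charP_two_of_card (n := 4) (F := F) (by rw [hF]; norm_num) (by norm_num)
  obtain ⟨H, hH⟩ := CfsgLib.GoldSC.psu_even_stronglyEmbedded h.noncomm (q := 4) (by rw [hF]; norm_num) e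
  obtain ⟨a, b, hab, ha, hb⟩ := hw
  exact h.no_se ht ha ⟨a, b, hab, ha, hb⟩ hH

end CfsgLib.TwoTransOdd
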