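import Cfsg.Agent.Lib.TwoTransOdd.Abelian
import Cfsg.Agent.Lib.TwoTransOdd.L2
import Cfsg.Agent.Lib.TwoTransOdd.L3
import Cfsg.Agent.Lib.TwoTransOdd.U3
import Cfsg.Agent.Lib.TwoTransOdd.StrongEmb
import Cfsg.Agent.Lib.EqualOrder.Solvable
import Cfsg.Agent.S0482

/-!
Doubly transitive groups of odd degree whose two-point stabilisers have cyclic or generalized quaternion Sylow
2-subgroups.

Blueprint: `blueprint/S3120.md`.
-/

set_option autoImplicit false
set_option linter.unusedSectionVars false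
set_option linter.style.haveILetI false

universe u v

namespace CfsgLib.TwoTransOdd

open MulAction
open CfsgLib.Bender.TwoClosed (IsInv)

/-- Cyclic and generalized quaternion 2-groups have one involution. -/
theorem eq_of_invol {S : Type u} [Group S] [Finite S]
    (hS : IsCyclic S ∨ ∃ n : ℕ, Nonempty (S ≃* QuaternionGroup (2 ^ (n + 1)))) {x y : S} (hx : IsInv x)
    (hy : IsInv y) : x = y := by
  rcases hS with hc | ⟨n, ⟨e⟩⟩
  · haveI := hc
    exact CfsgLib.BSW.unique_involution_of_cyclic (⊤ : Subgroup S) (hR := Subgroup.topEquiv.isCyclic.mpr hc)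
      (Subgroup.mem_top x) (Subgroup.mem_top y) (CfsgLib.Bender.Assembly.orderOf_two hx)
      (CfsgLib.Bender.Assembly.orderOf_two hy)
  · haveI : NeZero (2 ^ (n + 1)) := ⟨by positivity⟩
    have key : ∀ {z : S}, IsInv z → e z = QuaternionGroup.a ((2 ^ (n + 1) : ℕ) : ZMod (2 * 2 ^ (n + 1))) :=
      fun {z} hz => (CfsgLib.EqualOrder.Solv.quat_involution (by rw [← map_mul, hz.2, map_one])).resolve_left
        fun e1 => hz.1 (e.injective (e1.trans (map_one e).symm))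
    exact e.injective ((key hx).trans (key hy).symm)

variable {M : Type u} [Group M] [Finite M] {Ω : Type v} [Finite Ω] [MulAction M Ω]

/-- The socle. -/
theorem Act.target (h : Act M Ω) : Target M (Nat.card Ω) := by
  classical
  by_cases hno : ∀ t : M, IsInv t → ¬ Wide2 Ω t
  · exact h.se_case hno
  push Not at hno
  obtain ⟨t, ht, hw⟩ := hno
  obtain ⟨a, -, -, hta, -⟩ := id hw
  haveI := h.simple
  by_cases h3 : Cfsg.PRankLE 2 2 M
  · rcases Cfsg.Agent.S0482.result h.noncomm h3 with ⟨F, _, _, hodd, h5, ⟨e⟩⟩ | ⟨F, _, _, hodd, ⟨e⟩⟩ |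
      ⟨F, _, _, q, hF, hodd, ⟨e⟩⟩ | ⟨F, _, _, hF, ⟨e⟩⟩ | ⟨⟨e⟩⟩ | hM
    · obtain ⟨hn, hq⟩ := h.l2 ht hta hw hodd h5 e
      exact Or.inr (Or.inr (Or.inr ⟨hn, Or.inl ⟨F, inferInstance, inferInstance, hq, ⟨e⟩⟩⟩))
    · exact (h.l3 hodd e).elim
    · exact (h.u3 hF hodd e ht hw).elim
    · exact (h.u34 hF e ht hw).elim
    · exact (h.alt_seven e).elim
    · obtain ⟨hn, hiso⟩ := h.m11 ht hta hw hM
      exact Or.inr (Or.inr (Or.inr ⟨hn, Or.inr hiso⟩))
  obtain ⟨z, hz, hzw, hzc⟩ := h.exists_central ht hw h3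
  exact (h.no_twins h3 (fun s hs hsw hsc b hsb P hP hst => h.not_struct hs h3 hsc hsb hsw hP hst) hz hzw hzc).elim

variable {G : Type u} [Group G] [Finite G] [MulAction G Ω] [FaithfulSMul G Ω]

/-- The hypothesis on the Sylow subgroups gives the setting. -/
theorem sit_of_sylow (hodd : Odd (Nat.card Ω))
    (h2t : ∀ a b c d : Ω, a ≠ b → c ≠ d → ∃ g : G, g • a = c ∧ g • b = d) {a b : Ω} (hab : a ≠ b)
    (hS : ∀ S : Sylow 2 ↥(stabilizer G a ⊓ stabilizer G b), IsCyclic ↥(S : Subgroup ↥(stabilizer G a ⊓ stabilizer G b)) ∨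
      ∃ n : ℕ, Nonempty (↥(S : Subgroup ↥(stabilizer G a ⊓ stabilizer G b)) ≃* QuaternionGroup (2 ^ (n + 1)))) :
    Sit G Ω := by
  haveI := Fact.mk Nat.prime_two
  refine ⟨h2t, hodd, fun x => ?_, fun u v hu hv hc x y hxy hux huy hvx hvy => ?_⟩
  · by_cases hx : a = x
    exacts [⟨b, hx ▸ hab.symm⟩, ⟨a, hx⟩]
  by_contra hne
  obtain ⟨g, hgx, hgy⟩ := h2t x y a b hxy hab
  set D := stabilizer G a ⊓ stabilizer G b
  let u' : ↥D := ⟨g * u * g⁻¹, ⟨fix_conj hgx hux, fix_conj hgy huy⟩⟩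
  let v' : ↥D := ⟨g * v * g⁻¹, ⟨fix_conj hgx hvx, fix_conj hgy hvy⟩⟩
  have hu' : IsInv u' := CoreKill.isInv_sub.mpr (hu.conj g)
  have hv' : IsInv v' := CoreKill.isInv_sub.mpr (hv.conj g)
  have hne' : u' ≠ v' := fun e => hne (mul_left_cancel (mul_right_cancel (congrArg Subtype.val e)))
  have hc' : Commute u' v' := Subtype.ext (hc.map (MulAut.conj g).toMonoidHom).eq
  obtain ⟨U, -, -, hU, huU, hvU, -⟩ := CoreKill.pair_group hu' hv' hne' hc'
  obtain ⟨S, hUS⟩ := hU.exists_le_sylow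
  exact hne' (congrArg Subtype.val (eq_of_invol (hS S) (x := ⟨u', hUS huU⟩) (y := ⟨v', hUS hvU⟩)
    (CoreKill.isInv_sub.mpr hu') (CoreKill.isInv_sub.mpr hv')))

end CfsgLib.TwoTransOdd
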