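import Cfsg.Agent.Lib.TwoTransOdd.Cover
import Mathlib.GroupTheory.GroupAction.Jordan

/-!
Nine points: the lines are everything, `H` is transitive off the base and an element of `H` centralising `C` gives a
short cycle, so the induced group contains the alternating group.

Blueprint: `blueprint/S3120.md`, B.
-/

set_option autoImplicit false
set_option linter.unusedSectionVars false
set_option linter.style.haveILetI false

universe u

namespace CfsgLib.CoreKill.Local

open Cfsg MulAction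
open CfsgLib.Bender.TwoClosed (IsInv)
open CfsgLib.Bender.Assembly (fix_iff)

variable {X : Type u} [Group X] [Finite X] {H : Subgroup X} {P : Sylow 2 X} {t : X} {R C : Subgroup X}

/-- The translate at the base is kept. -/
def Closed (H : Subgroup X) (R C : Subgroup X) : Prop :=
  ∃ r ∈ R, r ≠ 1 ∧ (∀ p : X ⧸ H, ¬ p ∈ lineOf H R → p ∈ lineOf H C)

namespace Twins

variable (h : Pt H P t) (D : Twins H P t R C)
include h D

/-- The first case of the dichotomy gives that the lines are everything. -/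
theorem closed_of_keep {r : X} (hr : r ∈ R) (hr1 : r ≠ 1) (hrt : r ≠ t)
    (hkeep : ∀ n ∈ Subgroup.normalizer (Subgroup.zpowers r : Set X), ∀ p ∈ lineOf H C \ {base H},
      n • p ∈ lineOf H C \ {base H}) : Closed H R C := by
  refine ⟨r, hr, hr1, fun p hp => ?_⟩
  obtain ⟨n, hn, hnp⟩ := D.exists_cover h hr hr1 hrt hp
  have := (hkeep n hn _ hnp).1
  rwa [smul_inv_smul] at this

variable (hcl : Closed H R C)
include hcl

theorem card_nine : Nat.card (X ⧸ H) = 9 := by
  obtain ⟨-, -, -, hall⟩ := hcl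
  have hu : lineOf H R ∪ lineOf H C = Set.univ := Set.eq_univ_of_forall fun p =>
    (em (p ∈ lineOf H R)).imp id (hall p)
  have hi : lineOf H R ∩ lineOf H C = {base H} :=
    Set.Subset.antisymm (fun q hq => D.line_inter h hq.1 hq.2)
      (Set.singleton_subset_iff.mpr ⟨D.base_lineR h, D.base_lineC h⟩)
  have h2 := Set.ncard_union_add_ncard_inter (lineOf H R) (lineOf H C)
  rw [hu, hi, Set.ncard_univ, Set.ncard_singleton, D.card_lineR h, D.card_lineC h] at h2
  omega

/-- `H` is transitive off the base. -/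
theorem base_trans {p q : X ⧸ H} (hp : p ≠ base H) (hq : q ≠ base H) : ∃ k ∈ H, k • p = q := by
  obtain ⟨r, hr, hr1, hrt⟩ := (QG.of_R h D.twin).exists_proper h
  obtain ⟨g, hgP, hgR, -⟩ := D.twin.swap
  obtain ⟨-, -, -, hall⟩ := hcl
  obtain ⟨p₀, hp₀, hp₀'⟩ : ∃ p ∈ lineOf H R, p ≠ base H := by
    by_contra hno
    push Not at hno
    have h2 := Set.ncard_le_ncard (show lineOf H R ⊆ {base H} from fun x hx => hno x hx) (Set.toFinite _)
    rw [D.card_lineR h, Set.ncard_singleton] at h2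
    omega
  have hgp : g • p₀ ∈ lineOf H C := fun c hc => by
    have hpre : g⁻¹ * c * g ∈ R := (hgR _).mpr (by simpa [mul_assoc] using hc)
    have := hp₀ _ hpre
    rwa [mul_smul, mul_smul, inv_smul_eq_iff] at this
  have hgp0 : g • p₀ ≠ base H := fun e => hp₀' (smul_left_cancel g (e.trans (fix_base.mpr (h.P_le hgP)).symm))
  have key : ∀ p : X ⧸ H, p ≠ base H → ∃ k ∈ H, k • p₀ = p := by
    intro p hp
    by_cases hpR : p ∈ lineOf H R
    · rw [D.lineR_eq h hr hr1 hrt] at hpR hp₀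
      by_cases e : p = p₀
      · exact ⟨1, one_mem H, by rw [one_smul, e]⟩
      obtain ⟨c, hc, -, -, e'⟩ := D.twin.exists_regular h hr hr1 hrt hp₀ hp₀' hpR hp e
      exact ⟨c, D.twin.C_mem_H h hc, e'⟩
    · obtain ⟨x, hx⟩ := (D.orbit_R h hgp hgp0).ge ⟨hall p hpR, hp⟩
      exact ⟨(x : X) * g, mul_mem (D.twin.R_mem_H h x.2) (h.P_le hgP), (mul_smul _ _ _).trans hx⟩
  obtain ⟨k, hk, rfl⟩ := key p hp
  obtain ⟨k', hk', rfl⟩ := key q hq
  exact ⟨k' * k⁻¹, mul_mem hk' (inv_mem hk), by rw [mul_smul, inv_smul_smul]⟩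

/-- The action is doubly transitive. -/
theorem two_trans {a b c d : X ⧸ H} (hab : a ≠ b) (hcd : c ≠ d) : ∃ g : X, g • a = c ∧ g • b = d := by
  have key : ∀ a b : X ⧸ H, a ≠ b → ∀ q : X ⧸ H, q ≠ base H → ∃ g : X, g • a = base H ∧ g • b = q := by
    intro a b hab q hq
    obtain ⟨x, hx⟩ := MulAction.exists_smul_eq X a (base H)
    obtain ⟨k, hk, hkb⟩ := D.base_trans h hcl (p := x • b)
      (fun e => hab (smul_left_cancel x (hx.trans e.symm))) hq
    exact ⟨k * x, by rw [mul_smul, hx, fix_base.mpr hk], by rw [mul_smul, hkb]⟩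
  obtain ⟨q, hq⟩ := h.toPt0.exists_ne_base
  obtain ⟨g, hga, hgb⟩ := key a b hab q hq
  obtain ⟨g', hgc, hgd⟩ := key c d hcd q hq
  exact ⟨g'⁻¹ * g, by rw [mul_smul, hga, ← hgc, inv_smul_smul], by rw [mul_smul, hgb, ← hgd, inv_smul_smul]⟩

/-- An element fixing all points but at most three, not all. -/
theorem exists_small : ∃ x : X, (∃ q : X ⧸ H, x • q ≠ q) ∧
    {q : X ⧸ H | x • q ≠ q}.ncard ≤ 3 := by
  obtain ⟨-, -, -, hall⟩ := hcl
  obtain ⟨r, hr, hr1, hrt⟩ := (QG.of_R h D.twin).exists_proper h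
  obtain ⟨r', hr', hr'1, hr't, hr'r, hr'rt⟩ := Twin.exists_other h D.twin D.twin.card r
  obtain ⟨k, hk, hkC, hkR, hkr⟩ := D.twin.trans r hr r' hr' hr1 hrt hr'1 hr't
  have hkN : k ∈ Subgroup.normalizer (R : Set X) := Comp.mem_normalizer_of_maps hkR
  have hkD : ∀ p ∈ lineOf H R, k • p ∈ lineOf H R := fun p hp x hx => by
    have := hp _ ((Subgroup.mem_normalizer_iff''.mp hkN x).mp hx)
    rwa [mul_smul, mul_smul, inv_smul_eq_iff] at this
  have hkL : ∀ p ∈ lineOf H C, k • p ∈ lineOf H C := fun p hp c hc => by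
    rw [← mul_smul, ← (hkC c hc).eq, mul_smul, hp c hc]
  obtain ⟨p₀, hp₀, hp₀'⟩ : ∃ p ∈ lineOf H R, p ≠ base H := by
    by_contra hno
    push Not at hno
    have h2 := Set.ncard_le_ncard (show lineOf H R ⊆ {base H} from fun x hx => hno x hx) (Set.toFinite _)
    rw [D.card_lineR h, Set.ncard_singleton] at h2
    omega
  have hk0 : k • base H = base H := fix_base.mpr hk
  have hkp0 : k • p₀ ≠ base H := fun e => hp₀' (smul_left_cancel k (e.trans hk0.symm))
  obtain ⟨c, hc, hcp⟩ : ∃ c ∈ C, c • p₀ = k • p₀ := by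
    by_cases e : k • p₀ = p₀
    · exact ⟨1, one_mem C, by rw [one_smul, e]⟩
    have h1 := hkD _ hp₀
    have h0 := hp₀
    rw [D.lineR_eq h hr hr1 hrt] at h0 h1
    obtain ⟨c, hc, -, -, e'⟩ := D.twin.exists_regular h hr hr1 hrt h0 hp₀' h1 hkp0 e
    exact ⟨c, hc, e'⟩
  have hck : ∀ p ∈ lineOf H R, c⁻¹ • k • p = p := by
    intro p hp
    by_cases hp0 : p = base H
    · rw [hp0, hk0, fix_base.mpr (inv_mem (D.twin.C_mem_H h hc))]
    rw [inv_smul_eq_iff]
    by_cases e : p = p₀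
    · rw [e, hcp]
    have h0 := hp₀
    rw [D.lineR_eq h hr hr1 hrt] at h0 hp
    obtain ⟨c', hc', -, -, rfl⟩ := D.twin.exists_regular h hr hr1 hrt h0 hp₀' hp hp0 e
    rw [← mul_smul, (hkC c' hc').eq, mul_smul, ← hcp, ← mul_smul, ← mul_smul]
    rcases (QG.of_C h D.twin).mod h hc hc' with e' | e'
    · rw [mul_inv_eq_iff_eq_mul.mp e']
    · rw [mul_inv_eq_iff_eq_mul.mp e', mul_assoc c', ← (h.central c).eq, ← mul_assoc]
      simp only [mul_smul, h.t_fix]
  obtain ⟨p₁, hp₁, hp₁'⟩ : ∃ p ∈ lineOf H C, p ≠ base H := by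
    by_contra hno
    push Not at hno
    have h2 := Set.ncard_le_ncard (show lineOf H C ⊆ {base H} from fun x hx => hno x hx) (Set.toFinite _)
    rw [D.card_lineC h, Set.ncard_singleton] at h2
    omega
  have hkp1 : k • p₁ ≠ base H := fun e => hp₁' (smul_left_cancel k (e.trans hk0.symm))
  obtain ⟨ρ, hρ⟩ := (D.orbit_R h hp₁ hp₁').ge ⟨hkL _ hp₁, hkp1⟩
  have hρ' : (ρ : X) • p₁ = k • p₁ := hρ
  have hcfix : ∀ q ∈ lineOf H C, c⁻¹ • q = q := fun q hq => hq _ (inv_mem hc)
  set x := (ρ : X)⁻¹ * c⁻¹ * k with hx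
  have hxR : ∀ p ∈ lineOf H R, x • p = p := fun p hp => by
    rw [hx, mul_smul, mul_smul, hck p hp, hp _ (inv_mem ρ.2)]
  have hx1 : x • p₁ = p₁ := by
    rw [hx, mul_smul, mul_smul, hcfix _ (hkL _ hp₁), ← hρ', inv_smul_smul]
  refine ⟨x, ⟨r • p₁, fun e => ?_⟩, ?_⟩
  · -- the classes differ
    have hrp : ∀ {z}, z ∈ R → z • p₁ ∈ lineOf H C := fun {z} hz c' hc' => by
      rw [← mul_smul, (D.twin.comm c' hc' z hz).eq, mul_smul, hp₁ c' hc']
    have e1 : k • r • p₁ = r' • k • p₁ := by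
      rw [← mul_smul, show k * r = k * r * k⁻¹ * k by group, mul_smul]
      rcases hkr with e | e <;> rw [e]
      rw [mul_smul, h.t_fix]
    rw [hx, mul_smul, mul_smul, hcfix _ (hkL _ (hrp hr)), e1, ← hρ', ← mul_smul, ← mul_smul] at e
    have hz : (ρ : X)⁻¹ * r' * ρ = r' ∨ (ρ : X)⁻¹ * r' * ρ = r' * t := by
      have := (QG.of_R h D.twin).mod h (inv_mem ρ.2) hr'
      rwa [inv_inv] at this
    have e2 : r' • p₁ = r • p₁ := by
      rw [← e]
      rcases hz with hz | hz <;> rw [hz]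
      rw [mul_smul, h.t_fix]
    have h3 : (r⁻¹ * r') • p₁ = p₁ := by rw [mul_smul, e2, inv_smul_smul]
    rcases D.free_R h (fun e' => hp₁' (D.line_inter h e' hp₁)) (mul_mem (inv_mem hr) hr') h3 with e' | e'
    · exact hr'r (inv_mul_eq_one.mp e').symm
    · exact hr'rt (eq_mul_of_inv_mul_eq e')
  · have hsub : {q : X ⧸ H | x • q ≠ q} ⊆ (lineOf H C \ {base H}) \ {p₁} := by
      intro q hq
      have hqR : q ∉ lineOf H R := fun e => hq (hxR q e)
      exact ⟨⟨hall q hqR, fun e => hqR (show q ∈ lineOf H R from (Set.mem_singleton_iff.mp e) ▸ D.base_lineR h)⟩,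
        fun e => hq ((Set.mem_singleton_iff.mp e).symm ▸ hx1)⟩
    refine (Set.ncard_le_ncard hsub (Set.toFinite _)).trans ?_
    rw [Set.ncard_sdiff_singleton_of_mem (show p₁ ∈ lineOf H C \ {base H} from ⟨hp₁, hp₁'⟩),
      Set.ncard_sdiff_singleton_of_mem (D.base_lineC h), D.card_lineC h]

/-- The induced group contains the alternating group. -/
theorem alt_le [Fintype (X ⧸ H)] [DecidableEq (X ⧸ H)] :
    alternatingGroup (X ⧸ H) ≤ (toPermHom X (X ⧸ H)).range := by
  classical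
  set G := (toPermHom X (X ⧸ H)).range
  have hmem : ∀ g : X, toPermHom X (X ⧸ H) g ∈ G := fun g => ⟨g, rfl⟩
  have hprim : IsPreprimitive G (X ⧸ H) :=
    isPreprimitive_of_is_two_pretransitive (is_two_pretransitive_iff.mpr fun {a b c d} hab hcd => by
      obtain ⟨g, e1, e2⟩ := D.two_trans h hcl hab hcd
      exact ⟨⟨_, hmem g⟩, e1, e2⟩)
  obtain ⟨x, ⟨q, hq⟩, hx3⟩ := D.exists_small h hcl
  set σ := toPermHom X (X ⧸ H) x with hσ
  have hσ1 : σ ≠ 1 := fun e => hq (Equiv.ext_iff.mp e q)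
  have hcard : σ.support.card ≤ 3 := by
    refine le_trans (le_of_eq ?_) hx3
    rw [← Set.ncard_coe_finset]
    congr 1
    ext q
    simp [σ]
  have h2 := Equiv.Perm.two_le_card_support_of_ne_one hσ1
  rcases (by omega : σ.support.card = 2 ∨ σ.support.card = 3) with e | e
  · rw [Equiv.Perm.subgroup_eq_top_of_isPreprimitive_of_isSwap_mem hprim σ
      (Equiv.Perm.card_support_eq_two.mp e) (hmem x)]
    exact le_top
  · exact Equiv.Perm.alternatingGroup_le_of_isPreprimitive_of_isThreeCycle_mem hprim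
      (card_support_eq_three_iff.mp e) (hmem x)

end Twins

end CfsgLib.CoreKill.Local
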