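import Cfsg.Agent.Lib.TwoTransOdd.Perms
import Cfsg.Agent.Lib.TwoTransOdd.Nine
import Cfsg.Agent.Lib.TwoTransOdd.Local

/-!
The nine points of an involution labelled so that a member becomes `(0 1)(2 3)(4 5)(6 7)`: a double cover of the
alternating group, in which these involutions lift to involutions and the double transpositions to elements of square
the kernel.

Blueprint: `blueprint/S3120.md`, B.
-/

set_option autoImplicit false
set_option linter.unusedSectionVars false
set_option linter.style.haveILetI false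

universe u v

namespace CfsgLib.TwoTransOdd

open MulAction Equiv
open CfsgLib.Bender.TwoClosed (IsInv)
open CfsgLib.CoreKill (inCent inCent_comm isInv_sub)
open CfsgLib.CoreKill.Local (base fix_base)
open Perms (tau)

/-- What is known at an involution whose lines are everything. -/
def NineAt {M : Type u} [Group M] [Finite M] {Ω : Type v} [MulAction M Ω] (w : M) (a : Ω) : Prop :=
  ∃ (P : Sylow 2 ↥(cen w)) (R C : Subgroup ↥(cen w)), CoreKill.Local.Pt (cenA w a) P (inCent w) ∧
    CoreKill.Local.Twins (cenA w a) P (inCent w) R C ∧ Cfsg.oddCore ↥(cen w) = ⊥ ∧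
    CoreKill.Local.Closed (cenA w a) R C

variable {M : Type u} [Group M] [Finite M] {Ω : Type v} [Finite Ω] [MulAction M Ω]

/-- A labelling of the nine points of `w`. -/
structure Lab (w : M) (a : Ω) (v : M) where
  φ : ↥(cen w) →* Perm (Fin 9)
  pt : Fin 9 → Ω
  inj : Function.Injective pt
  fix : ∀ c : Ω, w • c = c ↔ ∃ i, pt i = c
  smul : ∀ (x : ↥(cen w)) (i : Fin 9), (x : M) • pt i = pt (φ x i)
  pt8 : pt 8 = a
  alt : ∀ σ : Perm (Fin 9), Perm.sign σ = 1 → ∃ x, φ x = σ
  ker : ∀ x, φ x = 1 → (x : M) = 1 ∨ (x : M) = w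
  mem : v ∈ cen w
  img : φ ⟨v, mem⟩ = tau

namespace Act

variable (h : Act M Ω) {w : M} (hw : IsInv w) {a : Ω} (hwa : w • a = a)
include h hw hwa

theorem exists_lab (hN : NineAt w a) {v : M} (hv : IsInv v) (hvw : v ≠ w) (hvc : Commute v w) (hva : v • a = a) :
    Nonempty (Lab w a v) := by
  classical
  obtain ⟨P, R, C, hP, D, hO, hcl⟩ := hN
  set X := ↥(cen w)
  set H := cenA w a
  haveI : Fintype (X ⧸ H) := Fintype.ofFinite _
  have h9 : Fintype.card (X ⧸ H) = 9 := by rw [← Nat.card_eq_fintype_card]; exact D.card_nine hP hcl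
  let e₀ : X ⧸ H ≃ Fin 9 := (Fintype.equivFin _).trans (finCongr h9)
  set v' : X := ⟨v, mem_cen.mpr hvc⟩
  have hv' : IsInv v' := isInv_sub.mpr hv
  have hv't : v' ≠ inCent w := fun e => hvw (congrArg Subtype.val e)
  set π := e₀.permCongrHom (toPermHom X (X ⧸ H) v')
  have hπ : ∀ j, π j = e₀ (v' • e₀.symm j) := fun j => rfl
  have hv'0 : v' • base H = base H := fix_base.mpr hva
  obtain ⟨σ, hσ, hσ8⟩ := Perms.exists_conj_tau (π := π) (i := e₀ (base H))
    (by rw [← map_mul, ← map_mul, hv'.2, map_one, map_one]) fun j => by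
      rw [hπ]
      constructor
      · intro e
        have h1 : v' • e₀.symm j = e₀.symm j := by
          rw [← e₀.symm_apply_apply (v' • e₀.symm j), e]
        rw [← hP.toPt0.eq_of_fix hv' hv't h1 hv'0, e₀.apply_symm_apply]
      · rintro rfl; rw [e₀.symm_apply_apply, hv'0]
  let e : X ⧸ H ≃ Fin 9 := e₀.trans σ
  let φ : X →* Perm (Fin 9) := e.permCongrHom.toMonoidHom.comp (toPermHom X (X ⧸ H))
  have hφ : ∀ x i, φ x i = e (x • e.symm i) := fun x i => rfl
  refine ⟨{
    φ := φ
    pt := fun i => toPoint w a (e.symm i)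
    inj := (toPoint_injective w a).comp e.symm.injective
    fix := fun c => ⟨fun hc => ?_, ?_⟩
    smul := fun x i => ?_
    pt8 := ?_
    alt := fun τ hτ => ?_
    ker := fun x hx => ?_
    mem := mem_cen.mpr hvc
    img := ?_ }⟩
  · obtain ⟨q, hq⟩ := h.exists_toPoint hw hwa hc
    exact ⟨e q, by rw [e.symm_apply_apply, hq]⟩
  · rintro ⟨i, rfl⟩; exact h.toPoint_mem hw hwa _
  · rw [← toPoint_smul, hφ, e.symm_apply_apply]
  · rw [show e.symm 8 = base H by rw [e.symm_apply_eq]; exact hσ8.symm, toPoint_base]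
  · obtain ⟨x, hx⟩ := D.alt_le hP hcl (show e.symm.permCongr τ ∈ alternatingGroup (X ⧸ H) by
      rw [Perm.mem_alternatingGroup, Perm.sign_permCongr, hτ])
    refine ⟨x, Equiv.ext fun i => ?_⟩
    rw [hφ, show x • e.symm i = e.symm.permCongr τ (e.symm i) by rw [← hx]; rfl]
    simp [Equiv.permCongr_apply]
  · rcases D.kernel hP hO (Bender.Q.mem_normalCore_of_fix fun c => e.injective (by
      have := Equiv.ext_iff.mp hx (e c)
      rwa [hφ, e.symm_apply_apply] at this)) with e' | e'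
    · exact Or.inl (congrArg Subtype.val e')
    · exact Or.inr (congrArg Subtype.val e')
  · rw [← hσ]
    refine Equiv.ext fun i => ?_
    show e (v' • e.symm i) = σ (π (σ⁻¹ i))
    rw [hπ]; rfl

end Act

namespace Lab

variable {w : M} {a : Ω} {v : M} (L : Lab w a v)

theorem pt_mem (i : Fin 9) : w • L.pt i = L.pt i := (L.fix _).mpr ⟨i, rfl⟩

theorem smul_eq_iff (x : ↥(cen w)) (i j : Fin 9) : (x : M) • L.pt i = L.pt j ↔ L.φ x i = j := by
  rw [L.smul, L.inj.eq_iff]

theorem smul_a (x : ↥(cen w)) : (x : M) • a = a ↔ L.φ x 8 = 8 := by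
  rw [← L.smul_eq_iff, L.pt8]

theorem img_w : L.φ (inCent w) = 1 := Equiv.ext fun i =>
  L.inj (by rw [← L.smul]; exact L.pt_mem i)

variable (hw : IsInv w)
include hw

/-- The lifts of a conjugate of `tau` are involutions. -/
theorem lift_inv (hv : IsInv v) (hvw : v ≠ w) {σ : Perm (Fin 9)} (hσ : Perm.sign σ = 1) {x : ↥(cen w)}
    (hx : L.φ x = σ * tau * σ⁻¹) : IsInv (x : M) ∧ (x : M) ≠ w := by
  obtain ⟨g, hg⟩ := L.alt σ hσ
  set v' : ↥(cen w) := ⟨v, L.mem⟩
  have h1 : L.φ (x * (g * v' * g⁻¹)⁻¹) = 1 := by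
    rw [map_mul, map_inv, map_mul, map_mul, map_inv, hg, L.img, hx, mul_inv_cancel]
  have hc : Commute ((g : M) * v * (g : M)⁻¹) w :=
    mem_cen.mp (g * v' * g⁻¹).2
  have hne : (g : M) * v * (g : M)⁻¹ ≠ w := fun e => hvw (by
    rw [show v = (g : M)⁻¹ * ((g : M) * v * (g : M)⁻¹) * g by group, e, mul_assoc, ← (mem_cen.mp g.2).eq,
      inv_mul_cancel_left])
  rcases L.ker _ h1 with e | e
  · have e' : (x : M) = (g : M) * v * (g : M)⁻¹ := mul_inv_eq_one.mp e
    rw [e']
    exact ⟨hv.conj _, hne⟩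
  · have e' : (x : M) = w * ((g : M) * v * (g : M)⁻¹) := mul_inv_eq_iff_eq_mul.mp e
    rw [e']
    refine ⟨⟨fun e1 => hne ?_, ?_⟩, fun e1 => (hv.conj (g : M)).1 (mul_eq_left.mp e1)⟩
    · exact (eq_inv_of_mul_eq_one_right e1).trans hw.inv
    · rw [hc.mul_mul_mul_comm, hw.2, (hv.conj (g : M)).2, one_mul]

variable (h : Act M Ω)
include h

/-- An element with a double transposition as image has square `w`. -/
theorem sq_double {x : ↥(cen w)} {i j : Fin 9} (hij : i ≠ j) (hi : L.φ x i = i) (hj : L.φ x j = j)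
    (h1 : L.φ x ≠ 1) (h2 : L.φ x * L.φ x = 1) : (x : M) * x = w := by
  refine (L.ker (x * x) (by rw [map_mul, h2])).resolve_left fun e => hij ?_
  have hxne : (x : M) ≠ w := fun e => h1 (by rw [show x = inCent w from Subtype.ext e, L.img_w])
  have hxi : IsInv (x : M) := ⟨fun e => h1 (by rw [show x = 1 from Subtype.ext e, map_one]), e⟩
  by_contra hne
  exact hxne (h.unique _ _ hxi hw (mem_cen.mp x.2) (L.pt i) (L.pt j) (fun e => hne (L.inj e))
    ((L.smul_eq_iff x i i).mpr hi) ((L.smul_eq_iff x j j).mpr hj) (L.pt_mem i) (L.pt_mem j))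

end Lab

end CfsgLib.TwoTransOdd
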