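import Cfsg.Agent.Lib.TwoTransOdd.Cover

/-!
Twenty five points do not occur: `H` would be transitive on the points off the base and an element of square `t` of a
conjugate of `R` in the Sylow subgroup would fix six points, or commute with two members of different classes.

Blueprint: `blueprint/S3120.md`, B.
-/

set_option autoImplicit false
set_option linter.unusedSectionVars false
set_option linter.style.haveILetI false

universe u

namespace CfsgLib.CoreKill.Local

open Cfsg MulAction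
open CfsgLib.Bender.TwoClosed (IsInv)
open CfsgLib.Bender.Assembly (fix_iff)

variable {X : Type u} [Group X] [Finite X] {H : Subgroup X} {P : Sylow 2 X} {t : X} {R C : Subgroup X}

/-- The translates of the line of `C` at different points are apart. -/
def Grid (H : Subgroup X) (t : X) (R C : Subgroup X) : Prop :=
  ∀ r ∈ R, r ≠ 1 → r ≠ t → ∀ n ∈ Subgroup.normalizer (Subgroup.zpowers r : Set X),
    ∀ p ∈ lineOf H C \ {base H}, n • p ∈ lineOf H C \ {base H} → n ∈ H

/-- The points off both lines. -/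
def rest (H : Subgroup X) (R C : Subgroup X) : Set (X ⧸ H) := (lineOf H R ∪ lineOf H C)ᶜ

namespace Twins

variable (h : Pt H P t) (D : Twins H P t R C) (hO : oddCore X = ⊥) (G : Grid H t R C)

include h D

omit G in
/-- `P` keeps the rest. -/
theorem rest_move {k : X} (hk : k ∈ (P : Subgroup X)) {p : X ⧸ H} (hp : p ∈ rest H R C) : k • p ∈ rest H R C := by
  have key : ∀ {A B : Subgroup X}, (∀ x, x ∈ A → k * x * k⁻¹ ∈ B) → k • p ∈ lineOf H B → p ∈ lineOf H A :=
    fun {A B} hAB hkp x hx => by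
      have h1 := hkp _ (hAB x hx)
      rwa [mul_smul, mul_smul, inv_smul_smul, smul_left_cancel_iff] at h1
  rintro (hR | hC) <;> rcases D.perm k hk with e | e
  · exact hp (Or.inl (key (fun x => (e x).1.mp) hR))
  · exact hp (Or.inr (key (fun x => (e x).2.mp) hR))
  · exact hp (Or.inr (key (fun x => (e x).2.mp) hC))
  · exact hp (Or.inl (key (fun x => (e x).1.mp) hC))

omit G in
theorem rest_base {p : X ⧸ H} (hp : p ∈ rest H R C) : p ≠ base H := fun e => hp (Or.inl (e ▸ D.base_lineR h))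

include G

/-- A point of the rest is on the translate at a point of the line, with which it is fixed. -/
theorem exists_foot {r : X} (hr : r ∈ R) (hr1 : r ≠ 1) (hrt : r ≠ t) {b : X ⧸ H} (hb : b ∈ rest H R C) :
    ∃ n ∈ Subgroup.normalizer (Subgroup.zpowers r : Set X), n⁻¹ • b ∈ lineOf H C \ {base H} ∧
      n • base H ∈ lineOf H R ∧ (∀ x ∈ Subgroup.normalizer (Subgroup.zpowers r : Set X), x • b = b →
        x • n • base H = n • base H) := by
  obtain ⟨n, hn, hnb⟩ := D.exists_cover h hr hr1 hrt (fun e => hb (Or.inl e))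
  refine ⟨n, hn, hnb, (D.line_N h hr hr1 hrt hn).mp (D.base_lineR h), fun x hx hxb => ?_⟩
  have h1 := G r hr hr1 hrt (n⁻¹ * x * n) (mul_mem (mul_mem (inv_mem hn) hx) hn) _ hnb (by
    rw [mul_smul, mul_smul, smul_inv_smul, hxb]; exact hnb)
  have h2 := fix_base.mpr h1
  rwa [mul_smul, mul_smul, inv_smul_eq_iff] at h2

include hO

theorem foot_ne {r : X} (hr : r ∈ R) (hr1 : r ≠ 1) (hrt : r ≠ t) {b : X ⧸ H} (hb : b ∈ rest H R C) {n : X}
    (hn : n ∈ Subgroup.normalizer (Subgroup.zpowers r : Set X)) (hnb : n⁻¹ • b ∈ lineOf H C \ {base H}) :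
    n • base H ≠ base H := fun e => hb (Or.inr (by
  have := D.base_lineC_move h hO hr hr1 hrt hn (fix_base.mp e) hnb.1
  rwa [smul_inv_smul] at this))

/-- `R C` is regular modulo `t` on the rest. -/
theorem rest_free {b : X ⧸ H} (hb : b ∈ rest H R C) {ρ c : X} (hρ : ρ ∈ R) (hc : c ∈ C) (e : ρ • c • b = b) :
    (ρ = 1 ∨ ρ = t) ∧ (c = 1 ∨ c = t) := by
  obtain ⟨r, hr, hr1, hrt⟩ := (QG.of_R h D.twin).exists_proper h
  obtain ⟨n, hn, hnb, hd, hfix⟩ := D.exists_foot h G hr hr1 hrt hb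
  have hxb : (ρ * c) • b = b := by rw [mul_smul, e]
  have h1 := hfix _ (mul_mem (D.R_le_N h hr hr1 hrt hρ) (D.C_le_N h hr hr1 hrt hc)) hxb
  rw [mul_smul] at h1
  have hcd : c • n • base H ∈ lineOf H R := (D.line_N h hr hr1 hrt (D.C_le_N h hr hr1 hrt hc)).mp hd
  rw [hcd ρ hρ] at h1
  have hc' : c = 1 ∨ c = t := D.free_C h (fun e' => D.foot_ne h hO G hr hr1 hrt hb hn hnb (D.line_inter h hd e')) hc h1
  refine ⟨D.free_R h (fun e' => hb (Or.inl e')) hρ ?_, hc'⟩
  rcases hc' with rfl | rfl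
  · rwa [one_smul] at e
  · rwa [h.t_fix] at e

/-- `R C` is transitive on the rest. -/
theorem rest_trans {b b' : X ⧸ H} (hb : b ∈ rest H R C) (hb' : b' ∈ rest H R C) :
    ∃ ρ ∈ R, ∃ c ∈ C, b' = c • ρ • b := by
  obtain ⟨r, hr, hr1, hrt⟩ := (QG.of_R h D.twin).exists_proper h
  obtain ⟨n, hn, hnb, hd, -⟩ := D.exists_foot h G hr hr1 hrt hb
  obtain ⟨m, hm, hmb, hd', -⟩ := D.exists_foot h G hr hr1 hrt hb'
  have hne := D.foot_ne h hO G hr hr1 hrt hb hn hnb
  have hne' := D.foot_ne h hO G hr hr1 hrt hb' hm hmb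
  obtain ⟨c, hc, hcd⟩ : ∃ c ∈ C, c • n • base H = m • base H := by
    by_cases e : m • base H = n • base H
    · exact ⟨1, one_mem C, by rw [one_smul, e]⟩
    rw [D.lineR_eq h hr hr1 hrt] at hd hd'
    obtain ⟨c, hc, -, -, e'⟩ := D.twin.exists_regular h hr hr1 hrt hd hne hd' hne' e
    exact ⟨c, hc, e'⟩
  have hcN := D.C_le_N h hr hr1 hrt hc
  have hx : n⁻¹ * c⁻¹ * m ∈ H := fix_base.mp (by rw [mul_smul, mul_smul, ← hcd, inv_smul_smul, inv_smul_smul])
  have hxN := mul_mem (mul_mem (inv_mem hn) (inv_mem hcN)) hm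
  have h1 := D.base_lineC_move h hO hr hr1 hrt hxN hx hmb.1
  have h2 : (n⁻¹ * c⁻¹ * m) • m⁻¹ • b' ≠ base H := fun e => hmb.2 (smul_left_cancel (n⁻¹ * c⁻¹ * m)
    (e.trans (fix_base.mpr hx).symm))
  obtain ⟨ρ, hρ⟩ := (D.orbit_R h hnb.1 hnb.2).ge ⟨h1, h2⟩
  have hρ' : (ρ : X) • n⁻¹ • b = (n⁻¹ * c⁻¹ * m) • m⁻¹ • b' := hρ
  refine ⟨_, D.N_normal h hO hr hr1 hrt hn ρ.2, c, hc, ?_⟩
  rw [mul_smul, mul_smul, hρ', mul_smul, mul_smul, smul_inv_smul, smul_inv_smul, smul_inv_smul]

theorem rest_orbit {b : X ⧸ H} (hb : b ∈ rest H R C) :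
    orbit ↥(P : Subgroup X) b = rest H R C ∧ (rest H R C).ncard = 16 := by
  have hcomm : ∀ (x : ↥R) (y : ↥C), Commute (R.subtype x) (C.subtype y) := fun x y => (D.twin.comm y y.2 x x.2).symm
  let φ : ↥R × ↥C →* X := MonoidHom.noncommCoprod R.subtype C.subtype hcomm
  letI := MulAction.compHom (X ⧸ H) φ
  have hsm : ∀ (g : ↥R × ↥C), g • b = (g.1 : X) • (g.2 : X) • b := fun g => by
    rw [← mul_smul]; rfl
  have hP : ∀ (g : ↥R × ↥C), (g.1 : X) • (g.2 : X) • b ∈ rest H R C := fun g =>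
    D.rest_move h (D.twin.R_le g.1.2) (D.rest_move h (D.twin.C_le g.2.2) hb)
  have horb : orbit (↥R × ↥C) b = rest H R C := by
    refine Set.Subset.antisymm (by rintro _ ⟨g, rfl⟩; show g • b ∈ _; rw [hsm]; exact hP g) fun b' hb' => ?_
    obtain ⟨ρ, hρ, c, hc, rfl⟩ := D.rest_trans h hO G hb hb'
    refine ⟨(⟨ρ, hρ⟩, ⟨c, hc⟩), ?_⟩
    show ((⟨ρ, hρ⟩, ⟨c, hc⟩) : ↥R × ↥C) • b = _
    rw [hsm, ← mul_smul, ← (D.twin.comm c hc ρ hρ).eq, mul_smul]
  refine ⟨Set.Subset.antisymm (by rintro _ ⟨k, rfl⟩; exact D.rest_move h k.2 hb) fun b' hb' => ?_, ?_⟩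
  · obtain ⟨ρ, hρ, c, hc, rfl⟩ := D.rest_trans h hO G hb hb'
    exact ⟨⟨c * ρ, mul_mem (D.twin.C_le hc) (D.twin.R_le hρ)⟩, mul_smul c ρ b⟩
  · have h4 : Nat.card (stabilizer (↥R × ↥C) b) = 4 := by
      have htC := (QG.of_C h D.twin).t_mem
      let f : Bool × Bool → stabilizer (↥R × ↥C) b := fun i =>
        ⟨(if i.1 then ⟨t, D.twin.t_mem⟩ else 1, if i.2 then ⟨t, htC⟩ else 1), by
          rw [mem_stabilizer_iff, hsm]
          cases i.1 <;> cases i.2 <;> simp [h.t_fix]⟩
      rw [← show Nat.card (Bool × Bool) = 4 by simp]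
      refine (Nat.card_congr (Equiv.ofBijective f ⟨fun i j e => ?_, fun x => ?_⟩)).symm
      · have e' := congrArg (fun z : stabilizer (↥R × ↥C) b => ((z.1.1 : X), (z.1.2 : X))) e
        rcases i with ⟨_ | _, _ | _⟩ <;> rcases j with ⟨_ | _, _ | _⟩ <;>
          simp [f, h.inv.1, h.inv.1.symm] at e' ⊢
      · have hx := x.2
        rw [mem_stabilizer_iff, hsm] at hx
        obtain ⟨e1, e2⟩ := D.rest_free h hO G hb x.1.1.2 x.1.2.2 hx
        rcases e1 with e1 | e1 <;> rcases e2 with e2 | e2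
        · exact ⟨(false, false), Subtype.ext (Prod.ext (Subtype.ext (by simp [f, e1])) (Subtype.ext (by simp [f, e2])))⟩
        · exact ⟨(false, true), Subtype.ext (Prod.ext (Subtype.ext (by simp [f, e1])) (Subtype.ext (by simp [f, e2])))⟩
        · exact ⟨(true, false), Subtype.ext (Prod.ext (Subtype.ext (by simp [f, e1])) (Subtype.ext (by simp [f, e2])))⟩
        · exact ⟨(true, true), Subtype.ext (Prod.ext (Subtype.ext (by simp [f, e1])) (Subtype.ext (by simp [f, e2])))⟩
    have h2 := Subgroup.card_mul_index (stabilizer (↥R × ↥C) b)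
    rw [h4, index_stabilizer, horb, Nat.card_prod, D.twin.card, (QG.of_C h D.twin).card] at h2
    omega

variable (horb : ∀ p q : X ⧸ H, p ≠ base H → q ≠ base H → Nat.card (orbit ↥H p) = Nat.card (orbit ↥H q))
include horb

/-- `H` is transitive off the base. -/
theorem rest_H {b p : X ⧸ H} (hb : b ∈ rest H R C) (hp : p ≠ base H) : p ∈ orbit ↥H b := by
  by_contra hpb
  have hsub : rest H R C ⊆ orbit ↥H b := fun b' hb' => by
    obtain ⟨k, hk⟩ := (D.rest_orbit h hO G hb).1.ge hb'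
    exact ⟨⟨k, h.P_le k.2⟩, hk⟩
  have hdis : orbit ↥H p ⊆ lineOf H R ∪ lineOf H C := fun q hq => by
    by_contra hq'
    exact hpb (by
      rw [← (orbit_eq_iff.mpr (hsub hq')), orbit_eq_iff.mpr hq]
      exact mem_orbit_self p)
  have h1 := Set.ncard_le_ncard hdis (Set.toFinite _)
  have h2 := Set.ncard_le_ncard hsub (Set.toFinite _)
  have h3 := Set.ncard_union_le (lineOf H R) (lineOf H C)
  rw [← Nat.card_coe_set_eq (orbit ↥H p), horb p b hp (D.rest_base h hb), Nat.card_coe_set_eq] at h1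
  rw [(D.rest_orbit h hO G hb).2] at h2
  rw [D.card_lineR h, D.card_lineC h] at h3
  omega

/-- There are twenty four points off the base. -/
theorem orbit_H {b : X ⧸ H} (hb : b ∈ rest H R C) : (orbit ↥H b).ncard = 24 := by
  have e : orbit ↥H b = rest H R C ∪ ((lineOf H R ∪ lineOf H C) \ {base H}) := by
    ext q
    constructor
    · intro hq
      by_cases hq' : q ∈ rest H R C
      · exact Or.inl hq'
      · refine Or.inr ⟨not_not.mp hq', fun e => D.rest_base h hb ?_⟩
        obtain ⟨k, hk⟩ := hq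
        have e' : (k : X) • b = base H := hk.trans e
        exact smul_left_cancel (k : X) (e'.trans (fix_base.mpr k.2).symm)
    · intro hq
      refine D.rest_H h hO G horb hb ?_
      rcases hq with hq | hq
      exacts [D.rest_base h hq, hq.2]
  have h1 : lineOf H R ∩ lineOf H C = {base H} :=
    Set.Subset.antisymm (fun q hq => D.line_inter h hq.1 hq.2)
      (Set.singleton_subset_iff.mpr ⟨D.base_lineR h, D.base_lineC h⟩)
  have h2 := Set.ncard_union_add_ncard_inter (lineOf H R) (lineOf H C)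
  rw [h1, Set.ncard_singleton, D.card_lineR h, D.card_lineC h] at h2
  rw [e, Set.ncard_union_eq (Set.disjoint_left.mpr fun q (hq : q ∈ rest H R C) hq' => hq hq'.1), (D.rest_orbit h hO G hb).2,
    Set.ncard_sdiff_singleton_of_mem (s := lineOf H R ∪ lineOf H C) (Or.inl (D.base_lineR h))]
  omega

/-- An element of square `t` of `P` fixing a point of the rest and lying in a conjugate of `R`. -/
theorem exists_fixer {b : X ⧸ H} (hb : b ∈ rest H R C) :
    ∃ y ∈ (P : Subgroup X), y • b = b ∧ ∃ k ∈ H, ∃ r ∈ R, r ≠ 1 ∧ r ≠ t ∧ k * r * k⁻¹ = y := by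
  classical
  haveI := Fact.mk Nat.prime_two
  set Hb : Subgroup X := H ⊓ stabilizer X b with hHb
  set Pb : Subgroup X := (P : Subgroup X) ⊓ stabilizer X b with hPb
  have hidx : ∀ (K : Subgroup X), Nat.card (stabilizer ↥K b) = Nat.card ↥(K ⊓ stabilizer X b) := fun K =>
    Nat.card_congr ⟨fun x => ⟨x.1.1, x.1.2, x.2⟩, fun x => ⟨⟨x.1, x.2.1⟩, x.2.2⟩, fun _ => rfl, fun _ => rfl⟩
  have hHc : Nat.card H = 24 * Nat.card Hb := by
    have := Subgroup.card_mul_index (stabilizer ↥H b)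
    rw [index_stabilizer, D.orbit_H h hO G horb hb, hidx] at this
    rw [← this, mul_comm]
  have hPc : Nat.card ↥(P : Subgroup X) = 16 * Nat.card Pb := by
    have := Subgroup.card_mul_index (stabilizer ↥(P : Subgroup X) b)
    rw [index_stabilizer, (D.rest_orbit h hO G hb).1, (D.rest_orbit h hO G hb).2, hidx] at this
    rw [← this, mul_comm]
  have hPle : Pb ≤ Hb := inf_le_inf_right _ h.P_le
  obtain ⟨U, hU⟩ := ((P.isPGroup'.to_le inf_le_left : IsPGroup 2 Pb).comap_subtype (K := Hb)).exists_le_sylow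
  have hPH : Nat.card ↥(P : Subgroup X) = 2 ^ (Nat.card H).factorization 2 := by
    rw [← (P.subtype h.P_le).card_eq_multiplicity]
    exact (Nat.card_congr (Subgroup.subgroupOfEquivOfLe h.P_le).toEquiv).symm
  have hU2 : Nat.card ↥(U : Subgroup ↥Hb) = 2 * Nat.card Pb := by
    have e1 : (Nat.card H).factorization 2 = 3 + (Nat.card Hb).factorization 2 := by
      rw [hHc, Nat.factorization_mul (by norm_num) Nat.card_pos.ne', Finsupp.add_apply,
        show (24 : ℕ) = 2 ^ 3 * 3 by norm_num, Nat.factorization_mul (by norm_num) (by norm_num),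
        Finsupp.add_apply, Nat.Prime.factorization_pow Nat.prime_two, Finsupp.single_eq_same,
        Nat.factorization_eq_zero_of_not_dvd (show ¬ (2 : ℕ) ∣ 3 by norm_num), add_zero]
    rw [hPH, e1, pow_add, ← U.card_eq_multiplicity] at hPc
    omega
  -- a conjugate of `R` at the point
  obtain ⟨q, hq, hq0⟩ : ∃ q ∈ lineOf H R, q ≠ base H := by
    by_contra hall
    push Not at hall
    have h2 := Set.ncard_le_ncard (show lineOf H R ⊆ {base H} from fun p hp => hall p hp) (Set.toFinite _)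
    rw [D.card_lineR h, Set.ncard_singleton] at h2
    omega
  obtain ⟨g, hg⟩ := orbit_eq_iff.mpr (D.rest_H h hO G horb hb hq0) |>.ge (mem_orbit_self b)
  have hg' : (g : X) • q = b := hg
  set R' : Subgroup X := R.map (MulAut.conj (g : X)).toMonoidHom with hR'
  have hR'b : R' ≤ Hb := by
    rintro _ ⟨x, hx, rfl⟩
    refine ⟨H.mul_mem (H.mul_mem g.2 (D.twin.R_mem_H h hx)) (H.inv_mem g.2), ?_⟩
    show ((g : X) * x * (g : X)⁻¹) • b = b
    rw [← hg', mul_smul, mul_smul, inv_smul_smul, hq x hx]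
  have hR'2 : IsPGroup 2 R' := (P.isPGroup'.to_le D.twin.R_le).map _
  obtain ⟨c, -, hc⟩ := Bender.Q.exists_conj_sylow (S := U) le_top (hR'2.comap_subtype (K := Hb)) le_top
  set A : Subgroup ↥Hb := (R'.subgroupOf Hb).map (MulAut.conj c).toMonoidHom with hA
  have hAU : A ≤ U := by rintro _ ⟨x, hx, rfl⟩; exact hc x hx
  have hA8 : Nat.card A = 8 := by
    rw [hA, Subgroup.card_map_of_injective (MulAut.conj c).injective,
      Nat.card_congr (Subgroup.subgroupOfEquivOfLe hR'b).toEquiv, hR',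
      Subgroup.card_map_of_injective (MulAut.conj (g : X)).injective, D.twin.card]
  set B : Subgroup ↥Hb := Pb.subgroupOf Hb with hB
  have hBU : B ≤ U := hU
  have hBc : Nat.card B = Nat.card Pb := Nat.card_congr (Subgroup.subgroupOfEquivOfLe hPle).toEquiv
  have h4 : 4 ≤ Nat.card ↥(A ⊓ B : Subgroup ↥Hb) := by
    have h1 := Subgroup.relIndex_inf_mul_relIndex A B (U : Subgroup ↥Hb)
    have h2 : B.relIndex (U : Subgroup ↥Hb) = 2 := by
      have := Subgroup.card_mul_index (B.subgroupOf (U : Subgroup ↥Hb))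
      rw [Nat.card_congr (Subgroup.subgroupOfEquivOfLe hBU).toEquiv, hBc, hU2] at this
      have h0 : 0 < Nat.card Pb := Nat.card_pos
      rw [Subgroup.relIndex]
      exact Nat.eq_of_mul_eq_mul_left h0 (by rw [this, mul_comm])
    have h3 : B.relIndex A ≤ 2 := h2 ▸ Subgroup.relIndex_le_of_le_right hAU (by rw [h2]; norm_num)
    have h5 := Subgroup.card_mul_index (B.subgroupOf A)
    rw [show (B.subgroupOf A).index = B.relIndex A from rfl, hA8] at h5
    have h6 : Nat.card (B.subgroupOf A) = Nat.card ↥(A ⊓ B : Subgroup ↥Hb) := by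
      rw [inf_comm, ← Subgroup.inf_subgroupOf_right]
      exact Nat.card_congr (Subgroup.subgroupOfEquivOfLe inf_le_right).toEquiv
    rw [← h6]
    nlinarith
  obtain ⟨z, hz, hz'⟩ : ∃ z ∈ A ⊓ B, (z : X) ≠ 1 ∧ (z : X) ≠ t := by
    by_contra hno
    push Not at hno
    have hsub : Subtype.val '' ((A ⊓ B : Subgroup ↥Hb) : Set ↥Hb) ⊆ {1, t} := by
      rintro _ ⟨z, hz, rfl⟩
      by_cases e : (z : X) = 1
      · exact Or.inl e
      · exact Or.inr (hno z hz e)
    have h2 := Set.ncard_le_ncard hsub (Set.toFinite _)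
    rw [Set.ncard_image_of_injective _ Subtype.val_injective, ← Nat.card_coe_set_eq] at h2
    have h3 : Set.ncard ({1, t} : Set X) ≤ 2 := (Set.ncard_insert_le _ _).trans (by rw [Set.ncard_singleton])
    have h5 : Nat.card ((A ⊓ B : Subgroup ↥Hb) : Set ↥Hb) = Nat.card ↥(A ⊓ B : Subgroup ↥Hb) := rfl
    omega
  obtain ⟨⟨w, hw, hwz⟩, hzB⟩ := hz
  obtain ⟨x, hx, hxw⟩ := hw
  have hzP : (z : X) ∈ Pb := hzB
  have hze : (c : X) * ((g : X) * x * (g : X)⁻¹) * (c : X)⁻¹ = z := by
    rw [← hwz, show (g : X) * x * (g : X)⁻¹ = (w : X) from hxw]; rfl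
  refine ⟨z, hzP.1, hzP.2, (c : X) * g, mul_mem c.2.1 g.2, x, hx, fun e => hz'.1 ?_, fun e => hz'.2 ?_, ?_⟩
  · rw [← hze, e]; group
  · rw [← hze, e, (h.central _).eq, mul_inv_cancel_right, (h.central _).eq, mul_inv_cancel_right]
  · rw [← hze]; group

/-- Twenty five points do not occur. -/
theorem no_grid {b : X ⧸ H} (hb : b ∈ rest H R C) : False := by
  obtain ⟨y, hyP, hyb, k, hk, ρ, hρ, hρ1, hρt, hky⟩ := D.exists_fixer h hO G horb hb
  have qR := QG.of_R h D.twin
  have qC := QG.of_C h D.twin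
  have hy2 : y * y = t := by
    rw [← hky, show k * ρ * k⁻¹ * (k * ρ * k⁻¹) = k * (ρ * ρ) * k⁻¹ by group, qR.sq ρ hρ hρ1 hρt, (h.central k).eq,
      mul_inv_cancel_right]
  rcases D.perm y hyP with e | e
  · -- six fixed points
    obtain ⟨r, hr, hr1, hrt, hyr⟩ := qR.exists_fixed_class h hy2 fun x => (e x).1.mp
    obtain ⟨c, hc, hc1, hct, hyc⟩ := qC.exists_fixed_class h hy2 fun x => (e x).2.mp
    obtain ⟨n, hn, hnb, hd, hfix⟩ := D.exists_foot h G hr hr1 hrt hb
    have hd0 := D.foot_ne h hO G hr hr1 hrt hb hn hnb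
    have hyd := hfix y (h.mem_normalizer (qR.sq r hr hr1 hrt) hyr) hyb
    have hcl : ∀ {z : X} (p : X ⧸ H), y * z * y⁻¹ = z ∨ y * z * y⁻¹ = z * t → y • p = p → y • z • p = z • p :=
      fun {z} p hz hp => by
        rw [← mul_smul, show y * z = y * z * y⁻¹ * y by group, mul_smul, hp]
        rcases hz with hz | hz <;> rw [hz]
        rw [mul_smul, h.t_fix]
    have hcr : (r : X) • c • b ∈ rest H R C := D.rest_move h (D.twin.R_le hr) (D.rest_move h (D.twin.C_le hc) hb)
    have hrb : r • b ∈ rest H R C := D.rest_move h (D.twin.R_le hr) hb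
    have hcb : c • b ∈ rest H R C := D.rest_move h (D.twin.C_le hc) hb
    have hsub : ({base H, n • base H, b, r • b, c • b, r • c • b} : Set (X ⧸ H)) ⊆ fixSet H y := by
      rintro p (rfl | rfl | rfl | rfl | rfl | rfl)
      exacts [fix_base.mpr (h.P_le hyP), hyd, hyb, hcl b hyr hyb, hcl b hyc hyb, hcl _ hyr (hcl b hyc hyb)]
    have hfree := fun {ρ γ : X} (hρ : ρ ∈ R) (hγ : γ ∈ C) => D.rest_free h hO G hb hρ hγ
    have h5 : (fixSet H y).ncard = 5 := by
      have hy' : fixSet H y = (k • ·) '' fixSet H ρ := by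
        rw [← hky]
        ext p
        rw [fixSet_conj]
        exact ⟨fun hp => ⟨_, hp, smul_inv_smul k p⟩, by rintro ⟨q, hq, rfl⟩; rwa [inv_smul_smul]⟩
      rw [hy', Set.ncard_image_of_injective _ (MulAction.injective k), D.twin.card_fix h hρ hρ1 hρt]
    have hrne : r • b ≠ b := fun e' => (D.free_R h (fun e'' => hb (Or.inl e'')) hr e').elim hr1 hrt
    have hcne : c • b ≠ b := fun e' => (D.free_C h (fun e'' => hb (Or.inr e'')) hc e').elim hc1 hct
    have hrc : r • b ≠ c • b := fun e' => by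
      refine ((hfree (inv_mem hr) hc ?_).1).elim (fun e'' => hr1 (inv_eq_one.mp e''))
        fun e'' => hrt (by rw [← inv_inv r, e'', h.inv.inv])
      rw [← e', inv_smul_smul]
    have hrcne : r • c • b ≠ b := fun e' => (hfree hr hc e').1.elim hr1 hrt
    have hrcr : r • c • b ≠ r • b := fun e' => hcne (smul_left_cancel r e')
    have hrcc : r • c • b ≠ c • b := fun e' =>
      (D.free_R h (fun e'' => hcb (Or.inl e'')) hr e').elim hr1 hrt
    have hnl : ∀ {p : X ⧸ H}, p ∈ rest H R C → p ≠ n • base H := fun hp e' => hp (Or.inl (e' ▸ hd))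
    have h6 : ({base H, n • base H, b, r • b, c • b, r • c • b} : Set (X ⧸ H)).ncard = 6 := by
      rw [Set.ncard_insert_of_notMem (by
          simp only [Set.mem_insert_iff, Set.mem_singleton_iff, not_or]
          exact ⟨hd0.symm, (D.rest_base h hb).symm, (D.rest_base h hrb).symm, (D.rest_base h hcb).symm,
            (D.rest_base h hcr).symm⟩) (Set.toFinite _),
        Set.ncard_insert_of_notMem (by
          simp only [Set.mem_insert_iff, Set.mem_singleton_iff, not_or]
          exact ⟨(hnl hb).symm, (hnl hrb).symm, (hnl hcb).symm, (hnl hcr).symm⟩) (Set.toFinite _),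
        Set.ncard_insert_of_notMem (by
          simp only [Set.mem_insert_iff, Set.mem_singleton_iff, not_or]
          exact ⟨hrne.symm, hcne.symm, hrcne.symm⟩) (Set.toFinite _),
        Set.ncard_insert_of_notMem (by
          simp only [Set.mem_insert_iff, Set.mem_singleton_iff, not_or]
          exact ⟨hrc, hrcr.symm⟩) (Set.toFinite _),
        Set.ncard_pair hrcc.symm]
    have := Set.ncard_le_ncard hsub (Set.toFinite _)
    omega
  · -- commuting members at `ρ`
    obtain ⟨r, hr, hr1, hrt⟩ := qR.exists_proper h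
    obtain ⟨r', hr', hr'1, hr't, hr'r, hr'rt⟩ := Twin.exists_other h D.twin D.twin.card r
    have hC : ∀ {x}, x ∈ R → x ≠ 1 → x ≠ t → y * x * y⁻¹ ∈ C ∧ y * x * y⁻¹ ≠ 1 ∧ y * x * y⁻¹ ≠ t := fun {x} hx h1 h2 =>
      ⟨(e x).1.mp hx, fun e' => h1 (conj_eq_one_iff.mp e'), h.toPt0.ne_conj h2 y⟩
    set u : X → X := fun x => k⁻¹ * (x * (y * x * y⁻¹)) * k with hu
    have hdata : ∀ {x}, x ∈ R → x ≠ 1 → x ≠ t → Commute (u x) ρ ∧ ∃ γ ∈ C, γ ≠ 1 ∧ γ ≠ t ∧ u x = γ * ρ := by
      intro x hx hx1 hxt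
      obtain ⟨hcC, hc1, hct⟩ := hC hx hx1 hxt
      set c := y * x * y⁻¹ with hc
      have hyc : y * c * y⁻¹ = x := by
        rw [hc, show y * (y * x * y⁻¹) * y⁻¹ = (y * y) * x * (y * y)⁻¹ by group, hy2, ← (h.central x).eq,
          mul_inv_cancel_right]
      have hxc := D.twin.comm c hcC x hx
      have hvy : y * (x * c) * y⁻¹ = x * c := by
        rw [show y * (x * c) * y⁻¹ = y * x * y⁻¹ * (y * c * y⁻¹) by group, hyc, ← hc, hxc.eq]
      have hvi : IsInv (x * c) := by
        refine ⟨fun e' => ?_, by rw [hxc.mul_mul_mul_comm, qR.sq x hx hx1 hxt, qC.sq c hcC hc1 hct, h.inv.2]⟩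
        exact ((D.twin.inter c (by rw [eq_inv_of_mul_eq_one_right e']; exact inv_mem hx) hcC)).elim hc1 hct
      have hvt : x * c ≠ t := fun e' => (D.twin.inter c (by
        rw [show c = x⁻¹ * t by rw [← e', inv_mul_cancel_left]]; exact mul_mem (inv_mem hx) D.twin.t_mem) hcC).elim
        hc1 hct
      have hui : IsInv (u x) := by
        have := hvi.conj k⁻¹
        rwa [inv_inv] at this
      have hut : u x ≠ t := by
        have := h.toPt0.ne_conj hvt k⁻¹
        rwa [inv_inv] at this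
      have hρk : ρ = k⁻¹ * y * k := by rw [← hky]; group
      have hcomm : Commute (u x) ρ := by
        show u x * ρ = ρ * u x
        rw [hρk, hu]
        show k⁻¹ * (x * c) * k * (k⁻¹ * y * k) = k⁻¹ * y * k * (k⁻¹ * (x * c) * k)
        calc k⁻¹ * (x * c) * k * (k⁻¹ * y * k) = k⁻¹ * (x * c * y) * k := by group
          _ = k⁻¹ * (y * (x * c)) * k := by rw [← mul_inv_eq_iff_eq_mul.mp hvy]
          _ = k⁻¹ * y * k * (k⁻¹ * (x * c) * k) := by group
      have huH : u x ∈ H :=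
        mul_mem (mul_mem (inv_mem hk) (mul_mem (D.twin.R_mem_H h hx) (D.twin.C_mem_H h hcC))) hk
      obtain ⟨γ, hγ, hγ1, hγt, σ, hσ, huγ⟩ := D.exists_CR h hO hρ hρ1 hρt
        (h.mem_normalizer (qR.sq ρ hρ hρ1 hρt) (Or.inl (by rw [hcomm.eq, mul_inv_cancel_right]))) huH
        (fun p => by rw [← mul_smul, hui.2, one_smul]) (fun p _ hp => h.eq_of_fix hui hut hp (fix_base.mpr huH))
      refine ⟨hcomm, ?_⟩
      have hσc : Commute σ ρ := by
        have h1 := (D.twin.comm γ hγ ρ hρ).inv_left.mul_left hcomm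
        rwa [huγ, inv_mul_cancel_left] at h1
      have hsq : σ * σ = t := by
        have h1 := hui.2
        rw [huγ, (D.twin.comm γ hγ σ hσ).symm.mul_mul_mul_comm, qC.sq γ hγ hγ1 hγt] at h1
        rw [← h.inv.inv]; exact eq_inv_of_mul_eq_one_right h1
      rcases qR.eq_class h hρ hσ ⟨hρ1, hρt⟩ (D.twin.sq_ne h hsq) hσc.symm with rfl | rfl
      · exact ⟨γ, hγ, hγ1, hγt, huγ⟩
      · refine ⟨γ * t, mul_mem hγ qC.t_mem, fun e' => hγt ?_, fun e' => hγ1 (mul_eq_right.mp e'), ?_⟩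
        · rw [← h.inv.inv]; exact eq_inv_of_mul_eq_one_left e'
        · rw [huγ, mul_assoc γ t, ← (h.central ρ).eq]
    obtain ⟨-, γ, hγ, hγ1, hγt, eu⟩ := hdata hr hr1 hrt
    obtain ⟨-, γ', hγ', hγ'1, hγ't, eu'⟩ := hdata hr' hr'1 hr't
    obtain ⟨hcC, hc1, hct⟩ := hC hr hr1 hrt
    obtain ⟨hc'C, hc'1, hc't⟩ := hC hr' hr'1 hr't
    have hrr : r * r' = r' * r * t := qR.anti r hr r' hr' hr1 hrt hr'1 hr't hr'r hr'rt
    set c := y * r * y⁻¹ with hc
    set c' := y * r' * y⁻¹ with hc'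
    have hcc : c * c' = c' * c * t := by
      rw [hc, hc', show y * r * y⁻¹ * (y * r' * y⁻¹) = y * (r * r') * y⁻¹ by group, hrr,
        show y * (r' * r * t) * y⁻¹ = y * r' * y⁻¹ * (y * r * y⁻¹) * (y * t * y⁻¹) by group, (h.central y).eq,
        mul_inv_cancel_right]
    have hvv : Commute (r * c) (r' * c') := by
      show r * c * (r' * c') = r' * c' * (r * c)
      rw [(D.twin.comm c hcC r' hr').mul_mul_mul_comm, (D.twin.comm c' hc'C r hr).mul_mul_mul_comm, hrr, hcc,
        mul_assoc (r' * r) t, ← (h.central (c' * c * t)).eq, mul_assoc (c' * c) t t, h.inv.2, mul_one]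
    have huu : Commute (u r) (u r') := by
      show u r * u r' = u r' * u r
      simp only [hu, ← hc, ← hc']
      rw [show k⁻¹ * (r * c) * k * (k⁻¹ * (r' * c') * k) = k⁻¹ * ((r * c) * (r' * c')) * k by group, hvv.eq]
      group
    have hγγ : Commute γ γ' := by
      have h1 := huu.eq
      rw [eu, eu', (D.twin.comm γ' hγ' ρ hρ).symm.mul_mul_mul_comm, (D.twin.comm γ hγ ρ hρ).symm.mul_mul_mul_comm] at h1
      exact mul_right_cancel h1
    have key : u r' = u r ∨ u r' = u r * t := by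
      rcases qC.eq_class h hγ hγ' ⟨hγ1, hγt⟩ ⟨hγ'1, hγ't⟩ hγγ with rfl | rfl
      · exact Or.inl (eu'.trans eu.symm)
      · exact Or.inr (by rw [eu', eu, mul_assoc γ t, ← (h.central ρ).eq, ← mul_assoc])
    have hv : r' * c' = r * c ∨ r' * c' = r * (c * t) := by
      simp only [hu] at key
      rcases key with e' | e'
      · exact Or.inl (mul_left_cancel (mul_right_cancel e'))
      · refine Or.inr (mul_left_cancel (a := k⁻¹) (mul_right_cancel (b := k) (e'.trans ?_)))
        rw [mul_assoc (k⁻¹ * (r * c)) k t, (h.central k).eq, ← mul_assoc (k⁻¹ * (r * c)) t k]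
        group
    have hfin : ∀ {a}, a ∈ C → r' * c' = r * a → r' = r ∨ r' = r * t := fun {a} ha e' => by
      have h1 : r⁻¹ * r' = a * c'⁻¹ := by
        rw [show r' = r * a * c'⁻¹ by rw [← e', mul_inv_cancel_right]]; group
      rcases D.twin.inter _ (mul_mem (inv_mem hr) hr') (h1 ▸ mul_mem ha (inv_mem hc'C)) with e'' | e''
      · exact Or.inl (inv_mul_eq_one.mp e'').symm
      · exact Or.inr (eq_mul_of_inv_mul_eq e'')
    rcases hv with e' | e'
    · exact (hfin hcC e').elim hr'r hr'rt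
    · exact (hfin (mul_mem hcC qC.t_mem) e').elim hr'r hr'rt

end Twins

end CfsgLib.CoreKill.Local
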