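import Mathlib.GroupTheory.SpecificGroups.Alternating.Simple
import Mathlib.GroupTheory.GroupAction.Quotient
import Mathlib.GroupTheory.Perm.Cycle.Type

/-!
Facts on the permutations of nine points: the alternating group on the first seven, and abelian subgroups of odd order
inverted by an involution with one fixed point.

Blueprint: `blueprint/S3120.md`, B.
-/

set_option autoImplicit false
set_option linter.unusedSectionVars false
set_option linter.style.haveILetI false

namespace CfsgLib.TwoTransOdd.Perms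

open Equiv MulAction

/-- The involution `(0 1)(2 3)(4 5)(6 7)`. -/
abbrev tau : Perm (Fin 9) := swap 0 1 * swap 2 3 * swap 4 5 * swap 6 7

/-- An involution fixing one point is conjugate to `tau`. -/
theorem exists_conj_tau {π : Perm (Fin 9)} (h2 : π * π = 1) {i : Fin 9} (hi : ∀ j, π j = j ↔ j = i) :
    ∃ σ : Perm (Fin 9), σ * π * σ⁻¹ = tau ∧ σ i = 8 := by
  classical
  have hs : π.support = Finset.univ.erase i := by ext j; simp [hi]
  have hc : π.cycleType = tau.cycleType := by
    have key : ∀ ρ : Perm (Fin 9), ρ * ρ = 1 → ρ.support.card = 8 → ρ.cycleType = Multiset.replicate 4 2 := by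
      intro ρ hρ hcard
      have hall : ∀ n ∈ ρ.cycleType, n = 2 := fun n hn => by
        have h1 : n ∣ 2 := (Perm.dvd_of_mem_cycleType hn).trans (orderOf_dvd_of_pow_eq_one (by rw [pow_two, hρ]))
        have h3 := Perm.two_le_of_mem_cycleType hn
        have h4 := Nat.le_of_dvd (by norm_num) h1
        omega
      have h5 := ρ.sum_cycleType
      rw [Multiset.eq_replicate_card.mpr hall, Multiset.sum_replicate, hcard, smul_eq_mul] at h5
      rw [Multiset.eq_replicate_card.mpr hall, show ρ.cycleType.card = 4 by omega]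
    rw [key π h2 (by rw [hs, Finset.card_erase_of_mem (Finset.mem_univ _)]; rfl), key tau (by decide) (by decide)]
  obtain ⟨σ, hσ⟩ := isConj_iff.mp (Perm.isConj_iff_cycleType_eq.mpr hc)
  refine ⟨σ, hσ, ?_⟩
  have h1 : tau (σ i) = σ i := by
    rw [← hσ]; simp [(hi i).mpr rfl]
  have h8 : ∀ j : Fin 9, tau j = j → j = 8 := by decide
  exact h8 _ h1

/-- The alternating group fixing the last two points. -/
def Alt7 : Subgroup (Perm (Fin 9)) := alternatingGroup (Fin 9) ⊓ stabilizer (Perm (Fin 9)) (7 : Fin 9) ⊓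
  stabilizer (Perm (Fin 9)) (8 : Fin 9)

theorem mem_Alt7 {σ : Perm (Fin 9)} : σ ∈ Alt7 ↔ Perm.sign σ = 1 ∧ σ 7 = 7 ∧ σ 8 = 8 := by
  simp [Alt7, Subgroup.mem_inf, Perm.mem_alternatingGroup, mem_stabilizer_iff, and_assoc]

/-- `Alt7` is simple: a subgroup it normalises is trivial or everything. -/
theorem seven {K : Subgroup (Perm (Fin 9))} (hK : K ≤ Alt7)
    (hn : ∀ σ ∈ Alt7, ∀ x ∈ K, σ * x * σ⁻¹ ∈ K) : K = ⊥ ∨ K = Alt7 := by
  classical
  let S := {x : Fin 9 // x.val < 7}
  haveI : IsSimpleGroup (alternatingGroup S) := alternatingGroup.isSimpleGroup (by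
    rw [Nat.card_eq_fintype_card]; decide)
  let ι : alternatingGroup S →* Perm (Fin 9) := Perm.ofSubtype.comp (alternatingGroup S).subtype
  have hι : Function.Injective ι := fun a b e => Subtype.ext (Perm.ofSubtype_injective e)
  have hle : ∀ a, ι a ∈ Alt7 := fun a => mem_Alt7.mpr ⟨by
    show Perm.sign (Perm.ofSubtype (a : Perm S)) = 1
    rw [Perm.sign_ofSubtype]; exact a.2,
    Perm.ofSubtype_apply_of_not_mem _ (by decide), Perm.ofSubtype_apply_of_not_mem _ (by decide)⟩
  have hge : ∀ σ ∈ Alt7, ∃ a, ι a = σ := fun σ hσ => by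
    obtain ⟨hs, h7, h8⟩ := mem_Alt7.mp hσ
    have h78 : ∀ x : Fin 9, ¬ x.val < 7 → x = 7 ∨ x = 8 := by decide
    have hfix : ∀ x : Fin 9, ¬ x.val < 7 → σ x = x := fun x hx => by
      rcases h78 x hx with rfl | rfl
      exacts [h7, h8]
    have hp : ∀ x : Fin 9, (σ x).val < 7 ↔ x.val < 7 := fun x => ⟨fun h => by
      by_contra hx; rw [hfix x hx] at h; exact hx h, fun h => by
      by_contra hx
      have := σ.injective (hfix _ hx)
      rw [this] at hx; exact hx h⟩
    have e : Perm.ofSubtype (σ.subtypePerm hp) = σ :=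
      Perm.ofSubtype_subtypePerm hp fun x hx => by by_contra h; exact hx (hfix x h)
    refine ⟨⟨σ.subtypePerm hp, ?_⟩, e⟩
    rw [Perm.mem_alternatingGroup, ← Perm.sign_ofSubtype, e, hs]
  have hnor : (K.comap ι).Normal := ⟨fun x hx g => by
    show ι (g * x * g⁻¹) ∈ K
    rw [map_mul, map_mul, map_inv]
    exact hn _ (hle g) _ hx⟩
  rcases hnor.eq_bot_or_eq_top with e | e
  · refine Or.inl ((Subgroup.eq_bot_iff_forall _).mpr fun x hx => ?_)
    obtain ⟨a, rfl⟩ := hge x (hK hx)
    have : a ∈ K.comap ι := hx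
    rw [e, Subgroup.mem_bot] at this
    rw [this, map_one]
  · refine Or.inr (le_antisymm hK fun x hx => ?_)
    obtain ⟨a, rfl⟩ := hge x hx
    exact (e ▸ Subgroup.mem_top a : a ∈ K.comap ι)

/-- An abelian group of odd order of permutations inverted by `tau` has at most nine elements. -/
theorem card_inverted {A : Subgroup (Perm (Fin 9))} (hab : ∀ x ∈ A, ∀ y ∈ A, Commute x y)
    (hodd : Odd (Nat.card A)) (hinv : ∀ x ∈ A, tau * x * tau⁻¹ = x⁻¹) : Nat.card A ≤ 9 := by
  classical
  set B : Subgroup (Perm (Fin 9)) := A ⊓ stabilizer (Perm (Fin 9)) (8 : Fin 9) with hB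
  set S : Set (Fin 9) := orbit ↥A (8 : Fin 9) with hS
  have hst : ∀ (D : Subgroup (Perm (Fin 9))) (y : Fin 9),
      Nat.card D = (orbit ↥D y).ncard * Nat.card ↥(D ⊓ stabilizer (Perm (Fin 9)) y) := fun D y => by
    have h1 := Subgroup.card_mul_index (stabilizer ↥D y)
    rw [index_stabilizer] at h1
    rw [← h1, mul_comm]
    congr 1
    exact Nat.card_congr ⟨fun x => ⟨x.1.1, x.1.2, x.2⟩, fun x => ⟨⟨x.1, x.2.1⟩, x.2.2⟩, fun _ => rfl, fun _ => rfl⟩
  have hodd' : ∀ {D : Subgroup (Perm (Fin 9))}, D ≤ A → ∀ y, Odd (orbit ↥D y).ncard := fun {D} hD y => by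
    have h1 : Odd (Nat.card D) := hodd.of_dvd_nat (Subgroup.card_dvd_of_le hD)
    rw [hst D y] at h1
    exact (Nat.odd_mul.mp h1).1
  have htau : ∀ i : Fin 9, tau (tau i) = i := by decide
  have h8 : ∀ j : Fin 9, tau j = j → j = 8 := by decide
  -- a subgroup at `8`: its orbits come in pairs
  have pair : ∀ {D : Subgroup (Perm (Fin 9))}, D ≤ B → ∀ {y : Fin 9}, (∃ d ∈ D, d y ≠ y) →
      3 ≤ (orbit ↥D y).ncard ∧ Disjoint (orbit ↥D y) (tau '' orbit ↥D y) ∧
        ∀ z : Fin 9, (∀ d ∈ D, d z = z) → z ∉ orbit ↥D y ∪ tau '' orbit ↥D y := by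
    intro D hD y ⟨d, hd, hdy⟩
    have hDA : D ≤ A := hD.trans inf_le_left
    have hfix : ∀ z : Fin 9, (∀ d ∈ D, d z = z) → z ∉ orbit ↥D y := by
      rintro z hz ⟨g, hg⟩
      have h1 : (g : Perm (Fin 9)) y = z := hg
      have h2 : y = z := (g : Perm (Fin 9)).injective (h1.trans (hz g g.2).symm)
      exact hdy (h2 ▸ hz d hd)
    have h8D : ∀ d ∈ D, d (8 : Fin 9) = 8 := fun d hd => (Subgroup.mem_inf.mp (hD hd)).2
    have hconj : ∀ d ∈ D, ∀ z : Fin 9, tau (d z) = d⁻¹ (tau z) := fun d hd z => by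
      rw [← hinv d (hDA hd)]
      show tau (d z) = tau (d (tau⁻¹ (tau z)))
      simp
    refine ⟨?_, ?_, fun z hz => ?_⟩
    · have h1 : 1 < (orbit ↥D y).ncard := (Set.one_lt_ncard (Set.toFinite _)).mpr
        ⟨y, mem_orbit_self y, d y, ⟨⟨d, hd⟩, rfl⟩, Ne.symm hdy⟩
      obtain ⟨k, hk⟩ := hodd' hDA y
      omega
    · refine Set.disjoint_left.mpr ?_
      rintro z hz ⟨w, hw, rfl⟩
      -- `tau` keeps the orbit, so fixes one of its points
      have hkeep : ∀ q ∈ orbit ↥D y, tau q ∈ orbit ↥D y := by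
        intro q hq
        rw [← (orbit_eq_iff.mpr hz)]
        rw [← (orbit_eq_iff.mpr hw)] at hq
        obtain ⟨g, rfl⟩ := hq
        exact ⟨g⁻¹, (hconj g g.2 w).symm⟩
      set O : Finset (Fin 9) := (orbit ↥D y).toFinset with hO
      have hcard : Odd O.card := by rw [hO, ← Set.ncard_eq_toFinset_card']; exact hodd' hDA y
      have key : ∀ O : Finset (Fin 9), (∀ q ∈ O, tau q ∈ O) → Odd O.card → (8 : Fin 9) ∈ O := by
        intro O hO ho
        by_contra h8'
        have f1 : ∀ q : Fin 9, q ≠ 8 → q.val % 2 = 1 → (tau q).val % 2 = 0 := by decide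
        have f2 : ∀ q : Fin 9, q ≠ 8 → q.val % 2 = 0 → (tau q).val % 2 = 1 := by decide
        have hne : ∀ {q}, q ∈ O → q ≠ 8 := fun {q} hq e => h8' (e ▸ hq)
        have e : O.filter (fun q => ¬ q.val % 2 = 0) = (O.filter (fun q => q.val % 2 = 0)).image tau := by
          ext q
          simp only [Finset.mem_filter, Finset.mem_image]
          constructor
          · rintro ⟨hq, hq'⟩
            exact ⟨tau q, ⟨hO q hq, f1 q (hne hq) (by omega)⟩, htau q⟩
          · rintro ⟨w, ⟨hw, hw'⟩, rfl⟩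
            have := f2 w (hne hw) hw'
            exact ⟨hO w hw, by omega⟩
        have h1 := Finset.card_filter_add_card_filter_not (s := O) (fun q => q.val % 2 = 0)
        rw [e, Finset.card_image_of_injective _ tau.injective] at h1
        obtain ⟨k, hk⟩ := ho
        omega
      exact hfix 8 h8D (Set.mem_toFinset.mp (key O (fun q hq => by
        rw [hO, Set.mem_toFinset] at hq ⊢; exact hkeep q hq) hcard))
    · rintro (h1 | ⟨w, hw, rfl⟩)
      · exact hfix z hz h1
      · refine hfix w (fun d hd => ?_) hw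
        have h1 := hz _ (inv_mem hd)
        rw [← hconj d hd w] at h1
        exact tau.injective h1
  have hSB : ∀ z ∈ S, ∀ d ∈ B, d z = z := by
    rintro _ ⟨g, rfl⟩ d hd
    show (d * (g : Perm (Fin 9))) 8 = (g : Perm (Fin 9)) 8
    rw [(hab d (Subgroup.mem_inf.mp hd).1 g g.2).eq, Perm.mul_apply, show d 8 = 8 from (Subgroup.mem_inf.mp hd).2]
  have hA := hst A 8
  rw [← hB, ← hS] at hA
  have hS9 : S.ncard ≤ 9 := (Set.ncard_le_card S).trans (by simp)
  by_cases hB1 : ∃ x : Fin 9, ∃ d ∈ B, d x ≠ x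
  · obtain ⟨x, hx⟩ := hB1
    obtain ⟨h3, hdis, hfix⟩ := pair le_rfl hx
    set O := orbit ↥B x
    have hsum : S.ncard + 2 * O.ncard ≤ 9 := by
      have h1 : Disjoint S (O ∪ tau '' O) := Set.disjoint_left.mpr fun z hz => hfix z (hSB z hz)
      have h2 := Set.ncard_le_card (S ∪ (O ∪ tau '' O))
      rw [Set.ncard_union_eq h1, Set.ncard_union_eq hdis, Set.ncard_image_of_injective _ tau.injective] at h2
      simp at h2
      omega
    have hS1 : 1 ≤ S.ncard := (Set.ncard_pos (Set.toFinite _)).mpr ⟨8, mem_orbit_self _⟩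
    have hO3 : O.ncard = 3 := by
      have hk0 : Odd O.ncard := hodd' (inf_le_left : B ≤ A) x
      obtain ⟨k, hk⟩ := hk0
      omega
    set D := B ⊓ stabilizer (Perm (Fin 9)) x
    have hD1 : Nat.card D = 1 := by
      refine Subgroup.card_eq_one.mpr ((Subgroup.eq_bot_iff_forall _).mpr fun d hd => Equiv.ext fun y => ?_)
      by_contra hdy
      obtain ⟨h3', hdis', hfix'⟩ := pair (inf_le_left : D ≤ B) ⟨d, hd, hdy⟩
      have hDO : ∀ z ∈ S ∪ (O ∪ tau '' O), ∀ d ∈ D, d z = z := by
        have hO' : ∀ z ∈ O, ∀ d ∈ D, d z = z := by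
          rintro _ ⟨g, rfl⟩ d hd
          show (d * (g : Perm (Fin 9))) x = (g : Perm (Fin 9)) x
          rw [(hab d (Subgroup.mem_inf.mp (Subgroup.mem_inf.mp hd).1).1 g (Subgroup.mem_inf.mp g.2).1).eq,
            Perm.mul_apply, show d x = x from (Subgroup.mem_inf.mp hd).2]
        rintro z (hz | hz | ⟨w, hw, rfl⟩) d hd
        · exact hSB z hz d (Subgroup.mem_inf.mp hd).1
        · exact hO' z hz d hd
        · have := hO' w hw d⁻¹ (inv_mem hd)
          have h1 := hinv d⁻¹ (inv_mem (Subgroup.mem_inf.mp (Subgroup.mem_inf.mp hd).1).1)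
          rw [inv_inv] at h1
          rw [← h1]
          show tau (d⁻¹ (tau.symm (tau w))) = tau w
          rw [Equiv.symm_apply_apply, this]
      set O' := orbit ↥D y
      have h1 : Disjoint (S ∪ (O ∪ tau '' O)) (O' ∪ tau '' O') :=
        Set.disjoint_left.mpr fun z hz => hfix' z (hDO z hz)
      have h2 := Set.ncard_le_card ((S ∪ (O ∪ tau '' O)) ∪ (O' ∪ tau '' O'))
      rw [Set.ncard_union_eq h1, Set.ncard_union_eq hdis', Set.ncard_image_of_injective _ tau.injective,
        Set.ncard_union_eq (Set.disjoint_left.mpr fun z hz => hfix z (hSB z hz)), Set.ncard_union_eq hdis,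
        Set.ncard_image_of_injective _ tau.injective] at h2
      simp at h2
      omega
    have hBc := hst B x
    rw [hD1, mul_one] at hBc
    have hS3 : S.ncard ≤ 3 := by omega
    rw [hA, hBc, hO3]
    omega
  · push Not at hB1
    have : B = ⊥ := (Subgroup.eq_bot_iff_forall _).mpr fun d hd => Equiv.ext fun y => hB1 y d hd
    rw [hA, this, Subgroup.card_bot, mul_one]
    exact hS9

end CfsgLib.TwoTransOdd.Perms
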