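import Cfsg.Agent.Lib.CoreKill.Fail.Outcome
import Cfsg.Agent.Lib.CoreKill.Fail.Twin.Balance

/-!
The local outcome at an involution with failure, keeping the twin groups and how the Sylow subgroup permutes them.

Blueprint: `blueprint/S3120.md`, B.
-/

set_option autoImplicit false
set_option linter.unusedSectionVars false
set_option linter.style.haveILetI false

universe u

namespace CfsgLib.CoreKill.Local

open Cfsg MulAction
open CfsgLib.Bender.TwoClosed (IsInv)

variable {X : Type u} [Group X] [Finite X] {H : Subgroup X} {P : Sylow 2 X} {t : X}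

/-- The Sylow subgroup permutes the two groups. -/
def Perm2 (P : Sylow 2 X) (R C : Subgroup X) : Prop :=
  ∀ k ∈ (P : Subgroup X), (∀ x, (x ∈ R ↔ k * x * k⁻¹ ∈ R) ∧ (x ∈ C ↔ k * x * k⁻¹ ∈ C)) ∨
    ∀ x, (x ∈ R ↔ k * x * k⁻¹ ∈ C) ∧ (x ∈ C ↔ k * x * k⁻¹ ∈ R)

/-- The failing outcome with its data. -/
structure Twins (H : Subgroup X) (P : Sylow 2 X) (t : X) (R C : Subgroup X) : Prop where
  twin : Twin H P t R C
  perm : Perm2 P R C
  ovr : Over P t
  one : ∀ u v : X, IsInv u → u ≠ t → IsInv v → v ≠ t → ∃ g : X, g * u * g⁻¹ = v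

theorem Exch.perm {s g : X} {C : Subgroup X} (h : Pt H P t) (E : Exch H P t s g C)
    (hno : ∀ r, World H t r → ¬ (P : Subgroup X) ≤ Subgroup.normalizer (Subgroup.zpowers r : Set X)) :
    Perm2 P (seatR H P s) C := by
  have hS' := E.seat' h
  have hswap : ∀ x, x ∈ seatR H P s ↔ g * x * g⁻¹ ∈ C := fun x => by
    rw [← E.eq, Seat.mem_seatR_self h E.seat.world E.g_mem, show g⁻¹ * (g * x * g⁻¹) * g = x by group]
  have hg'n : g ∉ seatT P (g * s * g⁻¹) := by rw [E.g_T]; exact E.g_out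
  have hgT' : seatT P (g * (g * s * g⁻¹) * g⁻¹) = seatT P (g * s * g⁻¹) := Subgroup.ext fun x => by
    rw [Seat.mem_seatT_self h hS'.world E.g_mem, E.g_T]
    exact E.normal_T h hno E.g_mem x
  have hswap' : ∀ x, x ∈ C ↔ g * x * g⁻¹ ∈ seatR H P s := fun x => by
    rw [← hS'.image_eq h E.back E.g_mem hgT' hg'n, Seat.mem_seatR_self h hS'.world E.g_mem, E.eq,
      show g⁻¹ * (g * x * g⁻¹) * g = x by group]
  have hfix : ∀ {m}, m ∈ seatT P s → ∀ x,
      (x ∈ seatR H P s ↔ m * x * m⁻¹ ∈ seatR H P s) ∧ (x ∈ C ↔ m * x * m⁻¹ ∈ C) := fun {m} hm x =>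
    ⟨Subgroup.mem_normalizer_iff.mp (E.seat.R_normal h hm) x, by
      rw [← E.eq]
      exact Subgroup.mem_normalizer_iff.mp (hS'.R_normal h (E.g_T ▸ hm)) x⟩
  intro k hk
  have hsub : seatR H P (k * s * k⁻¹) ≤ seatT P s := E.sub_T h hno (E.seat.conj_self h hk) fun x hx y =>
    E.normal_T h hno (Subgroup.mem_inf.mp (Subgroup.mem_inf.mp hx).1).1 y
  rcases E.coset_of_sub h hno hk hsub with e | e
  · exact Or.inl (hfix e)
  · refine Or.inr fun x => ?_
    have hx : k * x * k⁻¹ = g * (g⁻¹ * k * x * (g⁻¹ * k)⁻¹) * g⁻¹ := by group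
    exact ⟨(hfix e x).1.trans ((hswap _).trans (by rw [hx])), (hfix e x).2.trans ((hswap' _).trans (by rw [hx]))⟩

theorem Pt.outcome (h : Pt H P t) :
    Struct H P t ∨ (Pairs P t ∧ SquaresEq t) ∨ ∃ R C : Subgroup X, Twins H P t R C := by
  obtain ⟨y, hy⟩ := h.exists_y
  by_cases hNF : NF H y
  · rcases h.dichotomy hy hNF with h1 | h1
    · exact Or.inl h1
    · exact Or.inr (Or.inl h1)
  obtain ⟨s, hs⟩ := h.exists_world hy hNF
  by_cases hno : ∀ r, World H t r → ¬ (P : Subgroup X) ≤ Subgroup.normalizer (Subgroup.zpowers r : Set X)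
  · obtain ⟨r, hr, -⟩ := exists_seat h hs
    obtain ⟨g, C, E⟩ := exists_exch h hr hno
    exact Or.inr (Or.inr ⟨_, _, E.twin h hno, E.perm h hno, E.overEight h hno, Twin.oneClass h (E.twin h hno)⟩)
  · push Not at hno
    obtain ⟨r, hr, hP⟩ := hno
    exact Or.inr (Or.inl (h.pairs_of_normal_world hr hP))

end CfsgLib.CoreKill.Local
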