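import Cfsg.Agent.Lib.TwoTransOdd.Local
import Cfsg.Agent.Lib.TwoTransOdd.Twins
import Cfsg.Agent.Lib.CoreKill.Fail.OneClass
import Cfsg.Agent.Lib.Bender.Q.Main
import Cfsg.Agent.Lib.ZStar.Main

/-!
An involution fixing several points may be taken 2-central: the exceptional outcome would isolate it; away from the
centre of a Sylow subgroup the members come in pairs of one involution with one fixed point and one with several, so
the involutions with one fixed point would satisfy the strong embedding criterion for the point stabiliser.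

Blueprint: `blueprint/S3120.md`, B.
-/

set_option autoImplicit false
set_option linter.unusedSectionVars false
set_option linter.style.haveILetI false

universe u v

namespace CfsgLib.TwoTransOdd

open MulAction
open CfsgLib.Bender.TwoClosed (IsInv)
open CfsgLib.Bender.Assembly (orderOf_two isInv_of_orderOf fix_iff)
open CfsgLib.CoreKill (inCent inCent_comm isInv_sub)
open CfsgLib.CoreKill.Local (base)

variable {M : Type u} [Group M] [Finite M] {Ω : Type v} [Finite Ω] [MulAction M Ω]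

/-- The centraliser of `t` contains a Sylow subgroup. -/
def Central (t : M) : Prop := ∃ S : Sylow 2 M, (S : Subgroup M) ≤ cen t

theorem wide2_conj {t : M} (g : M) (hw : Wide2 Ω t) : Wide2 Ω (g * t * g⁻¹) := by
  obtain ⟨a, b, hab, ha, hb⟩ := hw
  exact ⟨g • a, g • b, fun e => hab (MulAction.injective g e), fix_conj rfl ha, fix_conj rfl hb⟩

theorem wide2_conj_iff {t : M} (g : M) : Wide2 Ω (g * t * g⁻¹) ↔ Wide2 Ω t := by
  refine ⟨fun hw => ?_, wide2_conj g⟩
  have := wide2_conj g⁻¹ hw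
  rwa [show g⁻¹ * (g * t * g⁻¹) * g⁻¹⁻¹ = t by group] at this

namespace Act

variable (h : Act M Ω)
include h

/-- An involution conjugate to a commuting one only if equal does not exist. -/
theorem not_isolated {t : M} (ht : IsInv t) (hiso : ∀ g : M, Commute t (g * t * g⁻¹) → g * t * g⁻¹ = t) : False := by
  haveI := h.simple
  rcases (Cfsg.pPrimeCore_normal 2 M).eq_bot_or_eq_top with e | e
  · have hc : t ∈ Subgroup.center M := Subgroup.mem_center_iff.mpr fun g => by
      have h1 := ZStar.inZStar (orderOf_two ht) hiso g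
      rw [e, Subgroup.mem_bot, mul_inv_eq_one, mul_inv_eq_iff_eq_mul] at h1
      exact h1
    rcases (inferInstance : (Subgroup.center M).Normal).eq_bot_or_eq_top with ec | ec
    · rw [ec, Subgroup.mem_bot] at hc
      exact ht.1 hc
    · exact h.noncomm ⟨⟨fun a b => (Subgroup.mem_center_iff.mp (ec ▸ Subgroup.mem_top b) a)⟩⟩
  · have h1 := card_pPrimeCore_coprime (G := M) 2
    rw [e, Subgroup.card_top, Nat.coprime_two_right] at h1
    exact Nat.not_odd_iff_even.mpr (even_iff_two_dvd.mpr (orderOf_two ht ▸ orderOf_dvd_natCard t)) h1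

variable {t : M} (ht : IsInv t)
include ht

/-- The exceptional outcome isolates the involution. -/
theorem no_pairs {P : Sylow 2 ↥(cen t)} (hp : CoreKill.Local.Pairs P (inCent t))
    (hsq : CoreKill.Local.SquaresEq (inCent t)) : False := by
  haveI := Fact.mk Nat.prime_two
  refine h.not_isolated ht fun g hg => ?_
  by_contra hne
  let u : ↥(cen t) := ⟨g * t * g⁻¹, mem_cen.mpr hg.symm⟩
  have hui : IsInv u := isInv_sub.mpr (ht.conj g)
  obtain ⟨c, -, hcP⟩ := Bender.Q.exists_conj_sylow (S := P) le_top (CoreKill.zpowers_inv hui) le_top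
  have hne' : c * u * c⁻¹ ≠ inCent t := fun e => hne (by
    have h1 : u = c⁻¹ * inCent t * c := by rw [← e]; group
    rw [(inCent_comm c⁻¹).eq, mul_assoc, inv_mul_cancel, mul_one] at h1
    exact congrArg Subtype.val h1)
  obtain ⟨p, q, hp1, hq1, hpu, hqu, hpq⟩ := hp _ (hcP u (Subgroup.mem_zpowers u)) (hui.conj c) hne'
  set k := (c : M) * g with hk
  have hku : ((c * u * c⁻¹ : ↥(cen t)) : M) = k * t * k⁻¹ := by
    show (c : M) * (g * t * g⁻¹) * (c : M)⁻¹ = _
    rw [hk]; group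
  have hmem : ∀ r : ↥(cen t), Commute r (c * u * c⁻¹) → k⁻¹ * (r : M) * k⁻¹⁻¹ ∈ cen t := fun r hr => by
    have h1 : (r : M) * (k * t * k⁻¹) = k * t * k⁻¹ * r := by rw [← hku]; exact congrArg Subtype.val hr.eq
    refine mem_cen.mpr ?_
    show k⁻¹ * (r : M) * k⁻¹⁻¹ * t = t * (k⁻¹ * (r : M) * k⁻¹⁻¹)
    calc k⁻¹ * (r : M) * k⁻¹⁻¹ * t = k⁻¹ * ((r : M) * (k * t * k⁻¹)) * k := by group
      _ = k⁻¹ * (k * t * k⁻¹ * r) * k := by rw [h1]
      _ = _ := by group
  let p' : ↥(cen t) := ⟨_, hmem p hpu⟩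
  let q' : ↥(cen t) := ⟨_, hmem q hqu⟩
  have hpq' : (p : M) * q * ((p : M) * q) = t := congrArg Subtype.val hpq
  have hsq' : ((p' * q' * (p' * q') : ↥(cen t)) : M) = k⁻¹ * t * k⁻¹⁻¹ := by
    show (k⁻¹ * (p : M) * k⁻¹⁻¹) * (k⁻¹ * (q : M) * k⁻¹⁻¹) * ((k⁻¹ * (p : M) * k⁻¹⁻¹) * (k⁻¹ * (q : M) * k⁻¹⁻¹)) = _
    calc _ = k⁻¹ * ((p : M) * q * ((p : M) * q)) * k⁻¹⁻¹ := by group
      _ = _ := by rw [hpq']
  have h1 := hsq p' q' (isInv_sub.mpr ((isInv_sub.mp hp1).conj k⁻¹)) (isInv_sub.mpr ((isInv_sub.mp hq1).conj k⁻¹))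
    (isInv_sub.mpr (hsq'.symm ▸ ht.conj k⁻¹))
  have h2 : k⁻¹ * t * k⁻¹⁻¹ = t := hsq'.symm.trans (congrArg Subtype.val h1)
  refine hne' (Subtype.ext (hku.trans ?_))
  show k * t * k⁻¹ = t
  calc k * t * k⁻¹ = k * (k⁻¹ * t * k⁻¹⁻¹) * k⁻¹ := by rw [h2]
    _ = t := by group

variable {a : Ω} (hta : t • a = a) (hw : Wide2 Ω t) (h3 : ¬ Cfsg.PRankLE 2 2 M)
include hta hw h3

/-- The outcome without the exceptional case. -/
theorem outcome {P : Sylow 2 ↥(cen t)} (hP : (P : Subgroup ↥(cen t)) ≤ cenA t a) :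
    CoreKill.Local.Struct (cenA t a) P (inCent t) ∨
      ∃ R C : Subgroup ↥(cen t), CoreKill.Local.Twins (cenA t a) P (inCent t) R C := by
  rcases (h.pt ht hta hw h3 hP).outcome with h1 | ⟨h1, h2⟩ | h1
  · exact Or.inl h1
  · exact (h.no_pairs ht h1 h2).elim
  · exact Or.inr h1

/-- Off the centre: the structure, with a member fixing several points. -/
theorem noncentral (hnc : ¬ Central t) {P : Sylow 2 ↥(cen t)} (hP : (P : Subgroup ↥(cen t)) ≤ cenA t a) :
    CoreKill.Local.Struct (cenA t a) P (inCent t) ∧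
      ∃ y : ↥(cen t), y ∈ (P : Subgroup ↥(cen t)) ∧ IsInv y ∧ y ≠ inCent t ∧ Wide2 Ω (y : M) := by
  haveI := Fact.mk Nat.prime_two
  have hPt := h.pt ht hta hw h3 hP
  set P' := (P : Subgroup ↥(cen t)).map (cen t).subtype with hP'
  obtain ⟨S, hS⟩ := (P.isPGroup'.map (cen t).subtype).exists_le_sylow
  have hmax : ∀ x ∈ (S : Subgroup M), x ∈ cen t → x ∈ P' := fun x hx hxc => by
    have h1 : (P : Subgroup ↥(cen t)) = (S : Subgroup M).subgroupOf (cen t) :=
      (P.is_maximal' (S.isPGroup'.comap_subtype) fun y hy => hS ⟨y, hy, rfl⟩).symm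
    exact ⟨⟨x, hxc⟩, h1 ▸ hx, rfl⟩
  have hlt : P'.subgroupOf (S : Subgroup M) < ⊤ := lt_top_iff_ne_top.mpr fun e => hnc ⟨S, fun x hx => by
    obtain ⟨y, -, rfl⟩ := Subgroup.subgroupOf_eq_top.mp e hx
    exact y.2⟩
  haveI : Group.IsNilpotent ↥(S : Subgroup M) := S.isPGroup'.isNilpotent
  have htP : t ∈ P' := ⟨inCent t, hPt.t_mem_P, rfl⟩
  -- a central involution of `S`
  obtain ⟨z, hzS, hz, hzc⟩ := CfsgLib.Comp.exists_central_in_normal (p := 2) S.isPGroup' le_rfl
    Subgroup.le_normalizer fun e => ht.1 (Subgroup.mem_bot.mp (e ▸ hS htP))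
  have hzi := isInv_of_orderOf hz
  have hzt : z ≠ t := fun e => hnc ⟨S, fun s hs => mem_cen.mpr (e ▸ hzc s hs)⟩
  obtain ⟨z', hz'P, hz'⟩ := hmax z hzS (mem_cen.mpr (hzc t (hS htP)).symm)
  have hz'i : IsInv z' := isInv_sub.mpr (show IsInv ((cen t).subtype z') from hz'.symm ▸ hzi)
  have hz't : z' ≠ inCent t := fun e => hzt (hz'.symm.trans (congrArg Subtype.val e))
  refine ⟨(h.outcome ht hta hw h3 hP).resolve_right fun ⟨R, C, D⟩ => ?_, ?_⟩
  · obtain ⟨s, hs, hns⟩ := D.twin.noCentral hPt z' hz'P hz'i hz't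
    refine hns (Subtype.ext ?_)
    show (z' : M) * (s : M) = (s : M) * (z' : M)
    rw [show (z' : M) = z from hz']
    exact (hzc (s : M) (hS ⟨s, hs, rfl⟩)).symm
  -- the image of `t` under an element normalising `P`
  obtain ⟨s, hs, hs'⟩ := SetLike.exists_of_lt (Group.normalizerCondition_of_isNilpotent _ hlt)
  have hst : (s : M) * t * (s : M)⁻¹ ∈ P' := (Subgroup.mem_normalizer_iff.mp hs ⟨t, hS htP⟩).mp htP
  obtain ⟨y, hyP, hy⟩ := hst
  refine ⟨y, hyP, isInv_sub.mpr (show IsInv ((cen t).subtype y) from hy.symm ▸ ht.conj _), fun e => ?_,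
    show Wide2 Ω ((cen t).subtype y) from hy.symm ▸ wide2_conj _ hw⟩
  have h1 : (s : M) * t * (s : M)⁻¹ = t := hy.symm.trans (congrArg Subtype.val e)
  exact hs' (hmax _ s.2 (mem_cen.mpr (mul_inv_eq_iff_eq_mul.mp h1)))

/-- Off the centre one of a member and its product with the involution fixes several points. -/
theorem mixed (hnc : ¬ Central t) {u : M} (hu : IsInv u) (hut : u ≠ t) (huc : Commute u t) :
    Wide2 Ω u ∨ Wide2 Ω (u * t) := by
  haveI := Fact.mk Nat.prime_two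
  obtain ⟨P, hP⟩ := h.sylow_exists ht hta
  obtain ⟨hS, y, hyP, hyi, hyt, hyw⟩ := h.noncentral ht hta hw h3 hnc hP
  let u' : ↥(cen t) := ⟨u, mem_cen.mpr huc⟩
  have hu'i : IsInv u' := isInv_sub.mpr hu
  have hu't : u' ≠ inCent t := fun e => hut (congrArg Subtype.val e)
  obtain ⟨c, -, hcP⟩ := Bender.Q.exists_conj_sylow (S := P) le_top (CoreKill.zpowers_inv hu'i) le_top
  obtain ⟨k, -, -, hk⟩ := hS.trans _ (hcP u' (Subgroup.mem_zpowers u')) y hyP (hu'i.conj c)
    ((h.pt ht hta hw h3 hP).toPt0.ne_conj hu't c) hyi hyt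
  set g := (k : M) * c with hg
  have hgt : g * t * g⁻¹ = t := by
    rw [hg]
    show ((k * c : ↥(cen t)) : M) * t * ((k * c : ↥(cen t)) : M)⁻¹ = t
    rw [(mem_cen.mp (k * c).2).eq, mul_inv_cancel_right]
  rcases hk with e | e
  · have e' : g * u * g⁻¹ = (y : M) := by
      rw [← show (k : M) * ((c : M) * u * (c : M)⁻¹) * (k : M)⁻¹ = y from congrArg Subtype.val e, hg]; group
    exact Or.inl ((wide2_conj_iff g).mp (e' ▸ hyw))
  · have e' : g * u * g⁻¹ = (y : M) * t := by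
      rw [← show (k : M) * ((c : M) * u * (c : M)⁻¹) * (k : M)⁻¹ = y * t from congrArg Subtype.val e, hg]; group
    refine Or.inr ((wide2_conj_iff g).mp ?_)
    rw [show g * (u * t) * g⁻¹ = g * u * g⁻¹ * (g * t * g⁻¹) by group, e', hgt, mul_assoc, ht.2, mul_one]
    exact hyw

omit hta in
/-- Some 2-central involution fixes several points. -/
theorem exists_central : ∃ z : M, IsInv z ∧ Wide2 Ω z ∧ Central z := by
  by_contra hno
  push Not at hno
  haveI := h.simple
  haveI := Fact.mk Nat.prime_two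
  obtain ⟨a, b, hab, hta, htb⟩ := hw
  obtain ⟨T, hT⟩ := (CoreKill.zpowers_inv ht).exists_le_sylow
  obtain ⟨z, hzT, hz, hzc⟩ := CfsgLib.Comp.exists_central_in_normal (p := 2) T.isPGroup' le_rfl
    Subgroup.le_normalizer fun e => ht.1 (Subgroup.mem_bot.mp (e ▸ hT (Subgroup.mem_zpowers t)))
  have hzi := isInv_of_orderOf hz
  have hzw : ¬ Wide2 Ω z := fun hw => hno z hzi hw ⟨T, fun s hs => mem_cen.mpr (hzc s hs)⟩
  obtain ⟨c, hc⟩ := exists_fixed h.odd (U := (T : Subgroup M)) T.isPGroup'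
  set H := stabilizer M c
  haveI : IsPretransitive M Ω := ⟨h.trans⟩
  have htop : H ≠ ⊤ := fun e => by
    obtain ⟨d, hd⟩ := h.nontriv c
    obtain ⟨m, hm⟩ := h.trans c d
    exact hd (hm.symm.trans (show m ∈ H from e ▸ Subgroup.mem_top m))
  set Z : Set M := {x | IsInv x ∧ ¬ Wide2 Ω x}
  have hone : ∀ x : M, ¬ Wide2 Ω x → ∀ {p q : Ω}, x • p = p → x • q = q → p = q := fun x hx p q hp hq =>
    by_contra fun hne => hx ⟨p, q, hne, hp, hq⟩
  have hcrit : Bender.Q.Crit H Z := by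
    refine ⟨htop, fun x hx => hx.1, fun x hx g => ⟨hx.1.conj g, fun hw => hx.2 ((wide2_conj_iff g).mp hw)⟩,
      fun x hx => ?_, fun x hx hxH g hg => ?_, ⟨T, fun x hx => hc x hx, z, ⟨hzi, hzw⟩, hc z hzT, hzc⟩,
      fun x hx y hy hxH hyH hne hxy g hg => ?_⟩
    · obtain ⟨d, hd⟩ := exists_fixed h.odd (CoreKill.zpowers_inv hx.1)
      obtain ⟨m, hm⟩ := h.trans d c
      exact ⟨m⁻¹, fix_conj (g := m) hm (hd x (Subgroup.mem_zpowers x)) |> fun e => by rw [inv_inv]; exact e⟩
    · have h1 : x • g⁻¹ • c = g⁻¹ • c := by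
        have e : (g * x * g⁻¹) • c = c := hg
        rw [mul_smul, mul_smul] at e
        exact eq_inv_smul_iff.mpr e
      have h2 := hone x hx.2 h1 hxH
      rw [inv_smul_eq_iff] at h2
      exact h2.symm
    · have hgc : Commute g (x * y) := Subgroup.mem_centralizer_singleton_iff.mp hg
      have hxc : x • c = c := hxH
      have hyc : y • c = c := hyH
      have hfix : (x * y) • c = c := by rw [mul_smul, hyc, hxc]
      refine hone (x * y) (fun hxyw => ?_) (p := g • c) (q := c) (by rw [← mul_smul, ← hgc.eq, mul_smul, hfix]) hfix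
      have hxyi : IsInv (x * y) := by
        refine ⟨fun e => hne ?_, ?_⟩
        · rw [eq_inv_of_mul_eq_one_left e, hy.1.inv]
        · rw [(show Commute y x from hxy.symm).mul_mul_mul_comm, hx.1.2, hy.1.2, one_mul]
      have hxne : x ≠ x * y := fun e => hy.1.1 (left_eq_mul.mp e)
      have hcomm : Commute x (x * y) := (Commute.refl x).mul_right hxy
      rcases h.mixed hxyi hfix hxyw h3 (fun hcen => hno _ hxyi hxyw hcen) hx.1 hxne hcomm with h' | h'
      · exact hx.2 h'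
      · rw [← mul_assoc, hx.1.2, one_mul] at h'
        exact hy.2 h'
  haveI := Bender.faithful (H := H) ((Subgroup.normalCore_normal H).eq_bot_or_eq_top.resolve_right fun e =>
    htop (top_le_iff.mp (e ▸ Subgroup.normalCore_le H)))
  haveI : (Subgroup.closure Z).Normal := ⟨fun x hx g => by
    have hle : Subgroup.closure Z ≤ (Subgroup.closure Z).comap (MulAut.conj g).toMonoidHom :=
      (Subgroup.closure_le _).mpr fun y hy => Subgroup.subset_closure (hcrit.conj y hy g)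
    exact hle hx⟩
  have hZtop : Subgroup.closure Z = ⊤ := (‹(Subgroup.closure Z).Normal›.eq_bot_or_eq_top).resolve_left fun e =>
    hzi.1 (Subgroup.mem_bot.mp (e ▸ Subgroup.subset_closure (show z ∈ Z from ⟨hzi, hzw⟩)))
  obtain ⟨q, -, hq⟩ := Bender.Q.theoremQ M (M ⧸ H) Z hcrit.hyp t (hZtop ▸ Subgroup.mem_top t) ht
  obtain ⟨m₁, hm₁⟩ := h.trans c a
  obtain ⟨m₂, hm₂⟩ := h.trans c b
  have hf : ∀ (m : M) (p : Ω), m • c = p → t • p = p → t • (m : M ⧸ H) = (m : M ⧸ H) := fun m p e ep => by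
    refine fix_iff.mpr ?_
    show (m⁻¹ * t * m) • c = c
    rw [mul_smul, mul_smul, e, ep, inv_smul_eq_iff, e]
  have h12 : ((m₁ : M) : M ⧸ H) = (m₂ : M ⧸ H) := (hq _ (hf m₁ a hm₁ hta)).trans (hq _ (hf m₂ b hm₂ htb)).symm
  have h4 : (m₁⁻¹ * m₂) • c = c := QuotientGroup.eq.mp h12
  rw [mul_smul, inv_smul_eq_iff, hm₁, hm₂] at h4
  exact hab h4.symm

end Act

end CfsgLib.TwoTransOdd
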