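import Cfsg.Prelude.Def_Sz
import Cfsg.Prelude.Def_Classical
import Cfsg.Prelude.Def_Spor_Mathieu
import Cfsg.Agent.Lib.Perm.SocleApps
import Cfsg.Agent.Lib.CoreKill.FromStruct
import Cfsg.Agent.Lib.CyclicInt.Fusion
import Cfsg.Agent.Lib.Bender.ConsSimple
import Cfsg.Agent.Lib.Involutions

/-!
Doubly transitive groups of odd degree in which a four group fixes only one point: the socle and what the doubly
transitive group leaves on it.

Blueprint: `blueprint/S3120.md`, Setup.
-/

set_option autoImplicit false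
set_option linter.unusedSectionVars false
set_option linter.style.haveILetI false

universe u v

namespace CfsgLib.TwoTransOdd

open MulAction
open CfsgLib.Bender.TwoClosed (IsInv)
open CfsgLib.Bender.Assembly (orderOf_two isInv_of_orderOf)

/-- What is used about the socle `M`. -/
structure Act (M : Type u) (Ω : Type v) [Group M] [MulAction M Ω] : Prop where
  simple : IsSimpleGroup M
  noncomm : ¬ IsMulCommutative M
  odd : Odd (Nat.card Ω)
  nontriv : ∀ a : Ω, ∃ b, b ≠ a
  trans : ∀ x y : Ω, ∃ m : M, m • x = y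
  /-- A four group fixes at most one point. -/
  unique : ∀ u v : M, IsInv u → IsInv v → Commute u v → ∀ x y : Ω, x ≠ y → u • x = x → u • y = y → v • x = x →
    v • y = y → u = v
  /-- All pairs carry the same number of involutions. -/
  count : ∀ a b c d : Ω, a ≠ b → c ≠ d →
    Nat.card {v : M // IsInv v ∧ v • a = a ∧ v • b = b} = Nat.card {v : M // IsInv v ∧ v • c = c ∧ v • d = d}
  /-- The centraliser of an involution is transitive on the points it fixes. -/
  fixTrans : ∀ t : M, IsInv t → ∀ a b : Ω, t • a = a → t • b = b → ∃ m : M, Commute m t ∧ m • a = b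
  /-- The orbits of the centraliser in a stabiliser on the other fixed points have equal size. -/
  orbit : ∀ t : M, IsInv t → ∀ a b c : Ω, t • a = a → t • b = b → t • c = c → b ≠ a → c ≠ a →
    Nat.card (orbit ↥(Subgroup.centralizer ({t} : Set M) ⊓ stabilizer M a) b) =
      Nat.card (orbit ↥(Subgroup.centralizer ({t} : Set M) ⊓ stabilizer M a) c)

/-- The socle `M` acting in degree `n`. -/
def Target (M : Type u) [Group M] (n : ℕ) : Prop :=
  (∃ (F : Type) (_ : Field F) (_ : Fintype F), ringChar F = 2 ∧ n = Fintype.card F + 1 ∧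
      Nonempty (M ≃* Matrix.ProjectiveSpecialLinearGroup (Fin 2) F)) ∨
    (∃ (F : Type) (_ : Field F) (_ : Fintype F) (m : ℕ), 1 ≤ m ∧ Fintype.card F = 2 ^ (2 * m + 1) ∧
      n = Fintype.card F ^ 2 + 1 ∧ Nonempty (M ≃* ↥(Cfsg.Lie.Sz F (2 ^ (m + 1))))) ∨
    (∃ (F : Type) (_ : Field F) (_ : Fintype F) (q : ℕ), Even q ∧ Fintype.card F = q ^ 2 ∧ n = q ^ 3 + 1 ∧
      Nonempty (M ≃* Cfsg.PSU 3 F q)) ∨
    (n = 11 ∧ ((∃ (F : Type) (_ : Field F) (_ : Fintype F), Fintype.card F = 11 ∧
        Nonempty (M ≃* Matrix.ProjectiveSpecialLinearGroup (Fin 2) F)) ∨ Cfsg.Spor.IsoM11 M))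

section General

variable {G : Type u} [Group G] [Finite G]

/-- In a nonabelian simple group every involution commutes with another one. -/
theorem exists_other_inv [IsSimpleGroup G] (hG : ¬ IsMulCommutative G) {t : G} (ht : IsInv t) :
    ∃ v : G, IsInv v ∧ v ≠ t ∧ Commute v t := by
  haveI := Fact.mk Nat.prime_two
  obtain ⟨S, hS⟩ := (CoreKill.zpowers_inv ht).exists_le_sylow
  have htS : t ∈ (S : Subgroup G) := hS (Subgroup.mem_zpowers t)
  by_contra hno
  push Not at hno
  have hone : ∀ x ∈ (S : Subgroup G), IsInv x → x = t := by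
    haveI : Group.IsNilpotent ↥(S : Subgroup G) := S.isPGroup'.isNilpotent
    obtain ⟨c, hc, hcc⟩ : ∃ c : ↥(S : Subgroup G), IsInv c ∧ ∀ s, Commute s c := by
      have hS1 : Nontrivial ↥(S : Subgroup G) := ⟨⟨⟨t, htS⟩, 1, fun e => ht.1 (congrArg Subtype.val e)⟩⟩
      have h2 : 2 ∣ Nat.card ↥(Subgroup.center ↥(S : Subgroup G)) := by
        obtain ⟨k, hk⟩ := IsPGroup.iff_card.mp (S.isPGroup'.to_subgroup (Subgroup.center ↥(S : Subgroup G)))
        rw [hk]
        refine dvd_pow_self 2 fun e => ?_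
        haveI := S.isPGroup'.center_nontrivial
        rw [e, pow_zero] at hk
        exact (Finite.one_lt_card (α := Subgroup.center ↥(S : Subgroup G))).ne' hk
      obtain ⟨c, hc⟩ := exists_prime_orderOf_dvd_card' 2 h2
      refine ⟨c, ?_, fun s => Subgroup.mem_center_iff.mp c.2 s⟩
      have := isInv_of_orderOf hc
      exact ⟨fun e => this.1 (Subtype.ext e), congrArg Subtype.val this.2⟩
    have hct : (c : G) = t := by
      by_contra hne
      exact hno (c : G) ⟨fun e => hc.1 (Subtype.ext e), congrArg Subtype.val hc.2⟩ hne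
        (show (c : G) * t = t * c from (congrArg Subtype.val (hcc ⟨t, htS⟩).eq).symm)
    intro x hxS hx
    by_contra hne
    exact hno x hx hne (show x * t = t * x from hct ▸ congrArg Subtype.val (hcc ⟨x, hxS⟩).eq)
  obtain ⟨z, hz, N, hN, hNodd, hzN⟩ := Cfsg.Agent.S0225.result
    (even_iff_two_dvd.mpr (orderOf_two ht ▸ orderOf_dvd_natCard t)) (fun E hE => by
      haveI := hE
      have hE2 : IsPGroup 2 E := IsPGroup.of_card (n := 2) (by rw [IsKleinFour.card_four]; norm_num)
      obtain ⟨g, -, hg⟩ := Bender.Q.exists_conj_sylow (S := S) le_top hE2 le_top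
      have hall : ∀ x : E, x ≠ 1 → g * (x : G) * g⁻¹ = t := fun x hx => hone _ (hg _ x.2)
        (IsInv.conj ⟨fun e => hx (Subtype.ext e), by
          have := IsKleinFour.mul_self x
          exact congrArg Subtype.val this⟩ g)
      haveI : Nontrivial E := Finite.one_lt_card_iff_nontrivial.1 (by rw [IsKleinFour.card_four]; omega)
      obtain ⟨x, hx⟩ := exists_ne (1 : E)
      have : ∀ y : E, y = 1 ∨ y = x := fun y => or_iff_not_imp_left.mpr fun hy =>
        Subtype.ext (mul_left_cancel (mul_right_cancel ((hall y hy).trans (hall x hx).symm)))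
      have h4 : Nat.card E ≤ 2 := by
        refine le_of_le_of_eq (Nat.card_le_card_of_surjective (fun b : Bool => if b then x else 1) fun y => ?_)
          (by simp)
        rcases this y with rfl | rfl
        exacts [⟨false, rfl⟩, ⟨true, rfl⟩]
      rw [IsKleinFour.card_four] at h4
      omega)
  rcases hN.eq_bot_or_eq_top with e | e
  · have hzc : z ∈ Subgroup.center G := Subgroup.mem_center_iff.2 fun g => by
      have := hzN g
      rw [e, Subgroup.mem_bot, mul_inv_eq_one, mul_inv_eq_iff_eq_mul] at this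
      exact this.symm
    rcases (inferInstance : (Subgroup.center G).Normal).eq_bot_or_eq_top with ec | ec
    · rw [ec, Subgroup.mem_bot] at hzc
      rw [hzc, orderOf_one] at hz
      norm_num at hz
    · exact hG ⟨⟨fun a b => (Subgroup.mem_center_iff.1 (ec ▸ Subgroup.mem_top b) a)⟩⟩
  · rw [e, Subgroup.card_top] at hNodd
    exact Nat.not_odd_iff_even.2 (even_iff_two_dvd.mpr (orderOf_two ht ▸ orderOf_dvd_natCard t)) hNodd

variable {Ω : Type v} [MulAction G Ω]

/-- A 2-group has an odd number of fixed points on a set of odd size. -/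
theorem odd_fixed [Finite Ω] (hodd : Odd (Nat.card Ω)) {U : Subgroup G} (hU : IsPGroup 2 U) :
    Odd (Nat.card {x : Ω // ∀ u ∈ U, u • x = x}) := by
  haveI := Fact.mk Nat.prime_two
  have h := hU.card_modEq_card_fixedPoints Ω
  have e : Nat.card (fixedPoints U Ω) = Nat.card {x : Ω // ∀ u ∈ U, u • x = x} :=
    Nat.card_congr (Equiv.subtypeEquivRight fun x => ⟨fun h u hu => h ⟨u, hu⟩, fun h u => h u u.2⟩)
  rw [e] at h
  exact Nat.odd_iff.mpr ((show _ % 2 = _ % 2 from h.symm).trans (Nat.odd_iff.mp hodd))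

theorem exists_fixed [Finite Ω] (hodd : Odd (Nat.card Ω)) {U : Subgroup G} (hU : IsPGroup 2 U) :
    ∃ x : Ω, ∀ u ∈ U, u • x = x := by
  obtain ⟨⟨x, hx⟩⟩ := (Nat.card_pos_iff.mp (odd_fixed hodd hU).pos).1
  exact ⟨x, hx⟩

theorem fix_conj {g u : G} {x y : Ω} (h : g • x = y) (hu : u • x = x) : (g * u * g⁻¹) • y = y := by
  rw [← h, mul_smul, mul_smul, inv_smul_smul, hu]

/-- Involutions fixing two points are conjugate under the two stabilisers. -/
theorem exists_conj_two (hU : ∀ u v : G, IsInv u → IsInv v → Commute u v → ∀ x y : Ω, x ≠ y → u • x = x →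
      u • y = y → v • x = x → v • y = y → u = v)
    {a b : Ω} (hab : a ≠ b) {s t : G} (hs : IsInv s) (ht : IsInv t) (hsa : s • a = a) (hsb : s • b = b)
    (hta : t • a = a) (htb : t • b = b) : ∃ g : G, g • a = a ∧ g • b = b ∧ g * s * g⁻¹ = t := by
  have hodd : Odd (orderOf (s * t)) := by
    rw [← Nat.not_even_iff_odd]
    intro hev
    obtain ⟨h1, h2⟩ := Involutions.central_half hs.2 ht.2 hev
    have hwi := isInv_of_orderOf (Involutions.orderOf_half (x := s) (y := t) hev)
    have hfix : ∀ (c : Ω), s • c = c → t • c = c → (s * t) ^ (orderOf (s * t) / 2) • c = c := fun c h1 h2 =>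
      (stabilizer G c).pow_mem ((stabilizer G c).mul_mem h1 h2) _
    have e1 := hU s _ hs hwi h1.symm a b hab hsa hsb (hfix a hsa hta) (hfix b hsb htb)
    have e2 := hU t _ ht hwi h2.symm a b hab hta htb (hfix a hsa hta) (hfix b hsb htb)
    have hw1 : s * t = 1 := by rw [e1.trans e2.symm, ht.2]
    have := Involutions.orderOf_half (x := s) (y := t) hev
    rw [hw1, one_pow, orderOf_one] at this
    omega
  obtain ⟨d, hd, e⟩ := Involutions.exists_conj_eq_of_odd hs.2 ht.2 hodd
  have hle : Subgroup.closure ({s, t} : Set G) ≤ stabilizer G a ⊓ stabilizer G b := by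
    rw [Subgroup.closure_le]
    rintro x (rfl | rfl)
    exacts [⟨hsa, hsb⟩, ⟨hta, htb⟩]
  exact ⟨d, (hle hd).1, (hle hd).2, e⟩

end General

/-- The hypotheses on the doubly transitive group. -/
structure Sit (G : Type u) (Ω : Type v) [Group G] [MulAction G Ω] : Prop where
  two : ∀ a b c d : Ω, a ≠ b → c ≠ d → ∃ g : G, g • a = c ∧ g • b = d
  odd : Odd (Nat.card Ω)
  nontriv : ∀ a : Ω, ∃ b, b ≠ a
  unique : ∀ u v : G, IsInv u → IsInv v → Commute u v → ∀ x y : Ω, x ≠ y → u • x = x → u • y = y → v • x = x →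
    v • y = y → u = v

namespace Sit

variable {G : Type u} [Group G] [Finite G] {Ω : Type v} [Finite Ω] [MulAction G Ω]

/-- The centraliser of an involution is doubly transitive on the points it fixes. -/
theorem witt (h : Sit G Ω) {t : G} (ht : IsInv t) {a b c d : Ω} (hab : a ≠ b) (hcd : c ≠ d) (ha : t • a = a)
    (hb : t • b = b) (hc : t • c = c) (hd : t • d = d) : ∃ g : G, g • a = c ∧ g • b = d ∧ Commute g t := by
  obtain ⟨g, hgc, hgd⟩ := h.two a b c d hab hcd
  obtain ⟨k, hkc, hkd, hk⟩ := exists_conj_two h.unique hcd (ht.conj g) ht (fix_conj hgc ha) (fix_conj hgd hb) hc hd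
  refine ⟨k * g, by rw [mul_smul, hgc, hkc], by rw [mul_smul, hgd, hkd], ?_⟩
  show k * g * t = t * (k * g)
  calc k * g * t = k * (g * t * g⁻¹) * k⁻¹ * (k * g) := by group
    _ = t * (k * g) := by rw [hk]

variable [FaithfulSMul G Ω]

/-- Either a regular normal subgroup or a simple socle. -/
theorem socle (h : Sit G Ω) :
    (∃ N : Subgroup G, N.Normal ∧ (∀ x y : Ω, ∃ n ∈ N, n • x = y) ∧ ∀ x : Ω, ∀ n ∈ N, n • x = x → n = 1) ∨
      ∃ N : Subgroup G, N.Normal ∧ N ≠ ⊥ ∧ (∀ K : Subgroup G, K.Normal → K ≠ ⊥ → N ≤ K) ∧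
        Subgroup.centralizer (N : Set G) = ⊥ ∧ Act ↥N Ω := by
  classical
  haveI := Fact.mk Nat.prime_two
  obtain ⟨a₀⟩ : Nonempty Ω := (Nat.card_pos_iff.mp h.odd.pos).1
  obtain ⟨b₀, hb₀⟩ := h.nontriv a₀
  have hprim : IsPreprimitive G Ω :=
    isPreprimitive_of_is_two_pretransitive (is_two_pretransitive_iff.mpr fun h1 h2 => h.two _ _ _ _ h1 h2)
  have hΩ : 2 ≤ Nat.card Ω := Finite.one_lt_card_iff_nontrivial.mpr ⟨⟨b₀, a₀, hb₀⟩⟩
  obtain ⟨N, hN, hN0, hmin, htr⟩ := Socle.exists_minimal hprim hΩ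
  haveI := hN
  by_cases hab : IsMulCommutative N
  · exact Or.inl ⟨N, hN, htr, fun x n hn hx => (Socle.abelian_regular hN0 hmin hab htr).1 n hn x hx⟩
  refine Or.inr ⟨N, hN, hN0, ?_⟩
  obtain ⟨D⟩ := Socle.exists_data N hN0 hmin hab
  -- one factor only
  have hone : D.s.card = 1 := by
    by_contra hne
    obtain ⟨T, hT⟩ := D.nonempty
    obtain ⟨T', hT', hTT'⟩ : ∃ T' ∈ D.s, T' ≠ T := by
      refine Finset.exists_mem_ne ?_ T
      have := Finset.card_pos.mpr D.nonempty
      omega
    haveI := D.simple T hT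
    have hTna : ¬ IsMulCommutative T := fun hc => by
      obtain ⟨x, hx, hx1⟩ := D.exists_ne hT
      exact hx1 (D.center T hT x hx fun y hy => congrArg Subtype.val (hc.is_comm.comm ⟨x, hx⟩ ⟨y, hy⟩))
    obtain ⟨z, hz⟩ := exists_prime_orderOf_dvd_card' 2
      (even_iff_two_dvd.mp (CyclicInt.even_card_of_simple (G := T) hTna))
    obtain ⟨w, hw, hwz, hwc⟩ := exists_other_inv hTna (isInv_of_orderOf hz)
    have hzG : IsInv (z : G) := CoreKill.isInv_sub.mp (isInv_of_orderOf hz)
    have hwG : IsInv (w : G) := CoreKill.isInv_sub.mp hw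
    have hcG : Commute (w : G) (z : G) := congrArg Subtype.val hwc.eq
    obtain ⟨U, -, -, hU2, hwU, hzU, -⟩ := CoreKill.pair_group hwG hzG (fun e => hwz (Subtype.ext e)) hcG
    obtain ⟨a, ha⟩ := exists_fixed h.odd hU2
    have hT'a : ∀ y ∈ T', y • a = a := by
      intro y hy
      by_contra hya
      refine hwz (Subtype.ext ?_)
      refine h.unique _ _ hwG hzG hcG a (y • a) (Ne.symm hya) (ha _ hwU) ?_ (ha _ hzU) ?_
      · rw [← mul_smul, D.comm T hT T' hT' hTT'.symm _ w.2 y hy, mul_smul, ha _ hwU]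
      · rw [← mul_smul, D.comm T hT T' hT' hTT'.symm _ z.2 y hy, mul_smul, ha _ hzU]
    obtain ⟨y, hy, hy1⟩ := D.exists_ne hT'
    refine hy1 (eq_of_smul_eq_smul (α := Ω) fun x => ?_)
    obtain ⟨m, hm, rfl⟩ := htr a x
    rw [one_smul, ← mul_smul, show y * m = m * (m⁻¹ * y * m) by group, mul_smul,
      hT'a _ (by simpa using D.norm T' hT' m⁻¹ (inv_mem hm) y hy)]
  obtain ⟨hs, hna⟩ := D.eq_simple_of_card_one hone
  haveI := hs
  obtain ⟨z, hz⟩ := exists_prime_orderOf_dvd_card' 2
    (even_iff_two_dvd.mp (CyclicInt.even_card_of_simple (G := N) hna))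
  have hcent : Subgroup.centralizer (N : Set G) = ⊥ := by
    refine (Subgroup.eq_bot_iff_forall _).mpr fun c hc => ?_
    by_contra hc1
    have hC : Subgroup.centralizer (N : Set G) ≠ ⊥ := fun e => hc1 (Subgroup.mem_bot.mp (e ▸ hc))
    obtain ⟨a, ha⟩ := exists_fixed h.odd (CoreKill.zpowers_inv (CoreKill.isInv_sub.mp (isInv_of_orderOf hz)))
    refine (isInv_of_orderOf hz).1 (Subtype.ext (Socle.semiregular_of_comm (Socle.trans_of_normal hprim _ hC)
      (fun k hk => (Subgroup.mem_centralizer_iff.mp hk z z.2)) (ha _ (Subgroup.mem_zpowers _))))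
  refine ⟨fun K hK hK0 => ?_, hcent, ?_⟩
  · rcases hmin (N ⊓ K) inferInstance inf_le_left with e | e
    · refine absurd ?_ hK0
      rw [eq_bot_iff, ← hcent]
      intro k hk
      refine Subgroup.mem_centralizer_iff.mpr fun n hn => ?_
      have h1 : n * k * n⁻¹ * k⁻¹ ∈ N ⊓ K := ⟨by
        rw [mul_assoc n k, mul_assoc n]
        exact mul_mem hn (hN.conj_mem _ (inv_mem hn) k), mul_mem (hK.conj_mem _ hk n) (K.inv_mem hk)⟩
      rw [e, Subgroup.mem_bot, mul_inv_eq_one, mul_inv_eq_iff_eq_mul] at h1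
      exact h1
    · exact e ▸ inf_le_right
  · have hcount : ∀ a b c d : Ω, a ≠ b → c ≠ d → Nat.card {v : N // IsInv v ∧ v • a = a ∧ v • b = b} ≤
        Nat.card {v : N // IsInv v ∧ v • c = c ∧ v • d = d} := by
      intro a b c d hab hcd
      obtain ⟨g, hgc, hgd⟩ := h.two a b c d hab hcd
      refine Nat.card_le_card_of_injective (fun v => ⟨⟨g * (v.1 : G) * g⁻¹, hN.conj_mem _ v.1.2 g⟩,
        CoreKill.isInv_sub.mpr ((CoreKill.isInv_sub.mp v.2.1).conj g), fix_conj hgc v.2.2.1, fix_conj hgd v.2.2.2⟩)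
        fun v w e => ?_
      exact Subtype.ext (Subtype.ext (mul_left_cancel (mul_right_cancel (congrArg (fun z => ((z.1 : N) : G)) e))))
    have horb : ∀ t : N, IsInv t → ∀ a b c : Ω, t • a = a → t • b = b → t • c = c → b ≠ a → c ≠ a →
        Nat.card (orbit ↥(Subgroup.centralizer ({t} : Set N) ⊓ stabilizer N a) b) ≤
          Nat.card (orbit ↥(Subgroup.centralizer ({t} : Set N) ⊓ stabilizer N a) c) := by
      intro t ht a b c ha hb hc hba hca
      obtain ⟨g, hga, hgb, hgt⟩ := h.witt (CoreKill.isInv_sub.mp ht) hba.symm hca.symm ha hb ha hc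
      refine Nat.card_le_card_of_injective (fun x => ⟨g • x.1, ?_⟩) fun x y e =>
        Subtype.ext (MulAction.injective g (congrArg Subtype.val e))
      obtain ⟨k, hk⟩ := x.2
      obtain ⟨hkc, hka⟩ := Subgroup.mem_inf.mp k.2
      have hkt : Commute ((k : N) : G) (t : G) := congrArg Subtype.val (Subgroup.mem_centralizer_singleton_iff.mp hkc)
      refine ⟨⟨⟨g * ((k : N) : G) * g⁻¹, hN.conj_mem _ (k : N).2 g⟩, ?_, fix_conj hga hka⟩, ?_⟩
      · exact Subgroup.mem_centralizer_singleton_iff.mpr (Subtype.ext ((hgt.mul_left hkt).mul_left hgt.inv_left).eq)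
      · show (g * ((k : N) : G) * g⁻¹) • c = g • x.1
        rw [← hgb, mul_smul, mul_smul, inv_smul_smul, ← hk]
        rfl
    refine ⟨hs, hna, h.odd, h.nontriv, fun x y => ?_, fun u v hu hv hc x y hxy h1 h2 h3 h4 => ?_,
      fun a b c d h1 h2 => (hcount a b c d h1 h2).antisymm (hcount c d a b h2 h1), fun t ht a b ha hb => ?_,
      fun t ht a b c h1 h2 h3 h4 h5 => (horb t ht a b c h1 h2 h3 h4 h5).antisymm (horb t ht a c b h1 h3 h2 h5 h4)⟩
    · obtain ⟨m, hm, e⟩ := htr x y
      exact ⟨⟨m, hm⟩, e⟩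
    · exact Subtype.ext (h.unique _ _ (CoreKill.isInv_sub.mp hu) (CoreKill.isInv_sub.mp hv)
        (congrArg Subtype.val hc.eq) x y hxy h1 h2 h3 h4)
    · by_cases hab : a = b
      · exact ⟨1, Commute.one_left t, by rw [one_smul, hab]⟩
      obtain ⟨v, hv, hvt, hvc⟩ := exists_other_inv hna ht
      obtain ⟨x, hx, hvx⟩ : ∃ x : Ω, t • x = x ∧ v • x ≠ x := by
        by_contra hall
        push Not at hall
        exact hvt (Subtype.ext (h.unique _ _ (CoreKill.isInv_sub.mp hv) (CoreKill.isInv_sub.mp ht)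
          (congrArg Subtype.val hvc.eq) a b hab (hall a ha) (hall b hb) ha hb))
      have hvx' : t • v • x = v • x := by rw [← mul_smul, ← hvc.eq, mul_smul, hx]
      obtain ⟨g, hga, hgb, hgt⟩ := h.witt (CoreKill.isInv_sub.mp ht) (Ne.symm hvx) hab hx hvx' ha hb
      refine ⟨⟨g * (v : G) * g⁻¹, hN.conj_mem _ v.2 g⟩, Subtype.ext
        ((hgt.mul_left (show Commute (v : G) (t : G) from congrArg Subtype.val hvc.eq)).mul_left hgt.inv_left).eq, ?_⟩
      show (g * (v : G) * g⁻¹) • a = b
      rw [← hga, mul_smul, mul_smul, inv_smul_smul]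
      exact hgb

end Sit

end CfsgLib.TwoTransOdd
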