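import Cfsg.Agent.Lib.TwoTransOdd.Reduce
import Cfsg.Agent.Lib.TwoTransOdd.NoGrid
import Cfsg.Agent.Lib.TwoTransOdd.Count
import Cfsg.Agent.Lib.CoreKill.FinishCtx
import Cfsg.Agent.S1291

/-!
Twins at a 2-central involution fixing several points: all involutions are conjugate, balance kills the cores, the
lines leave nine points, and these do not occur.

Blueprint: `blueprint/S3120.md`, B.
-/

set_option autoImplicit false
set_option linter.unusedSectionVars false
set_option linter.style.haveILetI false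

universe u v

namespace CfsgLib.TwoTransOdd

open MulAction
open CfsgLib.Bender.TwoClosed (IsInv)
open CfsgLib.Bender.Assembly (orderOf_two isInv_of_orderOf)
open CfsgLib.CoreKill (inCent inCent_comm isInv_sub)
open CfsgLib.CoreKill.Local (base fix_base)

variable {M : Type u} [Group M] [Finite M] {Ω : Type v} [Finite Ω] [MulAction M Ω]

/-- A Sylow subgroup of the centraliser of a 2-central involution is one of the group. -/
theorem exists_sylow_map {t : M} (hc : Central t) (P : Sylow 2 ↥(cen t)) :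
    ∃ S : Sylow 2 M, (S : Subgroup M) = (P : Subgroup ↥(cen t)).map (cen t).subtype := by
  haveI := Fact.mk Nat.prime_two
  obtain ⟨T, hT⟩ := hc
  obtain ⟨S, hS⟩ := (P.isPGroup'.map (cen t).subtype).exists_le_sylow
  obtain ⟨Q, hQ⟩ := (T.isPGroup'.comap_subtype (K := cen t)).exists_le_sylow
  refine ⟨S, (Subgroup.eq_of_le_of_card_ge hS ?_).symm⟩
  rw [Subgroup.card_map_of_injective (cen t).subtype_injective, P.card_eq_multiplicity, ← Q.card_eq_multiplicity,
    S.card_eq_multiplicity, ← T.card_eq_multiplicity, ← Nat.card_congr (Subgroup.subgroupOfEquivOfLe hT).toEquiv]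
  exact Subgroup.card_le_of_le hQ

namespace Act

variable (h : Act M Ω)
include h

/-- The stabiliser in the centraliser has orbits of equal size on the other fixed points. -/
theorem cenA_orbit {t : M} (ht : IsInv t) {a : Ω} (hta : t • a = a) (p q : ↥(cen t) ⧸ cenA t a)
    (hp : p ≠ base (cenA t a)) (hq : q ≠ base (cenA t a)) :
    Nat.card (MulAction.orbit ↥(cenA t a) p) = Nat.card (MulAction.orbit ↥(cenA t a) q) := by
  have key : ∀ p : ↥(cen t) ⧸ cenA t a,
      Nat.card (MulAction.orbit ↥(cenA t a) p) = Nat.card (MulAction.orbit ↥(cen t ⊓ stabilizer M a) (toPoint t a p)) := fun p => by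
    rw [← Nat.card_image_of_injective (toPoint_injective t a) (MulAction.orbit ↥(cenA t a) p)]
    congr 2
    ext c
    constructor
    · rintro ⟨_, ⟨k, rfl⟩, rfl⟩
      exact ⟨⟨((k : ↥(cen t)) : M), (k : ↥(cen t)).2, k.2⟩, (toPoint_smul t a (k : ↥(cen t)) p).symm⟩
    · rintro ⟨k, rfl⟩
      exact ⟨_, ⟨⟨⟨(k : M), (Subgroup.mem_inf.mp k.2).1⟩, (Subgroup.mem_inf.mp k.2).2⟩, rfl⟩,
        toPoint_smul t a ⟨(k : M), (Subgroup.mem_inf.mp k.2).1⟩ p⟩
  rw [key, key]
  refine h.orbit t ht a _ _ hta (h.toPoint_mem ht hta p) (h.toPoint_mem ht hta q) (fun e => hp ?_) (fun e => hq ?_)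
  · exact toPoint_injective t a (e.trans (toPoint_base t a).symm)
  · exact toPoint_injective t a (e.trans (toPoint_base t a).symm)

variable (h3 : ¬ Cfsg.PRankLE 2 2 M)
  (hns : ∀ t : M, IsInv t → Wide2 Ω t → Central t → ∀ a : Ω, t • a = a → ∀ P : Sylow 2 ↥(cen t),
    (P : Subgroup ↥(cen t)) ≤ cenA t a → ¬ CoreKill.Local.Struct (cenA t a) P (inCent t))
include h3 hns

/-- The twins at a 2-central involution. -/
theorem twins_at {t : M} (ht : IsInv t) (hw : Wide2 Ω t) (hc : Central t) {a : Ω} (hta : t • a = a) :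
    ∃ P : Sylow 2 ↥(cen t), CoreKill.Local.Pt (cenA t a) P (inCent t) ∧
      ∃ R C : Subgroup ↥(cen t), CoreKill.Local.Twins (cenA t a) P (inCent t) R C := by
  obtain ⟨P, hP⟩ := h.sylow_exists ht hta
  exact ⟨P, h.pt ht hta hw h3 hP,
    (h.outcome ht hta hw h3 hP).resolve_left (hns t ht hw hc a hta P hP)⟩

/-- Twins do not occur at 2-central involutions. -/
theorem no_twins {t : M} (ht : IsInv t) (hw : Wide2 Ω t) (hc : Central t) : False := by
  classical
  haveI := h.simple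
  haveI := Fact.mk Nat.prime_two
  obtain ⟨a, b, -, hta, -⟩ := id hw
  obtain ⟨P, hPt, R, C, D⟩ := h.twins_at h3 hns ht hw hc hta
  obtain ⟨S, hS⟩ := exists_sylow_map hc P
  -- one class
  obtain ⟨g, hgc, hgt⟩ : ∃ g : M, Commute t (g * t * g⁻¹) ∧ g * t * g⁻¹ ≠ t := by
    by_contra hno
    push Not at hno
    exact h.not_isolated ht hno
  have hall : ∀ x : M, IsInv x → ∃ k : M, k * t * k⁻¹ = x := by
    intro x hx
    obtain ⟨m, -, hm⟩ := Bender.Q.exists_conj_sylow (S := S) le_top (CoreKill.zpowers_inv hx) le_top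
    have hxS := hm x (Subgroup.mem_zpowers x)
    rw [hS] at hxS
    obtain ⟨x', -, hx'⟩ := hxS
    have hx'i : IsInv x' := isInv_sub.mpr (show IsInv ((cen t).subtype x') from hx'.symm ▸ hx.conj m)
    have hxe : (x' : M) = m * x * m⁻¹ := hx'
    by_cases hxt : x' = inCent t
    · refine ⟨m⁻¹, ?_⟩
      rw [show t = m * x * m⁻¹ by rw [← hxe, hxt]; rfl]; group
    obtain ⟨c, hc'⟩ := D.one ⟨g * t * g⁻¹, mem_cen.mpr hgc.symm⟩ x' (isInv_sub.mpr (ht.conj g))
      (fun e => hgt (congrArg Subtype.val e)) hx'i hxt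
    refine ⟨m⁻¹ * c * g, ?_⟩
    have h1 : (c : M) * (g * t * g⁻¹) * (c : M)⁻¹ = m * x * m⁻¹ := (congrArg Subtype.val hc').trans hxe
    calc m⁻¹ * (c : M) * g * t * (m⁻¹ * (c : M) * g)⁻¹ = m⁻¹ * ((c : M) * (g * t * g⁻¹) * (c : M)⁻¹) * m := by group
      _ = x := by rw [h1]; group
  have hgood : ∀ x : M, IsInv x → Wide2 Ω x ∧ Central x := fun x hx => by
    obtain ⟨k, rfl⟩ := hall x hx
    refine ⟨wide2_conj k hw, k • S, ?_⟩
    rintro _ ⟨s, hs, rfl⟩
    exact mem_cen.mpr (Bender.Q.conj_comm (mem_cen.mp (by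
      rw [hS] at hs
      obtain ⟨y, -, rfl⟩ := hs
      exact y.2)).eq)
  -- balance
  have key : ∀ x y : M, IsInv x → IsInv y → Commute x y →
      Cfsg.centralizerPPrimeCore 2 y ⊓ cen x ≤ Cfsg.centralizerPPrimeCore 2 x := by
    intro x y hx hy hxy
    by_cases hne : x = y
    · exact hne ▸ inf_le_left
    obtain ⟨d, hdy, hdx⟩ := h.exists_common hx hy hxy.symm
    obtain ⟨Px, hPx, Rx, Cx, Dx⟩ := h.twins_at h3 hns hx (hgood x hx).1 (hgood x hx).2 hdx
    let y' : ↥(cen x) := ⟨y, mem_cen.mpr hxy.symm⟩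
    have hy'i : IsInv y' := isInv_sub.mpr hy
    obtain ⟨c, -, hcP⟩ := Bender.Q.exists_conj_sylow (S := Px) le_top (CoreKill.zpowers_inv hy'i) le_top
    set z := c * y' * c⁻¹
    have hzt : z ≠ inCent x := hPx.toPt0.ne_conj (fun e : y' = inCent x => hne (congrArg Subtype.val e).symm) c
    set A := (Cfsg.centralizerPPrimeCore 2 (z : M)).subgroupOf (cen x)
    have h1 : A ≤ Cfsg.oddCore _ := by
      refine (CoreKill.Local.Twin.bal_rigid hPx Dx.twin Dx.one).1 z (hcP y' (Subgroup.mem_zpowers y')) (hy'i.conj c)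
        hzt A ?_ (fun w hw => Subgroup.mem_centralizer_singleton_iff.mpr (Subtype.ext (CharTwoEarly.core_comm hw)))
        fun w hw => Comp.mem_normalizer_of_maps fun o ho =>
          CharTwoEarly.conj_mem_core (congrArg Subtype.val (Subgroup.mem_centralizer_singleton_iff.mp hw)) ho
      exact (CharTwoEarly.odd_core (z : M)).of_dvd_nat (Subgroup.card_dvd_of_injective
        ((cen x).subtype.subgroupComap _)
        (fun u w e => Subtype.ext (Subtype.ext (congrArg (fun q : Cfsg.centralizerPPrimeCore 2 (z : M) => (q : M)) e))))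
    intro w hw
    obtain ⟨hwy, hwx⟩ := Subgroup.mem_inf.mp hw
    let w' : ↥(cen x) := ⟨w, hwx⟩
    have h2 : c * w' * c⁻¹ ∈ Cfsg.oddCore ↥(cen x) := h1 (by
      show (c : M) * w * (c : M)⁻¹ ∈ Cfsg.centralizerPPrimeCore 2 ((c : M) * y * (c : M)⁻¹)
      rw [CoreKill.core_equi]
      exact ⟨w, hwy, rfl⟩)
    have h4 : w' ∈ Cfsg.oddCore ↥(cen x) := by
      have := (Cfsg.pPrimeCore_normal 2 ↥(cen x)).conj_mem _ h2 c⁻¹
      rwa [inv_inv, show c⁻¹ * (c * w' * c⁻¹) * c = w' by group] at this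
    exact ⟨w', h4, rfl⟩
  have hbal : Cfsg.IsBalanced M := fun x y hx hy hxy => le_antisymm
    (le_inf (key y x (isInv_of_orderOf hy) (isInv_of_orderOf hx) hxy.symm) (inf_le_left.trans (CharTwoEarly.core_le x)))
    (le_inf (key x y (isInv_of_orderOf hx) (isInv_of_orderOf hy) hxy) (inf_le_left.trans (CharTwoEarly.core_le y)))
  have hconn : Cfsg.IsFourConnected ↥(S : Subgroup M) := by
    obtain ⟨E, hEP, hE, hE8⟩ := hPt.eight
    refine CoreKill.isFourConnected_of_equiv
      (((P : Subgroup ↥(cen t)).equivMapOfInjective _ (cen t).subtype_injective).trans (MulEquiv.subgroupCongr hS.symm))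
      (CoreKill.isFourConnected_of_central P.isPGroup' (z := ⟨inCent t, hPt.t_mem_P⟩) (isInv_sub.mpr hPt.inv)
        (fun s => Subtype.ext (inCent_comm (s : ↥(cen t)))) (E := E.subgroupOf (P : Subgroup ↥(cen t)))
        (SolvSF.ea_of_comm (fun x hx y hy => Subtype.ext (Signalizer.ea_comm hE hx hy)) fun x hx =>
          Subtype.ext (hE.2 _ hx))
        (by rw [Nat.card_congr (Subgroup.subgroupOfEquivOfLe hEP).toEquiv]; exact hE8) fun x hx hxt => ?_)
    obtain ⟨B, hBP, hB, hB8, htB, hxB⟩ := D.ovr x x.2 (isInv_sub.mp hx) fun e => hxt (Subtype.ext e)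
    exact ⟨B.subgroupOf (P : Subgroup ↥(cen t)),
      SolvSF.ea_of_comm (fun x hx y hy => Subtype.ext (Signalizer.ea_comm hB hx hy)) fun x hx =>
        Subtype.ext (hB.2 _ hx),
      by rw [Nat.card_congr (Subgroup.subgroupOfEquivOfLe hBP).toEquiv]; exact hB8, htB, hxB⟩
  have hO : ∀ x : M, IsInv x → Cfsg.oddCore ↥(cen x) = ⊥ := fun x hx => by
    have h1 := Cfsg.Agent.S1291.result hbal (CoreKill.oddCore_eq_bot_of_simple h.noncomm) h3 (Or.inr ⟨S, hconn⟩) x
      (orderOf_two hx)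
    exact (Subgroup.map_eq_bot_iff_of_injective _ (cen x).subtype_injective).mp h1
  refine h.no_nine (fun x hx d hxd => ?_) (fun x y hx hy => ?_) ht hta
  · obtain ⟨Px, hPx, Rx, Cx, Dx⟩ := h.twins_at h3 hns hx (hgood x hx).1 (hgood x hx).2 hxd
    refine ⟨Px, Rx, Cx, hPx, Dx, hO x hx, ?_⟩
    by_contra hcl
    have hG : CoreKill.Local.Grid (cenA x d) (inCent x) Rx Cx := fun r hr hr1 hrt =>
      (Dx.dichotomy hPx (hO x hx) hr hr1 hrt).resolve_left fun hk => hcl (Dx.closed_of_keep hPx hr hr1 hrt hk)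
    obtain ⟨r, hr, hr1, hrt⟩ := (CoreKill.Local.QG.of_R hPx Dx.twin).exists_proper hPx
    obtain ⟨p, hp⟩ : ∃ p, p ∈ CoreKill.Local.rest (cenA x d) Rx Cx := by
      by_contra hno
      push Not at hno
      exact hcl ⟨r, hr, hr1, fun p hp => (not_not.mp (hno p)).resolve_left hp⟩
    exact Dx.no_grid hPx (hO x hx) hG (h.cenA_orbit hx hxd) hp
  · obtain ⟨k, hk⟩ := hall x hx
    obtain ⟨l, hl⟩ := hall y hy
    exact ⟨l * k⁻¹, by rw [← hk, ← hl]; group⟩

end Act

end CfsgLib.TwoTransOdd
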